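import Cfsg.Agent.Lib.CNStruct.Radical
import Cfsg.Agent.Lib.AutPSL.Descent
import Cfsg.Agent.Lib.AutPSL.Structure
import Cfsg.Agent.Lib.Suzuki.Aut

/-!
# Outer automorphisms fixing a non-nilpotent subgroup

In a CN-group a simple normal subgroup with trivial centralizer admits no outer element acting, up to
an inner automorphism, trivially on a pair of non-commuting elements of coprime orders.
-/

set_option autoImplicit false
set_option linter.style.haveILetI false
set_option linter.unusedSectionVars false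

open scoped MatrixGroups

namespace CfsgLib.CNStruct

/-- Up to an inner automorphism `α` fixes two non-commuting elements of coprime orders. -/
def HasPair {M : Type*} [Group M] (α : MulAut M) : Prop :=
  ∃ k x y : M, k * α x * k⁻¹ = x ∧ k * α y * k⁻¹ = y ∧ (orderOf x).Coprime (orderOf y) ∧
    x * y ≠ y * x

/-- `α` is inner. -/
def IsInn {M : Type*} [Group M] (α : MulAut M) : Prop := ∃ k : M, α = MulAut.conj k

/-- The automorphism induced on a model of a normal subgroup. -/
noncomputable def induced {G M : Type*} [Group G] [Group M] (L : Subgroup G) [L.Normal] (e : L ≃* M) :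
    G →* MulAut M :=
  (MulAut.congr e).toMonoidHom.comp MulAut.conjNormal

theorem induced_apply {G M : Type*} [Group G] [Group M] (L : Subgroup G) [L.Normal] (e : L ≃* M)
    (g : G) (x : M) : ((e.symm (induced L e g x) : L) : G) = g * (e.symm x : L) * g⁻¹ := by
  simp [induced]

theorem mem_of_pair {G M : Type*} [Group G] [Finite G] [Group M] (hCN : Cfsg.IsCNGroup G)
    (L : Subgroup G) [L.Normal] (hC : ∀ g : G, (∀ l ∈ L, g * l = l * g) → g = 1) (e : L ≃* M) (g : G)
    (h : IsInn (induced L e g) ∨ HasPair (induced L e g)) : g ∈ L := by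
  rcases h with ⟨k, hk⟩ | ⟨k, x, y, hx, hy, hcop, hne⟩
  · have : ((e.symm k : L) : G)⁻¹ * g = 1 := by
      refine hC _ fun l hl => ?_
      have h := induced_apply L e g (e ⟨l, hl⟩)
      rw [hk, MulAut.conj_apply, map_mul, map_mul, map_inv, e.symm_apply_apply] at h
      simp only [Subgroup.coe_mul, Subgroup.coe_inv] at h
      set c := ((e.symm k : L) : G)
      calc c⁻¹ * g * l = c⁻¹ * (g * l * g⁻¹) * g := by group
        _ = l * (c⁻¹ * g) := by rw [← h]; group
    rw [inv_mul_eq_one] at this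
    exact this ▸ (e.symm k).2
  · set c := ((e.symm k : L) : G)
    have hfix : ∀ z, k * induced L e g z * k⁻¹ = z →
        ((e.symm z : L) : G) ∈ Subgroup.centralizer ({c * g} : Set G) := by
      intro z hz
      have h := induced_apply L e g z
      have h' : c * ((e.symm (induced L e g z) : L) : G) * c⁻¹ = (e.symm z : L) := by
        have := congrArg (fun w => ((e.symm w : L) : G)) hz
        simpa using this
      rw [h] at h'
      rw [mem_cent]
      nth_rw 1 [← h']
      group
    by_contra hg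
    have hne1 : c * g ≠ 1 := fun e1 => hg (by
      rw [eq_inv_of_mul_eq_one_right e1]; exact L.inv_mem (e.symm k).2)
    refine not_nilpotent (hfix x hx) (hfix y hy) ?_ (fun e' => hne ?_) (hCN _ hne1)
    · rw [Subgroup.orderOf_coe, Subgroup.orderOf_coe, MulEquiv.orderOf_eq, MulEquiv.orderOf_eq]
      exact hcop
    · exact e.symm.injective (Subtype.ext (by simpa using e'))

open CfsgLib.AutPSL Matrix

section PSL

variable {n : ℕ} {F : Type*} [Field F]

/-- A special matrix. -/
def mkS (M : Matrix (Fin n) (Fin n) F) (h : M.det = 1) : SL(n, F) := ⟨M, h⟩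

@[simp] theorem coe_mkS (M : Matrix (Fin n) (Fin n) F) (h : M.det = 1) :
    ((mkS M h : SL(n, F)) : Matrix (Fin n) (Fin n) F) = M := rfl

theorem mk_eq_mk_iff {s t : SL(n, F)} :
    (mkP s : PSL(n, F)) = mkP t ↔ ∃ z ∈ Subgroup.center SL(n, F), s = t * z := by
  constructor
  · intro h
    exact ⟨t⁻¹ * s, QuotientGroup.eq.1 h.symm, by group⟩
  · rintro ⟨z, hz, rfl⟩
    show (QuotientGroup.mk' _) (t * z) = QuotientGroup.mk' _ t
    rw [map_mul, show (QuotientGroup.mk' _) z = (1 : PSL(n, F)) from (QuotientGroup.eq_one_iff z).2 hz,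
      mul_one]

theorem center_diag {z : SL(n, F)} (hz : z ∈ Subgroup.center SL(n, F)) :
    ∃ c : F, ∀ i j : Fin n, (z : Matrix (Fin n) (Fin n) F) i j = if i = j then c else 0 := by
  obtain ⟨c, -, hc⟩ := Matrix.SpecialLinearGroup.mem_center_iff.1 hz
  exact ⟨c, fun i j => by rw [← hc]; simp [Matrix.scalar_apply, Matrix.diagonal_apply]⟩

/-- Splitting off a special matrix. -/
theorem delta_split (g d : GL (Fin n) F)
    (h : (g : Matrix (Fin n) (Fin n) F).det = (d : Matrix (Fin n) (Fin n) F).det) :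
    ∃ k : PSL(n, F), delta g = MulAut.conj k * delta d := by
  have hdet : ((g * d⁻¹ : GL (Fin n) F) : Matrix (Fin n) (Fin n) F).det = 1 := by
    rw [Units.val_mul, det_mul, Matrix.coe_units_inv, det_nonsing_inv, h,
      Ring.mul_inverse_cancel _ ((Matrix.isUnit_iff_isUnit_det _).1 d.isUnit)]
  obtain ⟨s, hs⟩ : ∃ s : SL(n, F), (s : Matrix (Fin n) (Fin n) F) = (g * d⁻¹ : GL (Fin n) F) :=
    ⟨⟨_, hdet⟩, rfl⟩
  refine ⟨mkP s, ?_⟩
  rw [← delta_toGL, ← map_mul]
  congr 1
  rw [eq_comm, ← eq_mul_inv_iff_mul_eq]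
  exact Units.ext hs

theorem delta_inner_of_det_pow {g : GL (Fin n) F} {c : Fˣ}
    (h : (g : Matrix (Fin n) (Fin n) F).det = (c : F) ^ n) : ∃ k : PSL(n, F), delta g = MulAut.conj k := by
  obtain ⟨k, hk⟩ := delta_split g (Matrix.GeneralLinearGroup.scalar (Fin n) c)
    (by rw [h]; simp [Matrix.GeneralLinearGroup.coe_scalar, Matrix.det_smul])
  exact ⟨k, by rw [hk, delta_eq_one_of_mem_center (scalar_mem_center c), mul_one]⟩

theorem hasPair_of_fix {α : MulAut PSL(n, F)} {k : PSL(n, F)} {β : MulAut PSL(n, F)}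
    (h : α = MulAut.conj k * β) {x y : PSL(n, F)} (hx : β x = x) (hy : β y = y)
    (hcop : (orderOf x).Coprime (orderOf y)) (hne : x * y ≠ y * x) : HasPair α := by
  refine ⟨k⁻¹, x, y, ?_, ?_, hcop, hne⟩
  · rw [h, MulAut.mul_apply, hx, MulAut.conj_apply]; group
  · rw [h, MulAut.mul_apply, hy, MulAut.conj_apply]; group

theorem orderOf_mk_dvd {s : SL(n, F)} {k : ℕ} (h : s ^ k ∈ Subgroup.center SL(n, F)) :
    orderOf (mkP s : PSL(n, F)) ∣ k :=
  orderOf_dvd_of_pow_eq_one (by rw [← map_pow]; exact (QuotientGroup.eq_one_iff _).2 h)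

end PSL

section Two

variable {F : Type*} [Field F] [Finite F]

/-- The central involution. -/
def negOne : SL(2, F) := ⟨-1, by simp [det_fin_two]⟩

theorem coe_negOne : ((negOne : SL(2, F)) : Matrix (Fin 2) (Fin 2) F) = -1 := rfl

theorem neg_one_mem_center : (negOne : SL(2, F)) ∈ Subgroup.center SL(2, F) := by
  refine Subgroup.mem_center_iff.2 fun s => Subtype.ext ?_
  rw [Matrix.SpecialLinearGroup.coe_mul, Matrix.SpecialLinearGroup.coe_mul, coe_negOne, mul_neg_one,
    neg_one_mul]

/-- Even characteristic, degree two. -/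
theorem outer_two_even [CharP F 2] (α : MulAut PSL(2, F)) : HasPair α := by
  obtain ⟨g, σ, rfl⟩ := exists_normal_form_two 2 α
  obtain ⟨c, hc⟩ := FiniteField.isSquare_of_char_two (ringChar.eq F 2) (g : Matrix (Fin 2) (Fin 2) F).det
  have hc0 : c ≠ 0 := fun e => ((Matrix.isUnit_iff_isUnit_det _).1 g.isUnit).ne_zero (by rw [hc, e, mul_zero])
  obtain ⟨k, hk⟩ := delta_inner_of_det_pow (g := g) (c := Units.mk0 c hc0) (by rw [hc, Units.val_mk0, pow_two])
  have h2 : (1 : F) + 1 = 0 := CharTwo.add_self_eq_zero 1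
  let a : SL(2, F) := mkS !![1, 1; 0, 1] (by simp [det_fin_two])
  let b : SL(2, F) := mkS !![0, 1; 1, 1] (by simp [det_fin_two, CharTwo.neg_eq])
  refine hasPair_of_fix (k := k) (β := fieldAut σ) (by rw [hk]) (x := mkP a) (y := mkP b) ?_ ?_ ?_ ?_
  · show ((mapMat σ a : SL(2, F)) : PSL(2, F)) = (a : PSL(2, F))
    congr 1
    refine Subtype.ext (Matrix.ext fun i j => ?_)
    show σ (a.1 i j) = a.1 i j
    fin_cases i <;> fin_cases j <;> simp [a]
  · show ((mapMat σ b : SL(2, F)) : PSL(2, F)) = (b : PSL(2, F))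
    congr 1
    refine Subtype.ext (Matrix.ext fun i j => ?_)
    show σ (b.1 i j) = b.1 i j
    fin_cases i <;> fin_cases j <;> simp [b]
  · refine Nat.Coprime.coprime_dvd_left (orderOf_mk_dvd (k := 2) ?_)
      (Nat.Coprime.coprime_dvd_right (orderOf_mk_dvd (k := 3) ?_) (by norm_num))
    · rw [show a ^ 2 = 1 from Subtype.ext (by
        ext i j; fin_cases i <;> fin_cases j <;> simp [a, pow_two, h2])]
      exact Subgroup.one_mem _
    · rw [show b ^ 3 = 1 from Subtype.ext (by
        ext i j; fin_cases i <;> fin_cases j <;> simp [b, pow_succ, h2])]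
      exact Subgroup.one_mem _
  · intro e
    rw [← map_mul, ← map_mul, mk_eq_mk_iff] at e
    obtain ⟨z, hz, he⟩ := e
    obtain ⟨c, hc⟩ := center_diag hz
    have h00 := congrFun (congrFun (congrArg Subtype.val he) 0) 0
    simp [a, b, Matrix.mul_apply, Fin.sum_univ_two, hc] at h00

/-- Odd characteristic: a matrix of non-square determinant has a pair. -/
theorem outer_two_odd_diag (hF : ringChar F ≠ 2) (h5 : 5 ≤ Nat.card F) {g : GL (Fin 2) F}
    (hg : ¬ IsSquare (g : Matrix (Fin 2) (Fin 2) F).det) :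
    HasPair (delta g : MulAut PSL(2, F)) := by
  classical
  haveI := Fintype.ofFinite F
  rw [Nat.card_eq_fintype_card] at h5
  have h2 : (2 : F) ≠ 0 := Ring.two_ne_zero hF
  have hsq : ∀ d : F, d ≠ 0 → ¬ IsSquare d →
      ∃ c : F, c ≠ 0 ∧ (g : Matrix (Fin 2) (Fin 2) F).det = d * c ^ 2 := by
    intro d hd hns
    have h1 : quadraticChar F (g : Matrix (Fin 2) (Fin 2) F).det = -1 :=
      quadraticChar_neg_one_iff_not_isSquare.2 hg
    have h3 : quadraticChar F d = -1 := quadraticChar_neg_one_iff_not_isSquare.2 hns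
    have hg0 : (g : Matrix (Fin 2) (Fin 2) F).det ≠ 0 := fun e => hg (by rw [e]; exact IsSquare.zero)
    obtain ⟨c, hc⟩ := (quadraticChar_one_iff_isSquare (mul_ne_zero hg0 hd)).1
      (by rw [map_mul, h1, h3]; norm_num)
    exact ⟨c / d, div_ne_zero (fun e => mul_ne_zero hg0 hd (by rw [hc, e, mul_zero])) hd, by
      field_simp
      linear_combination hc⟩
  have hmain : ∀ (d : GL (Fin 2) F), ¬ IsSquare (d : Matrix (Fin 2) (Fin 2) F).det →
      ∃ k : PSL(2, F), delta g = MulAut.conj k * delta d := by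
    intro d hd
    obtain ⟨c, hc0, hc⟩ := hsq _ ((Matrix.isUnit_iff_isUnit_det _).1 d.isUnit).ne_zero hd
    obtain ⟨k, hk⟩ := delta_split g (d * Matrix.GeneralLinearGroup.scalar (Fin 2) (Units.mk0 c hc0))
      (by rw [hc]; simp [Units.val_mul, det_mul, Matrix.GeneralLinearGroup.coe_scalar, Matrix.det_smul])
    exact ⟨k, by rw [hk, map_mul (delta (F := F) (n := 2)), delta_eq_one_of_mem_center (scalar_mem_center _),
      mul_one]⟩
  have hcard : Odd (Fintype.card F) := Nat.odd_iff.2 (FiniteField.odd_card_of_char_ne_two hF)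
  have hne : ∀ (x y : SL(2, F)), (∀ c : F, (x * y : SL(2, F)).1 ≠ ((y * x : SL(2, F)).1 * (c • 1))) →
      (mkP x : PSL(2, F)) * mkP y ≠ mkP y * mkP x := by
    intro x y h e
    rw [← map_mul, ← map_mul, mk_eq_mk_iff] at e
    obtain ⟨z, hz, he⟩ := e
    obtain ⟨c, hc⟩ := center_diag hz
    refine h c ?_
    rw [congrArg Subtype.val he, Matrix.SpecialLinearGroup.coe_mul,
      show (z : Matrix (Fin 2) (Fin 2) F) = c • 1 by ext i j; rw [hc]; simp [Matrix.one_apply]]
  by_cases hm : IsSquare (-1 : F)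
  · -- the non-split torus
    obtain ⟨ν, hν⟩ := FiniteField.exists_nonsquare hF
    obtain ⟨i, hi⟩ := hm
    have hν0 : ν ≠ 0 := fun e => hν (e ▸ IsSquare.zero)
    have hν1 : 1 - ν ≠ 0 := fun e => hν (by rw [← sub_eq_zero.1 e]; exact IsSquare.one)
    have hνm : 1 + ν ≠ 0 := fun e => hν (by
      rw [show ν = -1 by linear_combination e]; exact ⟨i, hi⟩)
    have hi0 : i ≠ 0 := fun e => by rw [e, mul_zero] at hi; exact neg_ne_zero.2 one_ne_zero hi
    let d : GL (Fin 2) F := Matrix.GeneralLinearGroup.mkOfDetNeZero !![0, ν; 1, 0]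
      (by simp [det_fin_two, hν0])
    have hdv : (d : Matrix (Fin 2) (Fin 2) F) = !![0, ν; 1, 0] := rfl
    have hdinv : ((d⁻¹ : GL (Fin 2) F) : Matrix (Fin 2) (Fin 2) F) = !![0, 1; ν⁻¹, 0] := by
      refine inv_eq_of_mul_eq_one_right (a := d) (b := Matrix.GeneralLinearGroup.mkOfDetNeZero
        !![0, 1; ν⁻¹, 0] (by simp [det_fin_two, hν0])) (Units.ext ?_) ▸ rfl
      show (!![0, ν; 1, 0] : Matrix (Fin 2) (Fin 2) F) * !![0, 1; ν⁻¹, 0] = 1
      ext i j
      fin_cases i <;> fin_cases j <;> simp [hν0]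
    obtain ⟨k, hk⟩ := hmain d (by
      rw [hdv]
      simp only [det_fin_two_of, zero_mul, mul_one, zero_sub]
      rintro ⟨r, hr⟩
      exact hν ⟨i * r, by linear_combination (-1 : F) * hr + r * r * hi⟩)
    set A := (1 + ν) / (1 - ν) with hA
    set B := 2 / (1 - ν) with hB
    have hA0 : A ≠ 0 := div_ne_zero hνm hν1
    have hB0 : B ≠ 0 := div_ne_zero h2 hν1
    have hAB : A * A - ν * B * B = 1 := by simp only [hA, hB]; field_simp; ring
    let x : SL(2, F) := mkS !![A, B * ν; B, A] (by rw [det_fin_two_of]; linear_combination hAB)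
    let s : SL(2, F) := mkS !![i, 0; 0, -i] (by rw [det_fin_two_of]; linear_combination hi)
    obtain ⟨j, hj⟩ : ∃ j, Fintype.card F = 4 * j + 1 := by
      have := FiniteField.isSquare_neg_one_iff.1 ⟨i, hi⟩
      have := Nat.odd_iff.1 hcard
      exact ⟨Fintype.card F / 4, by omega⟩
    refine hasPair_of_fix hk (x := mkP x) (y := mkP s) ?_ ?_ ?_ (hne _ _ fun c hc => ?_)
    · show ((conjMat d x : SL(2, F)) : PSL(2, F)) = (x : PSL(2, F))
      congr 1
      ext r t
      rw [conjMat_coe, hdv, hdinv]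
      fin_cases r <;> fin_cases t <;> simp [x, Matrix.mul_apply, Fin.sum_univ_two, hν0] <;> field_simp
    · show ((conjMat d s : SL(2, F)) : PSL(2, F)) = (s : PSL(2, F))
      refine mk_eq_mk_iff.2 ⟨_, neg_one_mem_center, Subtype.ext ?_⟩
      rw [Matrix.SpecialLinearGroup.coe_mul, conjMat_coe, hdv, hdinv]
      ext r t
      fin_cases r <;> fin_cases t <;> simp [s, coe_negOne, Matrix.mul_apply, Fin.sum_univ_two, hν0] <;> field_simp
    · refine Nat.Coprime.coprime_dvd_left (orderOf_mk_dvd (k := 2 * j + 1) ?_)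
        (Nat.Coprime.coprime_dvd_right (orderOf_mk_dvd (k := 2) ?_)
          (Nat.coprime_two_right.2 ⟨j, rfl⟩))
      · obtain ⟨e, -, he⟩ := FiniteField.card F (ringChar F)
        have hxq : x ^ Fintype.card F = x⁻¹ := by
          refine Subtype.ext ?_
          rw [Matrix.SpecialLinearGroup.coe_pow, Matrix.SpecialLinearGroup.coe_inv]
          show (!![A, B * ν; B, A] : Matrix (Fin 2) (Fin 2) F) ^ _ = _
          haveI : Fact (ringChar F).Prime := ⟨CharP.char_is_prime F _⟩
          set J : Matrix (Fin 2) (Fin 2) F := !![0, ν; 1, 0] with hJ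
          have hx' : (!![A, B * ν; B, A] : Matrix (Fin 2) (Fin 2) F) = A • 1 + B • J := by
            ext r t; fin_cases r <;> fin_cases t <;> simp [hJ]
          haveI : CharP (Matrix (Fin 2) (Fin 2) F) (ringChar F) := inferInstance
          have hJ2 : J ^ 2 = ν • 1 := by
            ext r t; fin_cases r <;> fin_cases t <;> simp [hJ, pow_two]
          have hνpow : ν ^ (2 * j) = -1 := by
            have := (FiniteField.isSquare_iff hF hν0).not.1 hν
            have h' := FiniteField.pow_dichotomy hF hν0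
            rw [show Fintype.card F / 2 = 2 * j by omega] at this h'
            exact h'.resolve_left this
          rw [hx', he, add_pow_char_pow_of_commute (R := Matrix (Fin 2) (Fin 2) F) (x := A • 1) (y := B • J) (ringChar F) (e : ℕ)
            (((Commute.one_left (B • J)).smul_left A)), ← he, smul_pow, smul_pow, one_pow,
            FiniteField.pow_card, FiniteField.pow_card, hj,
            show 4 * j + 1 = 2 * (2 * j) + 1 by ring, pow_succ, pow_mul, hJ2, smul_pow, one_pow, hνpow]
          ext r t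
          fin_cases r <;> fin_cases t <;> simp [x, hJ, adjugate_fin_two]
        set y := x ^ (2 * j + 1) with hy
        have hy2 : y ^ 2 = 1 := by
          rw [hy, ← pow_mul, show (2 * j + 1) * 2 = Fintype.card F + 1 by omega, pow_succ, hxq,
            inv_mul_cancel]
        -- an involution of `SL₂` is a scalar
        have hyi : y⁻¹ = y := inv_eq_of_mul_eq_one_right (by rw [← pow_two, hy2])
        have hadj : (y : Matrix (Fin 2) (Fin 2) F) = adjugate (y : Matrix (Fin 2) (Fin 2) F) := by
          rw [← Matrix.SpecialLinearGroup.coe_inv, hyi]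
        have e01 := congrFun (congrFun hadj 0) 1
        have e10 := congrFun (congrFun hadj 1) 0
        have e00 := congrFun (congrFun hadj 0) 0
        rw [adjugate_fin_two] at e01 e10 e00
        simp only [Matrix.of_apply, cons_val', cons_val_zero, cons_val_one, empty_val',
          cons_val_fin_one] at e01 e10 e00
        have z01 : (y : Matrix (Fin 2) (Fin 2) F) 0 1 = 0 :=
          (mul_eq_zero.1 (show (2 : F) * y.1 0 1 = 0 by linear_combination e01)).resolve_left h2
        have z10 : (y : Matrix (Fin 2) (Fin 2) F) 1 0 = 0 :=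
          (mul_eq_zero.1 (show (2 : F) * y.1 1 0 = 0 by linear_combination e10)).resolve_left h2
        refine Subgroup.mem_center_iff.2 fun t => Subtype.ext ?_
        ext r u
        fin_cases r <;> fin_cases u <;>
          simp [Matrix.mul_apply, Fin.sum_univ_two, z01, z10, e00] <;> ring
      · rw [show s ^ 2 = negOne from Subtype.ext (by
          ext r t; fin_cases r <;> fin_cases t <;> simp [s, coe_negOne, pow_two, ← hi])]
        exact neg_one_mem_center
    · have h00 := congrFun (congrFun hc 0) 0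
      have h10 := congrFun (congrFun hc 1) 0
      simp [x, s, Matrix.mul_apply, Fin.sum_univ_two, Matrix.one_apply] at h00 h10
      have hc1 : c = 1 := by
        refine mul_left_cancel₀ (mul_ne_zero hA0 hi0) ?_
        linear_combination -h00
      exact mul_ne_zero h2 (mul_ne_zero hB0 hi0) (by rw [hc1] at h10; linear_combination h10)
  · -- the split torus
    let d : GL (Fin 2) F := Matrix.GeneralLinearGroup.mkOfDetNeZero !![-1, 0; 0, 1]
      (by simp [det_fin_two])
    have hdv : (d : Matrix (Fin 2) (Fin 2) F) = !![-1, 0; 0, 1] := rfl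
    have hdinv : ((d⁻¹ : GL (Fin 2) F) : Matrix (Fin 2) (Fin 2) F) = !![-1, 0; 0, 1] := by
      refine inv_eq_of_mul_eq_one_right (a := d) (b := d) (Units.ext ?_) ▸ rfl
      show (!![-1, 0; 0, 1] : Matrix (Fin 2) (Fin 2) F) * !![-1, 0; 0, 1] = 1
      ext i j
      fin_cases i <;> fin_cases j <;> simp
    obtain ⟨k, hk⟩ := hmain d (by rw [hdv]; simpa [det_fin_two_of] using hm)
    obtain ⟨j, hj⟩ : ∃ j, Fintype.card F = 4 * j + 3 := by
      have := mt FiniteField.isSquare_neg_one_iff.2 hm
      have := Nat.odd_iff.1 hcard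
      exact ⟨Fintype.card F / 4, by omega⟩
    obtain ⟨u, hu⟩ := IsCyclic.exists_ofOrder_eq_natCard (α := Fˣ)
    rw [Nat.card_units, Nat.card_eq_fintype_card] at hu
    set l : F := (u : F) with hl
    have hl0 : l ≠ 0 := u.ne_zero
    have hl4 : l ^ 4 ≠ 1 := fun e => by
      have : u ^ 4 = 1 := Units.ext (by simpa using e)
      have := Nat.le_of_dvd (by norm_num) (hu ▸ orderOf_dvd_of_pow_eq_one this)
      omega
    let x : SL(2, F) := mkS !![l, 0; 0, l⁻¹] (by simp [det_fin_two_of, hl0])
    let s : SL(2, F) := mkS !![0, 1; -1, 0] (by simp [det_fin_two_of])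
    refine hasPair_of_fix hk (x := mkP x) (y := mkP s) ?_ ?_ ?_ (hne _ _ fun c hc => ?_)
    · show ((conjMat d x : SL(2, F)) : PSL(2, F)) = (x : PSL(2, F))
      congr 1
      ext r t
      rw [conjMat_coe, hdv, hdinv]
      fin_cases r <;> fin_cases t <;> simp [x, Matrix.mul_apply, Fin.sum_univ_two]
    · show ((conjMat d s : SL(2, F)) : PSL(2, F)) = (s : PSL(2, F))
      refine mk_eq_mk_iff.2 ⟨_, neg_one_mem_center, Subtype.ext ?_⟩
      rw [Matrix.SpecialLinearGroup.coe_mul, conjMat_coe, hdv, hdinv]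
      ext r t
      fin_cases r <;> fin_cases t <;> simp [s, coe_negOne, Matrix.mul_apply, Fin.sum_univ_two]
    · refine Nat.Coprime.coprime_dvd_left (orderOf_mk_dvd (k := 2 * j + 1) ?_)
        (Nat.Coprime.coprime_dvd_right (orderOf_mk_dvd (k := 2) ?_)
          (Nat.coprime_two_right.2 ⟨j, rfl⟩))
      · have hx : x ^ (2 * j + 1) = mkS !![l ^ (2 * j + 1), 0; 0, l⁻¹ ^ (2 * j + 1)] (by
            simp [det_fin_two_of, ← mul_pow, hl0]) := by
          refine Subtype.ext ?_
          rw [Matrix.SpecialLinearGroup.coe_pow]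
          show (!![l, 0; 0, l⁻¹] : Matrix (Fin 2) (Fin 2) F) ^ _ = _
          rw [show (!![l, 0; 0, l⁻¹] : Matrix (Fin 2) (Fin 2) F) = diagonal ![l, l⁻¹] by
            ext r t; fin_cases r <;> fin_cases t <;> simp, diagonal_pow]
          ext r t; fin_cases r <;> fin_cases t <;> simp
        have hpm : l⁻¹ ^ (2 * j + 1) = l ^ (2 * j + 1) := by
          rcases FiniteField.pow_dichotomy hF hl0 with h | h <;>
            rw [show Fintype.card F / 2 = 2 * j + 1 by omega] at h <;> rw [inv_pow, h] <;> simp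
        rw [hx]
        refine Subgroup.mem_center_iff.2 fun t => Subtype.ext ?_
        ext r v
        fin_cases r <;> fin_cases v <;>
          simp only [Matrix.SpecialLinearGroup.coe_mul, Matrix.mul_apply, Fin.sum_univ_two] <;>
          simp [hpm] <;> ring
      · rw [show s ^ 2 = negOne from Subtype.ext (by
          ext r t; fin_cases r <;> fin_cases t <;> simp [s, coe_negOne, pow_two])]
        exact neg_one_mem_center
    · have h01 := congrFun (congrFun hc 0) 1
      have h10 := congrFun (congrFun hc 1) 0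
      simp [x, s, Matrix.mul_apply, Fin.sum_univ_two, Matrix.one_apply] at h01 h10
      refine hl4 ?_
      field_simp at h01 h10
      grind

/-- Odd prime fields. -/
theorem outer_two_prime {p : ℕ} [Fact p.Prime] [CharP F p] (hp5 : 5 ≤ p) (hc : Nat.card F = p)
    (α : MulAut PSL(2, F)) : IsInn α ∨ HasPair α := by
  obtain ⟨g, σ, rfl⟩ := exists_normal_form_two p α
  have hσ : σ = 1 := by
    refine RingEquiv.ext fun z => ?_
    let ι : ZMod p →+* F := ZMod.castHom dvd_rfl F
    have hb := ι.injective.bijective_of_nat_card_le (by rw [hc, Nat.card_zmod])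
    obtain ⟨y, rfl⟩ := hb.2 z
    exact RingHom.congr_fun (RingHom.ext_zmod ((σ : F →+* F).comp ι) ι) y
  rw [hσ, map_one, mul_one]
  have hF : ringChar F ≠ 2 := by rw [ringChar.eq F p]; omega
  by_cases hs : IsSquare (g : Matrix (Fin 2) (Fin 2) F).det
  · left
    obtain ⟨c, hcs⟩ := hs
    have hc0 : c ≠ 0 := fun e =>
      ((Matrix.isUnit_iff_isUnit_det _).1 g.isUnit).ne_zero (by rw [hcs, e, mul_zero])
    exact delta_inner_of_det_pow (c := Units.mk0 c hc0) (by rw [hcs, Units.val_mk0, pow_two])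
  · exact Or.inr (outer_two_odd_diag hF (hc ▸ hp5) hs)

/-- The field with nine elements: the product of two bad automorphisms is good. -/
theorem outer_two_nine [CharP F 3] (α β : MulAut PSL(2, F))
    (hα : ¬ (IsInn α ∨ HasPair α)) (hβ : ¬ (IsInn β ∨ HasPair β)) :
    IsInn (α * β) ∨ HasPair (α * β) := by
  haveI : Fact (Nat.Prime 3) := ⟨Nat.prime_three⟩
  classical
  haveI := Fintype.ofFinite F
  have key : ∀ (g : GL (Fin 2) F) (σ : F ≃+* F), IsSquare (g : Matrix (Fin 2) (Fin 2) F).det →
      HasPair (delta g * fieldAut σ : MulAut PSL(2, F)) := by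
    intro g σ hs
    obtain ⟨c, hcs⟩ := hs
    have hc0 : c ≠ 0 := fun e =>
      ((Matrix.isUnit_iff_isUnit_det _).1 g.isUnit).ne_zero (by rw [hcs, e, mul_zero])
    obtain ⟨k, hk⟩ := delta_inner_of_det_pow (g := g) (c := Units.mk0 c hc0)
      (by rw [hcs, Units.val_mk0, pow_two])
    have h3 : (3 : F) = 0 := CharP.cast_eq_zero F 3
    let a : SL(2, F) := mkS !![1, 1; 0, 1] (by simp [det_fin_two])
    let b : SL(2, F) := mkS !![0, 1; -1, 0] (by simp [det_fin_two])
    refine hasPair_of_fix (k := k) (β := fieldAut σ) (by rw [hk]) (x := mkP b) (y := mkP a) ?_ ?_ ?_ ?_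
    · show ((mapMat σ b : SL(2, F)) : PSL(2, F)) = (b : PSL(2, F))
      congr 1
      refine Subtype.ext (Matrix.ext fun i j => ?_)
      show σ (b.1 i j) = b.1 i j
      fin_cases i <;> fin_cases j <;> simp [b]
    · show ((mapMat σ a : SL(2, F)) : PSL(2, F)) = (a : PSL(2, F))
      congr 1
      refine Subtype.ext (Matrix.ext fun i j => ?_)
      show σ (a.1 i j) = a.1 i j
      fin_cases i <;> fin_cases j <;> simp [a]
    · refine Nat.Coprime.coprime_dvd_left (orderOf_mk_dvd (k := 2) ?_)
        (Nat.Coprime.coprime_dvd_right (orderOf_mk_dvd (k := 3) ?_) (by norm_num))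
      · rw [show b ^ 2 = negOne from Subtype.ext (by
          ext i j; fin_cases i <;> fin_cases j <;> simp [b, coe_negOne, pow_two])]
        exact neg_one_mem_center
      · rw [show a ^ 3 = 1 from Subtype.ext (by
          ext i j; fin_cases i <;> fin_cases j <;> simp [a, pow_succ] <;> linear_combination h3)]
        exact Subgroup.one_mem _
    · intro e
      rw [← map_mul, ← map_mul, mk_eq_mk_iff] at e
      obtain ⟨z, hz, he⟩ := e
      obtain ⟨c, hc⟩ := center_diag hz
      have h00 := congrFun (congrFun (congrArg Subtype.val he) 0) 0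
      have h11 := congrFun (congrFun (congrArg Subtype.val he) 1) 1
      simp [a, b, Matrix.mul_apply, Fin.sum_univ_two, hc] at h00 h11
  obtain ⟨g, σ, rfl⟩ := exists_normal_form_two 3 α
  obtain ⟨g', σ', rfl⟩ := exists_normal_form_two 3 β
  have hgns : ¬ IsSquare (g : Matrix (Fin 2) (Fin 2) F).det := fun h => hα (Or.inr (key g σ h))
  have hg'ns : ¬ IsSquare (g' : Matrix (Fin 2) (Fin 2) F).det := fun h => hβ (Or.inr (key g' σ' h))
  refine Or.inr ?_
  rw [show delta g * fieldAut σ * (delta g' * fieldAut σ') =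
      (delta (g * mapGL σ g') * fieldAut (σ * σ') : MulAut PSL(2, F)) by
    rw [mul_assoc, ← mul_assoc (fieldAut σ), fieldAut_mul_delta, mul_assoc, ← map_mul fieldAut,
      ← mul_assoc, ← map_mul]]
  refine key _ _ ?_
  have hdet : (mapGL σ g' : Matrix (Fin 2) (Fin 2) F).det = σ (g' : Matrix (Fin 2) (Fin 2) F).det :=
    (RingEquiv.map_det σ _).symm
  have hσns : ¬ IsSquare (σ (g' : Matrix (Fin 2) (Fin 2) F).det) := fun ⟨c, hc⟩ =>
    hg'ns ⟨σ.symm c, by rw [← map_mul, ← hc, σ.symm_apply_apply]⟩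
  rw [Units.val_mul, det_mul, hdet]
  have h1 : quadraticChar F (g : Matrix (Fin 2) (Fin 2) F).det = -1 :=
    quadraticChar_neg_one_iff_not_isSquare.2 hgns
  have h3 : quadraticChar F (σ (g' : Matrix (Fin 2) (Fin 2) F).det) = -1 :=
    quadraticChar_neg_one_iff_not_isSquare.2 hσns
  exact (quadraticChar_one_iff_isSquare (mul_ne_zero (fun e => hgns (by rw [e]; exact IsSquare.zero))
    (fun e => hσns (by rw [e]; exact IsSquare.zero)))).1 (by rw [map_mul, h1, h3]; norm_num)

end Two

set_option maxHeartbeats 1000000 in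
/-- Even characteristic, degree three. -/
theorem outer_three_even {F : Type*} [Field F] [Finite F] [CharP F 2] (α : MulAut PSL(3, F)) :
    HasPair α := by
  obtain ⟨g, σ, e, rfl⟩ := exists_normal_form 2 (by norm_num) α
  have h2 : (1 : F) + 1 = 0 := CharTwo.add_self_eq_zero 1
  set c : Fˣ := ((Matrix.isUnit_iff_isUnit_det _).1 g.isUnit).unit with hc
  let d : GL (Fin 3) F := diagGL ![1, 1, c]
  obtain ⟨k, hk⟩ := delta_split g d (by
    show _ = (diagonal fun i => ((![1, 1, c] : Fin 3 → Fˣ) i : F)).det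
    rw [det_diagonal, Fin.prod_univ_three]
    simp [hc])
  let a : SL(3, F) := mkS !![1, 1, 0; 0, 1, 0; 0, 0, 1] (by simp [det_fin_three])
  let b : SL(3, F) := mkS !![0, 1, 0; 1, 1, 0; 0, 0, 1] (by simp [det_fin_three, CharTwo.neg_eq])
  let w : SL(3, F) := mkS !![0, 1, 0; 1, 0, 0; 0, 0, 1] (by simp [det_fin_three, CharTwo.neg_eq])
  have hwinv : w⁻¹ = w := inv_eq_of_mul_eq_one_right (Subtype.ext (by
    ext i j; fin_cases i <;> fin_cases j <;> simp [w]))
  have hcomm : ∀ s : SL(3, F), (∀ i j, i ≠ j → (i = 2 ∨ j = 2) → s.1 i j = 0) →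
      delta d (mkP s : PSL(3, F)) = mkP s := by
    intro s hs
    show ((conjMat d s : SL(3, F)) : PSL(3, F)) = (s : PSL(3, F))
    congr 1
    apply Subtype.ext
    rw [conjMat_coe, Units.mul_inv_eq_iff_eq_mul]
    ext i j
    show (diagonal (fun i => ((![1, 1, c] : Fin 3 → Fˣ) i : F)) * s.1) i j =
      (s.1 * diagonal (fun i => ((![1, 1, c] : Fin 3 → Fˣ) i : F))) i j
    rw [diagonal_mul, mul_diagonal]
    by_cases hij : i = j
    · rw [hij, mul_comm]
    by_cases h2' : i = 2 ∨ j = 2
    · rw [hs i j hij h2', mul_zero, zero_mul]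
    · push Not at h2'
      fin_cases i <;> fin_cases j <;> simp at h2' ⊢
  have hfld : ∀ s : SL(3, F), (∀ i j, σ (s.1 i j) = s.1 i j) →
      fieldAut σ (mkP s : PSL(3, F)) = mkP s := by
    intro s hs
    show ((mapMat σ s : SL(3, F)) : PSL(3, F)) = (s : PSL(3, F))
    congr 1
    exact Subtype.ext (Matrix.ext hs)
  have hga : ∀ s : SL(3, F), invTr s = w * s * w →
      (graphAut : MulAut PSL(3, F)) (mkP s) = mkP w * mkP s * mkP w := by
    intro s hs
    show ((invTr s : SL(3, F)) : PSL(3, F)) = _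
    rw [hs, ← map_mul, ← map_mul]
    rfl
  set γ : MulAut PSL(3, F) := graphPow e with hγdef
  set kw : PSL(3, F) := if e = 1 then 1 else mkP w with hkw
  have hfix : ∀ s : SL(3, F), (∀ i j, i ≠ j → (i = 2 ∨ j = 2) → s.1 i j = 0) →
      (∀ i j, σ (s.1 i j) = s.1 i j) → invTr s = w * s * w →
      (MulAut.conj kw * (delta d * fieldAut σ * γ) : MulAut PSL(3, F)) (mkP s) = mkP s := by
    intro s h1 h2' h3
    simp only [MulAut.mul_apply, MulAut.conj_apply]
    by_cases he : e = 1
    · have hγ : γ = 1 := if_pos he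
      rw [hγ, MulAut.one_apply, hfld s h2', hcomm s h1, hkw, if_pos he, one_mul, inv_one, mul_one]
    · have hγ : γ = graphAut := if_neg he
      rw [hγ, hga s h3, map_mul, map_mul, map_mul, map_mul, hfld s h2', hcomm s h1,
        hfld w (fun i j => by fin_cases i <;> fin_cases j <;> simp [w]),
        hcomm w (fun i j hij h => by fin_cases i <;> fin_cases j <;> simp [w] at hij h ⊢),
        hkw, if_neg he, ← map_inv, hwinv, ← map_mul, ← map_mul, ← map_mul, ← map_mul]
      congr 1
      calc w * (w * s * w) * w = (w * w⁻¹) * s * (w * w⁻¹) := by rw [hwinv]; group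
        _ = s := by group
  refine hasPair_of_fix (k := k * kw⁻¹) (β := MulAut.conj kw * (delta d * fieldAut σ * γ)) ?_
    (x := mkP a) (y := mkP b) (hfix a ?_ ?_ ?_) (hfix b ?_ ?_ ?_) ?_ ?_
  · rw [hk, map_mul, map_inv]; group
  · intro i j hij h; fin_cases i <;> fin_cases j <;> simp [a] at hij h ⊢
  · intro i j; fin_cases i <;> fin_cases j <;> simp [a]
  · apply Subtype.ext
    rw [invTr_coe, Matrix.SpecialLinearGroup.coe_inv, adjugate_fin_three]
    ext i j
    fin_cases i <;> fin_cases j <;> simp [a, w, CharTwo.neg_eq]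
  · intro i j hij h; fin_cases i <;> fin_cases j <;> simp [b] at hij h ⊢
  · intro i j; fin_cases i <;> fin_cases j <;> simp [b]
  · apply Subtype.ext
    rw [invTr_coe, Matrix.SpecialLinearGroup.coe_inv, adjugate_fin_three]
    ext i j
    fin_cases i <;> fin_cases j <;> simp [b, w, CharTwo.neg_eq, h2]
  · refine Nat.Coprime.coprime_dvd_left (orderOf_mk_dvd (k := 2) ?_)
      (Nat.Coprime.coprime_dvd_right (orderOf_mk_dvd (k := 3) ?_) (by norm_num))
    · rw [show a ^ 2 = 1 from Subtype.ext (by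
        ext i j; fin_cases i <;> fin_cases j <;> simp [a, pow_two, h2])]
      exact Subgroup.one_mem _
    · rw [show b ^ 3 = 1 from Subtype.ext (by
        ext i j; fin_cases i <;> fin_cases j <;> simp [b, pow_succ, h2])]
      exact Subgroup.one_mem _
  · intro h
    rw [← map_mul, ← map_mul, mk_eq_mk_iff] at h
    obtain ⟨z, hz, he⟩ := h
    obtain ⟨c, hc⟩ := center_diag hz
    have h00 := congrFun (congrFun (congrArg Subtype.val he) 0) 0
    simp [a, b, Matrix.mul_apply, Fin.sum_univ_three, hc] at h00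

open CfsgLib.Suzuki in
/-- Suzuki groups. -/
theorem outer_suzuki {F : Type*} [Field F] [Fintype F] [CharP F 2] {m : ℕ} [hP : Param F m]
    (α : MulAut (Gp F m)) : HasPair α := by
  obtain ⟨g, φ, rfl⟩ := CfsgLib.Suzuki.exists_decomp α
  have hx : gT (m := m) (0 : F) 1 * gT 0 1 = 1 := by
    rw [gT_mul, map_zero, mul_zero, add_zero, add_zero, CharTwo.add_self_eq_zero, gT_zero]
  have h5 : (gT (m := m) (0 : F) 1 * gW F m) ^ 5 = 1 := by
    refine Subtype.ext (Subtype.ext ?_)
    show ((trMat m (0 : F) 1) * Cfsg.suzukiForm F) ^ 5 = 1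
    ext i j
    fin_cases i <;> fin_cases j <;>
      simp [pow_succ, trMat, ov, Cfsg.suzukiForm, Matrix.mul_apply, Fin.sum_univ_four,
        CharTwo.add_self_eq_zero]
  refine ⟨g⁻¹, gT 0 1, gT 0 1 * gW F m, ?_, ?_, ?_, fun e => ?_⟩
  · rw [MulAut.mul_apply, fieldAut_gT, map_zero, map_one, MulAut.conj_apply]; group
  · rw [MulAut.mul_apply, map_mul (fieldAut F m φ), fieldAut_gT, fieldAut_gW, map_zero, map_one,
      MulAut.conj_apply]
    group
  · refine Nat.Coprime.coprime_dvd_left (orderOf_dvd_of_pow_eq_one (n := 2) ?_)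
      (Nat.Coprime.coprime_dvd_right (orderOf_dvd_of_pow_eq_one h5) (by norm_num))
    rw [pow_two, hx]
  · rw [← mul_assoc, hx, one_mul] at e
    have h00 := congrArg (fun q : Gp F m => (q.1 : Matrix (Fin 4) (Fin 4) F) 0 0) e
    change Cfsg.suzukiForm F 0 0 = (trMat m (0 : F) 1 * Cfsg.suzukiForm F * trMat m (0 : F) 1) 0 0 at h00
    simp [trMat, ov, Cfsg.suzukiForm, Matrix.mul_apply, Fin.sum_univ_four] at h00

end CfsgLib.CNStruct
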