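import Cfsg.Agent.Lib.CNStruct.SuzGroup
import Cfsg.Agent.Lib.CNStruct.Outer

/-!
# Sections that admit no fixed-point-free two-module

An elementary abelian group of order nine, and `PSL(2, p)` for a prime `p ≥ 7`.
-/

set_option autoImplicit false
set_option linter.unusedSectionVars false
set_option linter.style.haveILetI false

open scoped MatrixGroups TensorProduct IsMulCommutative

namespace CfsgLib.CNStruct

universe u v

set_option maxHeartbeats 1600000 in
/-- The elements of order three and of a fixed prime order act without fixed points. -/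
theorem psl_no_fpf {p : ℕ} [Fact p.Prime] (hp : 7 ≤ p) {K : Type u} [Field K] [CharP K 2] [IsAlgClosed K]
    {V : Type v} [AddCommGroup V] [Module K V] [Module.Finite K V] [Nontrivial V]
    (ρ : PSL(2, ZMod p) →* Module.End K V)
    (h3 : ∀ g : PSL(2, ZMod p), g ^ 3 = 1 → g ≠ 1 → ∀ v, ρ g (ρ g v) + ρ g v + v = 0)
    (hu : ∀ g : PSL(2, ZMod p), g ^ p = 1 → g ≠ 1 → ∀ v, ∑ k ∈ Finset.range p, ρ (g ^ k) v = 0) :
    False := by
  let U : ZMod p → PSL(2, ZMod p) := fun a =>
    CfsgLib.AutPSL.mkP (mkS !![1, a; 0, 1] (by simp [Matrix.det_fin_two]))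
  let w : PSL(2, ZMod p) :=
    CfsgLib.AutPSL.mkP (mkS !![0, -1; 1, 0] (by simp [Matrix.det_fin_two]))
  have hUadd : ∀ a b, U a * U b = U (a + b) := fun a b => by
    simp only [U, ← map_mul]
    congr 1
    refine Subtype.ext ?_
    rw [Matrix.SpecialLinearGroup.coe_mul]
    ext i j
    fin_cases i <;> fin_cases j <;> simp [add_comm]
  have hU0 : U 0 = 1 := by
    simp only [U]
    rw [show (mkS !![1, (0 : ZMod p); 0, 1] (by simp [Matrix.det_fin_two]) : SL(2, ZMod p)) = 1 from
      Subtype.ext (by ext i j; fin_cases i <;> fin_cases j <;> simp), map_one]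
  have hUn : ∀ a : ZMod p, U 1 ^ a.val = U a := by
    have h : ∀ n : ℕ, U 1 ^ n = U n := fun n => by
      induction n with
      | zero => simp [hU0]
      | succ n ih => rw [pow_succ, ih, hUadd, Nat.cast_succ]
    exact fun a => by rw [h, ZMod.natCast_zmod_val]
  have hU1 : U 1 ≠ 1 := fun e => by
    obtain ⟨z, hz, he⟩ := mk_eq_mk_iff.1 (e.trans (map_one CfsgLib.AutPSL.mkP).symm)
    obtain ⟨c, hc⟩ := center_diag hz
    have h01 := congrFun (congrFun (congrArg Subtype.val he) 0) 1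
    simp [hc] at h01
  have hUp : U 1 ^ p = 1 := by
    have h : ∀ n : ℕ, U 1 ^ n = U n := fun n => by
      induction n with
      | zero => simp [hU0]
      | succ n ih => rw [pow_succ, ih, hUadd, Nat.cast_succ]
    rw [h, ZMod.natCast_self, hU0]
  -- an element whose fourth power is not one
  obtain ⟨l, hl0, hl4⟩ : ∃ l : ZMod p, l ≠ 0 ∧ l ^ 4 ≠ 1 := by
    obtain ⟨x, hx⟩ := IsCyclic.exists_ofOrder_eq_natCard (α := (ZMod p)ˣ)
    rw [Nat.card_units, Nat.card_zmod] at hx
    refine ⟨x, x.ne_zero, fun e => ?_⟩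
    have hd := orderOf_dvd_of_pow_eq_one (show x ^ 4 = 1 from Units.ext (by simpa using e))
    have := Nat.le_of_dvd (by norm_num) hd
    omega
  let h : PSL(2, ZMod p) :=
    CfsgLib.AutPSL.mkP (mkS !![l, 0; 0, l⁻¹] (by simp [Matrix.det_fin_two, hl0]))
  have hUh : U 1 * h = h * U (l⁻¹ * l⁻¹) := by
    simp only [U, h, ← map_mul]
    congr 1
    refine Subtype.ext ?_
    rw [Matrix.SpecialLinearGroup.coe_mul, Matrix.SpecialLinearGroup.coe_mul]
    ext i j
    fin_cases i <;> fin_cases j <;> simp [hl0]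
  have hw2 : w * w = 1 := by
    simp only [w, ← map_mul]
    refine (QuotientGroup.eq_one_iff _).2 ?_
    refine Subgroup.mem_center_iff.2 fun t => Subtype.ext ?_
    ext i j
    fin_cases i <;> fin_cases j <;> simp [Matrix.mul_apply, Fin.sum_univ_two]
  have hwh : w * h * w = h⁻¹ := by
    refine eq_inv_of_mul_eq_one_left ?_
    simp only [w, h, ← map_mul]
    refine (QuotientGroup.eq_one_iff _).2 ?_
    refine Subgroup.mem_center_iff.2 fun t => Subtype.ext ?_
    ext i j
    fin_cases i <;> fin_cases j <;> simp [Matrix.mul_apply, Fin.sum_univ_two, hl0]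
  have htr : ∀ a b c : ZMod p, ∀ hd : (!![0, -b; c, a] : Matrix (Fin 2) (Fin 2) (ZMod p)).det = 1,
      a = 1 → (CfsgLib.AutPSL.mkP (mkS _ hd) : PSL(2, ZMod p)) ^ 3 = 1 ∧
        (CfsgLib.AutPSL.mkP (mkS _ hd) : PSL(2, ZMod p)) ≠ 1 := by
    intro a b c hd ha
    subst ha
    have hbc : b * c = 1 := by rw [Matrix.det_fin_two_of] at hd; linear_combination hd
    refine ⟨?_, fun e => ?_⟩
    · rw [← map_pow]
      refine (QuotientGroup.eq_one_iff _).2 (Subgroup.mem_center_iff.2 fun t => Subtype.ext ?_)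
      rw [Matrix.SpecialLinearGroup.coe_mul, Matrix.SpecialLinearGroup.coe_mul,
        show ((mkS _ hd ^ 3 : SL(2, ZMod p)) : Matrix (Fin 2) (Fin 2) (ZMod p)) = -1 by
          rw [Matrix.SpecialLinearGroup.coe_pow, coe_mkS]
          ext i j
          fin_cases i <;> fin_cases j <;> simp [pow_succ, Matrix.mul_apply, Fin.sum_univ_two] <;>
            grind, mul_neg_one, neg_one_mul]
    · obtain ⟨z, hz, he⟩ := mk_eq_mk_iff.1 (e.trans (map_one CfsgLib.AutPSL.mkP).symm)
      obtain ⟨d, hdz⟩ := center_diag hz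
      have h10 := congrFun (congrFun (congrArg Subtype.val he) 1) 0
      simp [hdz] at h10
      rw [h10, mul_zero] at hbc
      exact zero_ne_one hbc
  have hs : (w * U 1) ^ 3 = 1 ∧ w * U 1 ≠ 1 := by
    have e : w * U 1 = CfsgLib.AutPSL.mkP (mkS !![0, -1; 1, 1] (by simp [Matrix.det_fin_two])) := by
      simp only [w, U, ← map_mul]
      congr 1
      refine Subtype.ext ?_
      rw [Matrix.SpecialLinearGroup.coe_mul]
      ext i j
      fin_cases i <;> fin_cases j <;> simp
    rw [e]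
    exact htr 1 1 1 _ rfl
  have hg : (w * U l * h) ^ 3 = 1 ∧ w * U l * h ≠ 1 := by
    have e : w * U l * h = CfsgLib.AutPSL.mkP (mkS !![0, -l⁻¹; l, 1] (by simp [Matrix.det_fin_two, hl0])) := by
      simp only [w, U, h, ← map_mul]
      congr 1
      refine Subtype.ext ?_
      rw [Matrix.SpecialLinearGroup.coe_mul, Matrix.SpecialLinearGroup.coe_mul]
      ext i j
      fin_cases i <;> fin_cases j <;> simp [hl0]
    rw [e]
    exact htr 1 l⁻¹ l _ rfl
  -- an eigenvector of the unipotent element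
  obtain ⟨ζ, hζ⟩ := Module.End.exists_eigenvalue (ρ (U 1))
  obtain ⟨v, hv⟩ := hζ.exists_hasEigenvector
  have hTv : ρ (U 1) v = ζ • v := hv.apply_eq_smul
  have hpow : ∀ {z : K} {x : V}, ρ (U 1) x = z • x → ∀ n : ℕ, ρ (U 1 ^ n) x = z ^ n • x := by
    intro z x hx n
    induction n with
    | zero => simp
    | succ n ih =>
      rw [pow_succ, map_mul, pow_succ', mul_smul]
      show ρ (U 1 ^ n) (ρ (U 1) x) = _
      rw [hx, LinearMap.map_smul, ih]
  have hζp : ζ ^ p = 1 := by
    have h := hpow hTv p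
    rw [hUp, map_one] at h
    have h' : (ζ ^ p - 1) • v = 0 := by
      rw [sub_smul, one_smul, ← h]
      exact sub_self v
    exact sub_eq_zero.1 ((smul_eq_zero.1 h').resolve_right hv.2)
  have hζ1 : ζ ≠ 1 := by
    intro e
    have h := hu _ hUp hU1 v
    simp only [hpow hTv, e, one_pow, one_smul, Finset.sum_const, Finset.card_range] at h
    rw [← Nat.cast_smul_eq_nsmul K, smul_eq_zero, or_iff_left hv.2, CharP.cast_eq_zero_iff K 2] at h
    have := (Nat.prime_dvd_prime_iff_eq Nat.prime_two Fact.out).1 h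
    omega
  have hord : orderOf ζ = p := orderOf_eq_prime hζp hζ1
  have hsub : ∀ x y : V, x + y + y = x := fun x y => by
    rw [add_assoc, ← two_smul K y, CharTwo.two_eq_zero, zero_smul, add_zero]
  have hmul : ∀ (a b : PSL(2, ZMod p)) (x : V), ρ (a * b) x = ρ a (ρ b x) := fun a b x => by
    rw [map_mul]; rfl
  have hone : ∀ x : V, ρ 1 x = x := fun x => by rw [map_one]; rfl
  have hg3 : ∀ g : PSL(2, ZMod p), g ^ 3 = 1 → g ≠ 1 → ∀ x, ρ g x + ρ g⁻¹ x = x := by
    intro g h1 h2 x
    have h := h3 g h1 h2 x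
    have e : g⁻¹ = g * g := inv_eq_of_mul_eq_one_right (by rw [← pow_three, h1])
    rw [e, hmul]
    calc ρ g x + ρ g (ρ g x) = ρ g x + ρ g (ρ g x) + x + x := (hsub _ x).symm
      _ = (ρ g (ρ g x) + ρ g x + x) + x := by abel
      _ = x := by rw [h, zero_add]
  have hwi : w⁻¹ = w := inv_eq_of_mul_eq_one_right hw2
  set y := ρ w v with hy
  -- the quadratic relation for `y`
  have hE1 : ζ • y + ρ (U (-1)) y = v := by
    have := hg3 _ hs.1 hs.2 v
    rwa [hmul, hTv, LinearMap.map_smul, _root_.mul_inv_rev, hwi,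
      show (U 1)⁻¹ = U (-1) from inv_eq_of_mul_eq_one_right (by rw [hUadd, add_neg_cancel, hU0]),
      hmul] at this
  have hT : ρ (U 1) y = v + ζ⁻¹ • y := by
    have h := congrArg (fun x => ζ⁻¹ • ρ (U 1) x) hE1
    have hζ0 : ζ ≠ 0 := fun e => by
      rw [e, zero_pow (by omega)] at hζp; exact zero_ne_one hζp
    simp only [map_add, LinearMap.map_smul, smul_add, smul_smul, inv_mul_cancel₀ hζ0, one_smul, hTv,
      ← hmul, hUadd, add_neg_cancel, hU0, hone] at h
    rw [← h, hsub]
  set n := (l⁻¹ * l⁻¹).val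
  set η := ζ ^ n
  set v' := ρ h v with hv'
  have hTv' : ρ (U 1) v' = η • v' := by
    rw [hv', ← hmul, hUh, hmul, ← hUn, hpow hTv, LinearMap.map_smul]
  -- the second element of order three
  have hE2 : ρ (U (-l)) y + η ^ l.val • y = v' := by
    have hh := congrArg (ρ h) (hg3 _ hg.1 hg.2 v)
    rw [map_add, add_comm] at hh
    refine Eq.trans ?_ hh
    congr 1
    · rw [hy, ← hmul, ← hmul]
      congr 2
      rw [_root_.mul_inv_rev, _root_.mul_inv_rev, hwi, mul_inv_cancel_left,
        show (U l)⁻¹ = U (-l) from inv_eq_of_mul_eq_one_right (by rw [hUadd, add_neg_cancel, hU0])]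
    · have hcomm : h * w = w * h⁻¹ := by
        rw [← hwh, ← mul_assoc, ← mul_assoc, hw2, one_mul]
      have e : ρ (U l) (ρ h v) = η ^ l.val • ρ h v := by rw [← hUn]; exact hpow hTv' _
      rw [hmul, hmul, e, LinearMap.map_smul, LinearMap.map_smul, ← hmul, ← hmul, hy]
      congr 1
      rw [hcomm, mul_assoc, inv_mul_cancel, mul_one]
  -- apply the quadratic polynomial
  have hQy : ρ (U 1) (ρ (U 1) y + ζ⁻¹ • y) + ζ • (ρ (U 1) y + ζ⁻¹ • y) = 0 := by
    rw [hT, hsub, hTv, ← two_smul K (ζ • v), CharTwo.two_eq_zero, zero_smul]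
  have hQv : ρ (U 1) (ρ (U 1) v' + ζ⁻¹ • v') + ζ • (ρ (U 1) v' + ζ⁻¹ • v') =
      ((η + ζ) * (η + ζ⁻¹)) • v' := by
    rw [hTv', ← add_smul, LinearMap.map_smul, hTv']
    module
  have hcT : ∀ x, ρ (U 1) (ρ (U (-l)) x) = ρ (U (-l)) (ρ (U 1) x) := fun x => by
    rw [← hmul, ← hmul, hUadd, hUadd, add_comm]
  have h0 : ((η + ζ) * (η + ζ⁻¹)) • v' = 0 := by
    rw [← hQv, ← hE2]
    simp only [map_add, LinearMap.map_smul, hcT, smul_add]
    have e1 := congrArg (ρ (U (-l))) hQy
    have e2 := congrArg (fun x => η ^ l.val • x) hQy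
    simp only [map_add, LinearMap.map_smul, map_zero, smul_add, smul_zero, hcT] at e1 e2
    rw [← add_zero (0 : V)]
    nth_rw 1 [← e1]
    rw [← e2]
    module
  have hv0 : v' ≠ 0 := fun e => hv.2 (by
    have := congrArg (ρ h⁻¹) e
    rwa [hv', ← hmul, inv_mul_cancel, hone, map_zero] at this)
  have hne : ∀ k : ℕ, ζ ^ n = ζ ^ k → ((l⁻¹ * l⁻¹ : ZMod p)) = k := fun k e => by
    rw [(isOfFinOrder_iff_pow_eq_one.2 ⟨p, by omega, hζp⟩ : IsOfFinOrder ζ).pow_eq_pow_iff_modEq, hord] at e
    rw [← ZMod.natCast_zmod_val (l⁻¹ * l⁻¹)]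
    exact (ZMod.natCast_eq_natCast_iff _ _ _).2 e
  have hsq : ∀ c : ZMod p, c * c = 1 → l⁻¹ * l⁻¹ ≠ c := fun c hc e => hl4 (by
    have h2 : (l⁻¹ * l⁻¹) * (l⁻¹ * l⁻¹) = 1 := by rw [e, hc]
    field_simp at h2
    linear_combination -h2)
  rcases (mul_eq_zero.1 ((smul_eq_zero.1 h0).resolve_right hv0)) with e | e
  · have e' := CharTwo.add_eq_zero.1 e
    exact hsq 1 (one_mul 1) (by simpa using hne 1 (by rw [pow_one]; exact e'))
  · have e' : η = ζ ^ (p - 1) := by
      rw [CharTwo.add_eq_zero.1 e]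
      refine inv_eq_of_mul_eq_one_right ?_
      rw [← pow_succ', Nat.sub_add_cancel (show 1 ≤ p by omega), hζp]
    exact hsq (-1) (by ring) (by
      rw [hne (p - 1) e', Nat.cast_sub (show 1 ≤ p by omega), ZMod.natCast_self, zero_sub, Nat.cast_one])

section Groups

variable {G : Type u} [Group G] [Finite G] (N : Subgroup G) [N.Normal]

/-- The central involutions of a normal subgroup, with the identity. -/
def omegaCenter : Subgroup G where
  carrier := {z | z ∈ N ∧ (∀ q ∈ N, q * z = z * q) ∧ z * z = 1}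
  one_mem' := ⟨N.one_mem, fun q _ => by simp, one_mul 1⟩
  mul_mem' := fun {a b} ha hb => ⟨N.mul_mem ha.1 hb.1, fun q hq => by
      rw [← mul_assoc, ha.2.1 q hq, mul_assoc, hb.2.1 q hq, mul_assoc], by
    rw [show a * b * (a * b) = a * (b * a) * b by group, ha.2.1 b hb.1,
      show a * (a * b) * b = (a * a) * (b * b) by group, ha.2.2, hb.2.2, one_mul]⟩
  inv_mem' := fun {a} ha => by
    rw [inv_eq_of_mul_eq_one_right ha.2.2]
    exact ha

instance omegaCenter_normal : (omegaCenter N).Normal := ⟨fun z hz g => by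
  refine ⟨‹N.Normal›.conj_mem z hz.1 g, fun q hq => ?_, ?_⟩
  · have := hz.2.1 (g⁻¹ * q * g) (by simpa using ‹N.Normal›.conj_mem q hq g⁻¹)
    calc q * (g * z * g⁻¹) = g * ((g⁻¹ * q * g) * z) * g⁻¹ := by group
      _ = g * (z * (g⁻¹ * q * g)) * g⁻¹ := by rw [this]
      _ = g * z * g⁻¹ * q := by group
  · calc g * z * g⁻¹ * (g * z * g⁻¹) = g * (z * z) * g⁻¹ := by group
      _ = 1 := by rw [hz.2.2]; group⟩

instance omegaCenter_comm : IsMulCommutative (omegaCenter N) :=
  ⟨⟨fun a b => Subtype.ext (b.2.2.1 a a.2.1)⟩⟩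

theorem omegaCenter_ne_bot (hN : IsPGroup 2 N) (hne : N ≠ ⊥) : omegaCenter N ≠ ⊥ := by
  haveI : Fact (Nat.Prime 2) := ⟨Nat.prime_two⟩
  haveI : Nontrivial N := (Subgroup.nontrivial_iff_ne_bot N).mpr hne
  haveI := hN.center_nontrivial
  have hd : 2 ∣ Nat.card (Subgroup.center N) := by
    obtain ⟨k, hk⟩ := IsPGroup.iff_card.mp (hN.to_subgroup (Subgroup.center N))
    have h1 : 1 < Nat.card (Subgroup.center N) := Finite.one_lt_card
    rw [hk] at h1 ⊢
    exact dvd_pow_self 2 (by rintro rfl; simp at h1)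
  obtain ⟨z, hz⟩ := exists_prime_orderOf_dvd_card' 2 hd
  intro hbot
  have hzN : ((z : N) : G) ∈ omegaCenter N := ⟨(z : N).2, fun q hq =>
    congrArg (fun t : N => (t : G)) (Subgroup.mem_center_iff.mp z.2 ⟨q, hq⟩), by
      have := pow_orderOf_eq_one z
      rw [hz, pow_two] at this
      exact congrArg (fun t : Subgroup.center N => ((t : N) : G)) this⟩
  rw [hbot, Subgroup.mem_bot] at hzN
  have hz1 : z = 1 := Subtype.ext (Subtype.ext hzN)
  rw [hz1, orderOf_one] at hz
  omega

/-- The action of the quotient on the central involutions. -/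
def omAct : G ⧸ N →* Module.End ℤ (Additive (omegaCenter N)) :=
  QuotientGroup.lift N (CfsgLib.SuzMod.conjLin (omegaCenter N)) fun q hq => by
    refine LinearMap.ext fun l => Additive.toMul.injective (Subtype.ext ?_)
    show q * ((Additive.toMul l : omegaCenter N) : G) * q⁻¹ = ((Additive.toMul l : omegaCenter N) : G)
    rw [(Additive.toMul l).2.2.1 q hq, mul_inv_cancel_right]

theorem omAct_sum (hN : IsPGroup 2 N)
    (hfpf : ∀ x : G, Odd (orderOf x) → x ≠ 1 → ∀ q ∈ N, x * q * x⁻¹ = q → q = 1)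
    {g : G ⧸ N} {r : ℕ} (hr : Odd r) (hgr : g ^ r = 1) (hg : g ≠ 1) (v : Additive (omegaCenter N)) :
    ∑ k ∈ Finset.range r, omAct N (g ^ k) v = 0 := by
  obtain ⟨x, rfl, hxo, hx1⟩ := CfsgLib.SuzMod.odd_lift (QuotientGroup.mk' N)
    (QuotientGroup.mk'_surjective N) (by rw [QuotientGroup.ker_mk']; exact hN)
    (Odd.of_dvd_nat hr (orderOf_dvd_of_pow_eq_one hgr)) hg
  set S := ∑ k ∈ Finset.range r, omAct N (QuotientGroup.mk' N x ^ k) v
  have hS : omAct N (QuotientGroup.mk' N x) S = S := by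
    rw [map_sum, Finset.sum_congr rfl fun k _ =>
      show omAct N (QuotientGroup.mk' N x) (omAct N (QuotientGroup.mk' N x ^ k) v) =
        omAct N (QuotientGroup.mk' N x ^ (k + 1)) v by rw [pow_succ', map_mul]; rfl]
    rw [← add_left_inj (omAct N (QuotientGroup.mk' N x ^ 0) v), ← Finset.sum_range_succ' (fun k =>
      omAct N (QuotientGroup.mk' N x ^ k) v), Finset.sum_range_succ _ r, hgr, pow_zero]
  refine Additive.toMul.injective (Subtype.ext (hfpf x hxo hx1 _ (Additive.toMul S).2.1 ?_))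
  exact congrArg (fun l : Additive (omegaCenter N) => ((Additive.toMul l : omegaCenter N) : G)) hS

/-- An elementary abelian section of order nine forces fixed points. -/
theorem no_nine (hN : IsPGroup 2 N) (hne : N ≠ ⊥)
    (hfpf : ∀ x : G, Odd (orderOf x) → x ≠ 1 → ∀ q ∈ N, x * q * x⁻¹ = q → q = 1)
    (a b : G ⧸ N) (ha : a ^ 3 = 1) (hb : b ^ 3 = 1) (hc : a * b = b * a) (ha1 : a ≠ 1) (hb1 : b ≠ 1)
    (hab : a * b ≠ 1) (hab2 : a * (b * b) ≠ 1) : False := by
  obtain ⟨⟨z, hz⟩, hz1⟩ := Subgroup.ne_bot_iff_exists_ne_one.1 (omegaCenter_ne_bot N hN hne)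
  set v : Additive (omegaCenter N) := Additive.ofMul ⟨z, hz⟩
  set f := omAct N
  have hmul : ∀ (g k : G ⧸ N) (x : Additive (omegaCenter N)), f (g * k) x = f g (f k x) := fun g k x => by
    rw [map_mul]; rfl
  have hS : ∀ g : G ⧸ N, g ^ 3 = 1 → g ≠ 1 → ∀ x, x + f g x + f (g * g) x = 0 := fun g h1 h2 x => by
    have h := omAct_sum N hN hfpf (r := 3) (by decide) h1 h2 x
    rwa [Finset.sum_range_succ, Finset.sum_range_succ, Finset.sum_range_one, pow_zero, pow_one, pow_two,
      map_one] at h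
  have hC : Commute a b := hc
  have hab3 : (a * b) ^ 3 = 1 := by rw [hC.mul_pow, ha, hb, one_mul]
  have hab23 : (a * (b * b)) ^ 3 = 1 := by
    rw [(hC.mul_right hC).mul_pow, ha, one_mul, ← pow_two, ← pow_mul, mul_comm, pow_mul, hb, one_pow]
  have s1 := hS a ha ha1 v
  have s2 := hS b hb hb1 v
  have s3 := hS _ hab3 hab v
  have s4 := hS _ hab23 hab2 v
  have hbb : b * b * (b * b) = b := by
    rw [show b * b * (b * b) = b ^ 3 * b by rw [pow_succ, pow_two, ← mul_assoc], hb, one_mul]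
  rw [hC.symm.mul_mul_mul_comm a b] at s3
  rw [(hC.mul_right hC).symm.mul_mul_mul_comm a (b * b), hbb] at s4
  -- the sum over the whole group
  have t1 := congrArg (f b) s1
  have t2 := congrArg (f (b * b)) s1
  rw [map_add, map_add, map_zero, ← hmul, ← hmul, ← hc,
    ← ((hC.mul_left hC)).eq] at t1
  rw [map_add, map_add, map_zero, ← hmul, ← hmul, ← (hC.mul_right hC).eq,
    ← ((hC.mul_right hC).mul_left (hC.mul_right hC)).eq] at t2
  have hdbl : ∀ x : Additive (omegaCenter N), x + x = 0 := fun x =>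
    Additive.toMul.injective (Subtype.ext (Additive.toMul x).2.2.2)
  have hv : v = 0 := by
    have key : v + v + v = 0 := by
      have e : (v + f a v + f (a * a) v) + (v + f b v + f (b * b) v) +
          (v + f (a * b) v + f (a * a * (b * b)) v) + (v + f (a * (b * b)) v + f (a * a * b) v) =
          (v + v + v) + ((v + f a v + f (a * a) v) + (f b v + f (a * b) v + f (a * a * b) v) +
            (f (b * b) v + f (a * (b * b)) v + f (a * a * (b * b)) v)) := by abel
      rw [s1, s2, s3, s4, t1, t2] at e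
      simpa using e.symm
    rwa [hdbl, zero_add] at key
  exact hz1 (congrArg Additive.toMul hv)

/-- A section `PSL(2, p)`, `p ≥ 7`, forces fixed points. -/
theorem no_psl (hN : IsPGroup 2 N) (hne : N ≠ ⊥)
    (hfpf : ∀ x : G, Odd (orderOf x) → x ≠ 1 → ∀ q ∈ N, x * q * x⁻¹ = q → q = 1)
    {p : ℕ} [Fact p.Prime] (hp : 7 ≤ p) (j : PSL(2, ZMod p) →* G ⧸ N) (hj : Function.Injective j) :
    False := by
  set W := Additive (omegaCenter N)
  letI : Module (ZMod 2) W := AddCommGroup.zmodModule fun l => by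
    rw [two_nsmul]
    exact Additive.toMul.injective (Subtype.ext (Additive.toMul l).2.2.2)
  let K := AlgebraicClosure (ZMod 2)
  haveI : CharP K 2 := inferInstance
  let ρ : PSL(2, ZMod p) →* Module.End K (K ⊗[ZMod 2] W) :=
    { toFun := fun g => LinearMap.baseChange K ((omAct N (j g)).toAddMonoidHom.toZModLinearMap 2)
      map_one' := by
        ext v
        simp
      map_mul' := fun g k => by
        ext v
        simp }
  haveI : Nontrivial W := by
    obtain ⟨z, hz⟩ := Subgroup.ne_bot_iff_exists_ne_one.1 (omegaCenter_ne_bot N hN hne)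
    exact ⟨Additive.ofMul z, 0, fun e => hz (congrArg Additive.toMul e)⟩
  haveI : Nontrivial (K ⊗[ZMod 2] W) :=
    Module.nontrivial_of_finrank_pos (R := K) (by rw [Module.finrank_baseChange]; exact Module.finrank_pos)
  have hsum : ∀ (g : PSL(2, ZMod p)) (r : ℕ), Odd r → g ^ r = 1 → g ≠ 1 →
      ∀ v, ∑ k ∈ Finset.range r, ρ (g ^ k) v = 0 := by
    intro g r hr hgr hg v
    induction v using TensorProduct.induction_on with
    | zero => simp
    | add x y hx hy => simp only [map_add, Finset.sum_add_distrib, hx, hy, add_zero]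
    | tmul c x =>
      show ∑ k ∈ Finset.range r, c ⊗ₜ[ZMod 2] (omAct N (j (g ^ k)) x) = 0
      rw [← TensorProduct.tmul_sum, Finset.sum_congr rfl fun k _ => by rw [map_pow],
        omAct_sum N hN hfpf hr (by rw [← map_pow, hgr, map_one]) (fun e => hg (hj (e.trans (map_one j).symm))),
        TensorProduct.tmul_zero]
  refine psl_no_fpf hp ρ (fun g h1 h2 v => ?_) fun g h1 h2 v =>
    hsum g p (Fact.out (p := p.Prime) |>.odd_of_ne_two (by omega)) h1 h2 v
  have h := hsum g 3 (by decide) h1 h2 v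
  rw [Finset.sum_range_succ, Finset.sum_range_succ, Finset.sum_range_one, pow_zero, pow_one, pow_two,
    map_one, map_mul] at h
  rw [← h]
  show ρ g (ρ g v) + ρ g v + v = v + ρ g v + ρ g (ρ g v)
  abel

end Groups

end CfsgLib.CNStruct
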