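import Cfsg.Agent.Lib.CNStruct.Socle
import Cfsg.Agent.Lib.CNStruct.Modules
import Cfsg.Agent.Lib.CIT.Iso
import Cfsg.Agent.Lib.CNSimple.CIT
import Cfsg.Agent.Lib.EPPO.Simple
import Cfsg.Agent.Lib.BrauerTuan.Identify
import Cfsg.Agent.Lib.SL2Fpf.Split
import Cfsg.Agent.Lib.Suzuki.LieEquiv
import Cfsg.Agent.Lib.Suzuki.Structure

/-!
# Non-solvable CN-groups

The quotient by the 2-core is `PSL(2, q)`, `PSL(3, 4)`, a Suzuki group, or contains `PSL(2, 9)` with
index two; a non-trivial 2-core is elementary abelian and excludes all but the even ones.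
-/

set_option autoImplicit false
set_option linter.unusedSectionVars false
set_option linter.style.haveILetI false

open scoped MatrixGroups

namespace CfsgLib.CNStruct

open CfsgLib.AutPSL CfsgLib.Suzuki

universe u

variable {G : Type u} [Group G] [Finite G]

/-- The isomorphism types of a non-solvable CN-group without normal 2-subgroups. -/
def Shape (G : Type u) [Group G] : Prop :=
  (∃ (L : Subgroup G) (F : Type) (_ : Field F) (_ : Fintype F), L.Normal ∧ L.index = 2 ∧
      Fintype.card F = 9 ∧ Nonempty (L ≃* PSL(2, F))) ∨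
    (∃ (F : Type) (_ : Field F) (_ : Fintype F), Fintype.card F = 9 ∧ Nonempty (G ≃* PSL(2, F))) ∨
    (∃ (F : Type) (_ : Field F) (_ : Fintype F), CharP F 2 ∧ 4 ≤ Fintype.card F ∧
      Nonempty (G ≃* PSL(2, F))) ∨
    (∃ (p : ℕ) (_ : Fact p.Prime), 7 ≤ p ∧ Nonempty (G ≃* PSL(2, ZMod p))) ∨
    (∃ (F : Type) (_ : Field F) (_ : Fintype F), Fintype.card F = 4 ∧ Nonempty (G ≃* PSL(3, F))) ∨
    (∃ (F : Type) (_ : Field F) (_ : Fintype F) (_ : DecidableEq F) (_ : CharP F 2) (m : ℕ)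
      (_ : Param F m), Nonempty (G ≃* Gp F m))

theorem top_iso {L : Subgroup G} (h : L = ⊤) {M : Type*} [Group M] (e : L ≃* M) :
    Nonempty (G ≃* M) :=
  ⟨(Subgroup.topEquiv.symm.trans (MulEquiv.subgroupCongr h.symm)).trans e⟩

theorem shape_of_cn (hCN : Cfsg.IsCNGroup G) (hns : ¬ Group.IsSolvable G)
    (h2 : ∀ M : Subgroup G, M.Normal → IsPGroup 2 M → M = ⊥) :
    Shape G ∧ ((∃ L : Subgroup G, L.Normal ∧ L.index = 2 ∧ ∃ (F : Type) (_ : Field F) (_ : Fintype F),
      Fintype.card F = 9 ∧ Nonempty (L ≃* PSL(2, F))) ∨ (IsSimpleGroup G ∧ ¬ IsMulCommutative G)) := by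
  classical
  obtain ⟨L, hLn, hLs, hLnc, hC⟩ := exists_simple_normal hCN hns h2
  haveI := hLn
  haveI := hLs
  have hLCN : Cfsg.IsCNGroup L := Cfsg.Agent.CNOdd.cn_subgroup hCN L
  have htop : L = ⊤ → (IsSimpleGroup G ∧ ¬ IsMulCommutative G) := by
    intro h
    obtain ⟨a, b, hab⟩ := hLnc
    refine ⟨?_, fun hc => hab (Subtype.ext (hc.is_comm.comm (a : G) b))⟩
    subst h
    haveI : Nontrivial G := ⟨⟨(a : G), b, fun e => hab (by rw [Subtype.ext e])⟩⟩
    exact IsSimpleGroup.isSimpleGroup_of_surjective (Subgroup.topEquiv (G := G)).toMonoidHom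
      (Subgroup.topEquiv (G := G)).surjective
  -- every element acting well lies in `L`
  have hgood : ∀ {M : Type} [Group M] (e : L ≃* M),
      (∀ α : MulAut M, IsInn α ∨ HasPair α) → L = ⊤ := fun e h =>
    (Subgroup.eq_top_iff' L).2 fun g => mem_of_pair hCN L hC e g (h _)
  rcases CfsgLib.CIT.classification_iso hLnc (CfsgLib.CNSimple.cit hLnc hLCN) with
    ⟨F, i1, i2, hF, ⟨e⟩⟩ | ⟨F, i1, i2, hF, ⟨e⟩⟩ | hsz
  · have hq : 4 ≤ Fintype.card F := by
      by_contra hlt
      have hq1 := Fintype.one_lt_card (α := F)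
      haveI : Group.IsSolvable PSL(2, F) := by
        refine CfsgLib.AEightSub.isSolvable_of_card_lt ?_
        have h := CfsgLib.SL2.card_PSL (F := F)
        rw [Nat.card_eq_fintype_card (α := F)] at h
        rcases (show Fintype.card F = 2 ∨ Fintype.card F = 3 by omega) with e2 | e2 <;>
          rw [e2] at h <;> norm_num at h ⊢ <;> omega
      haveI : Group.IsSolvable L :=
        Group.isSolvable_of_surjective (f := e.symm.toMonoidHom) e.symm.surjective
      obtain ⟨a, b, hab⟩ := hLnc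
      exact hab (IsSimpleGroup.comm_iff_isSolvable.2 inferInstance a b)
    rcases hF with h9 | ⟨n, hn⟩ | ⟨hp, hk⟩
    · haveI : Fact (Nat.Prime 3) := ⟨Nat.prime_three⟩
      haveI : CharP F 3 := charP_of_card_eq_prime_pow (f := 2) (by rw [h9]; norm_num)
      by_cases hall : L = ⊤
      · exact ⟨Or.inr (Or.inl ⟨F, i1, i2, h9, top_iso hall e⟩), Or.inr (htop hall)⟩
      · obtain ⟨g, hg⟩ : ∃ g, g ∉ L := by
          by_contra h
          push Not at h
          exact hall ((Subgroup.eq_top_iff' L).2 h)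
        have hidx : L.index = 2 := by
          rw [Subgroup.index_eq_two_iff]
          refine ⟨g, fun b => ?_⟩
          by_cases hb : b ∈ L
          · exact Or.inr ⟨hb, fun h => hg ((L.mul_mem_cancel_left hb).1 h)⟩
          · refine Or.inl ⟨mem_of_pair hCN L hC e (b * g) ?_, hb⟩
            rw [map_mul]
            exact outer_two_nine _ _ (fun h => hb (mem_of_pair hCN L hC e b h))
              (fun h => hg (mem_of_pair hCN L hC e g h))
        exact ⟨Or.inl ⟨L, F, i1, i2, hLn, hidx, h9, ⟨e⟩⟩,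
          Or.inl ⟨L, hLn, hidx, F, i1, i2, h9, ⟨e⟩⟩⟩
    · haveI : Fact (Nat.Prime 2) := ⟨Nat.prime_two⟩
      haveI : CharP F 2 := charP_of_card_eq_prime_pow (f := n) hn
      have h := hgood e fun α => Or.inr (outer_two_even α)
      exact ⟨Or.inr (Or.inr (Or.inl ⟨F, i1, i2, inferInstance, hq, top_iso h e⟩)), Or.inr (htop h)⟩
    · haveI : Fact (Fintype.card F).Prime := ⟨hp⟩
      haveI : CharP F (Fintype.card F) := charP_of_card_eq_prime (R := F) rfl
      have hne4 : Fintype.card F ≠ 4 := fun h => by rw [h] at hp; norm_num at hp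
      have h := hgood e fun α => outer_two_prime (p := Fintype.card F) (by omega)
        (Nat.card_eq_fintype_card (α := F)) α
      refine ⟨?_, Or.inr (htop h)⟩
      obtain ⟨e0⟩ := top_iso h e
      by_cases h5 : Fintype.card F = 5
      · obtain ⟨K, k1, k2, hK, ⟨e5⟩⟩ := CfsgLib.EPPO.psl_five_iso h5
        haveI : Fact (Nat.Prime 2) := ⟨Nat.prime_two⟩
        haveI : CharP K 2 := charP_of_card_eq_prime_pow (f := 2) (by rw [hK]; norm_num)
        exact Or.inr (Or.inr (Or.inl ⟨K, k1, k2, inferInstance, hK.ge, ⟨e0.trans e5⟩⟩))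
      · have hne6 : Fintype.card F ≠ 6 := fun h => by rw [h] at hp; norm_num at hp
        obtain ⟨e7⟩ := CfsgLib.BrauerTuan.psl_congr (F := F) (K := ZMod (Fintype.card F))
          (ZMod.card _).symm
        exact Or.inr (Or.inr (Or.inr (Or.inl ⟨Fintype.card F, inferInstance, by omega,
          ⟨e0.trans e7⟩⟩)))
  · haveI : Fact (Nat.Prime 2) := ⟨Nat.prime_two⟩
    haveI : CharP F 2 := charP_of_card_eq_prime_pow (f := 2) (by rw [hF]; norm_num)
    have h := hgood e fun α => Or.inr (outer_three_even α)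
    exact ⟨Or.inr (Or.inr (Or.inr (Or.inr (Or.inl ⟨F, i1, i2, hF, top_iso h e⟩)))), Or.inr (htop h)⟩
  · obtain ⟨F, i1, i2, m, hm, hF, ⟨e⟩⟩ := hsz
    haveI := charP_two_of_card hF
    haveI : Param F m := ⟨hm, hF⟩
    let e' := e.trans (lieEquiv F m).symm
    have h := hgood e' fun α => Or.inr (outer_suzuki α)
    exact ⟨Or.inr (Or.inr (Or.inr (Or.inr (Or.inr ⟨F, i1, i2, Classical.decEq F, inferInstance, m,
      inferInstance, top_iso h e'⟩)))), Or.inr (htop h)⟩

theorem psl_nine_pair {F : Type} [Field F] [Fintype F] (h9 : Fintype.card F = 9) :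
    ∃ a b : PSL(2, F), a ^ 3 = 1 ∧ b ^ 3 = 1 ∧ a * b = b * a ∧ a ≠ 1 ∧ b ≠ 1 ∧ a * b ≠ 1 ∧
      a * (b * b) ≠ 1 := by
  classical
  haveI : Fact (Nat.Prime 3) := ⟨Nat.prime_three⟩
  haveI : CharP F 3 := charP_of_card_eq_prime_pow (f := 2) (by rw [h9]; norm_num)
  have h3 : (3 : F) = 0 := CharP.cast_eq_zero F 3
  let U : F → PSL(2, F) := fun x => mkP (mkS !![1, x; 0, 1] (by simp [Matrix.det_fin_two]))
  have hU : ∀ x y, U x * U y = U (x + y) := fun x y => by
    simp only [U, ← map_mul]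
    congr 1
    refine Subtype.ext ?_
    rw [Matrix.SpecialLinearGroup.coe_mul]
    ext i j
    fin_cases i <;> fin_cases j <;> simp [add_comm]
  have hU0 : U 0 = 1 := by
    simp only [U]
    rw [show (mkS !![1, (0 : F); 0, 1] (by simp [Matrix.det_fin_two]) : SL(2, F)) = 1 from
      Subtype.ext (by ext i j; fin_cases i <;> fin_cases j <;> simp), map_one]
  have hne : ∀ x : F, x ≠ 0 → U x ≠ 1 := fun x hx e => by
    obtain ⟨z, hz, he⟩ := mk_eq_mk_iff.1 (e.trans (map_one mkP).symm)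
    obtain ⟨c, hc⟩ := center_diag hz
    have h01 := congrFun (congrFun (congrArg Subtype.val he) 0) 1
    simp [hc] at h01
    exact hx h01
  obtain ⟨x, hx⟩ : ∃ x : F, x ∉ ({0, 1, -1} : Finset F) := by
    by_contra h
    push Not at h
    have := (Finset.card_le_card (s := (Finset.univ : Finset F)) fun y _ => h y).trans
      Finset.card_le_three
    rw [Finset.card_univ, h9] at this
    omega
  simp only [Finset.mem_insert, Finset.mem_singleton, not_or] at hx
  have hcube : ∀ y, U y ^ 3 = 1 := fun y => by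
    rw [pow_three, hU, hU, ← hU0]
    congr 1
    linear_combination y * h3
  refine ⟨U 1, U x, hcube _, hcube _, by rw [hU, hU, add_comm], hne _ one_ne_zero, hne _ hx.1, ?_, ?_⟩
  · rw [hU]
    exact hne _ fun e => hx.2.2 (by linear_combination e)
  · rw [hU, hU]
    exact hne _ fun e => hx.2.1 (by linear_combination -e + x * h3)

theorem psl_three_four_pair {F : Type} [Field F] [Fintype F] (h4 : Fintype.card F = 4) :
    ∃ a b : PSL(3, F), a ^ 3 = 1 ∧ b ^ 3 = 1 ∧ a * b = b * a ∧ a ≠ 1 ∧ b ≠ 1 ∧ a * b ≠ 1 ∧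
      a * (b * b) ≠ 1 := by
  classical
  obtain ⟨w, hw0, hw1⟩ : ∃ w : F, w ≠ 0 ∧ w ≠ 1 := by
    by_contra h
    push Not at h
    have := (Finset.card_le_card (s := (Finset.univ : Finset F)) (t := {0, 1}) fun y _ => by
      rcases eq_or_ne y 0 with hy | hy <;> simp [hy, h y]).trans Finset.card_le_two
    rw [Finset.card_univ, h4] at this
    omega
  have hw3 : w ^ 3 = 1 := by
    have := FiniteField.pow_card_sub_one_eq_one w hw0
    rwa [h4] at this
  let a : SL(3, F) := mkS !![1, 0, 0; 0, w, 0; 0, 0, w ^ 2] (by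
    rw [Matrix.det_fin_three]; simp; linear_combination hw3)
  let b : SL(3, F) := mkS !![0, 1, 0; 0, 0, 1; 1, 0, 0] (by simp [Matrix.det_fin_three])
  have hne : ∀ (s : SL(3, F)) (i j : Fin 3), i ≠ j → s.1 i j ≠ 0 → (mkP s : PSL(3, F)) ≠ 1 := by
    intro s i j hij hs e
    obtain ⟨z, hz, he⟩ := mk_eq_mk_iff.1 (e.trans (map_one mkP).symm)
    obtain ⟨c, hc⟩ := center_diag hz
    have h := congrFun (congrFun (congrArg Subtype.val he) i) j
    simp [hc, hij] at h
    exact hs h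
  refine ⟨mkP a, mkP b, ?_, ?_, ?_, ?_, hne b 0 1 (by decide) (by simp [b]), ?_, ?_⟩
  · rw [← map_pow, show a ^ 3 = 1 from Subtype.ext (by
      rw [Matrix.SpecialLinearGroup.coe_pow, coe_mkS, Matrix.SpecialLinearGroup.coe_one]
      ext i j
      fin_cases i <;> fin_cases j <;> simp [pow_succ, Matrix.mul_apply, Fin.sum_univ_three] <;>
        grind), map_one]
  · rw [← map_pow, show b ^ 3 = 1 from Subtype.ext (by
      rw [Matrix.SpecialLinearGroup.coe_pow, coe_mkS, Matrix.SpecialLinearGroup.coe_one]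
      ext i j
      fin_cases i <;> fin_cases j <;> simp [pow_succ, Matrix.mul_apply, Fin.sum_univ_three]), map_one]
  · rw [← map_mul, ← map_mul]
    let z : SL(3, F) := mkS (w ^ 2 • (1 : Matrix (Fin 3) (Fin 3) F)) (by
      rw [Matrix.det_smul, Matrix.det_one, Fintype.card_fin]
      linear_combination (w ^ 3 + 1) * hw3)
    refine mk_eq_mk_iff.2 ⟨z, Subgroup.mem_center_iff.2 fun s => Subtype.ext ?_, Subtype.ext ?_⟩
    · rw [Matrix.SpecialLinearGroup.coe_mul, Matrix.SpecialLinearGroup.coe_mul, coe_mkS]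
      simp
    · rw [Matrix.SpecialLinearGroup.coe_mul, Matrix.SpecialLinearGroup.coe_mul,
        Matrix.SpecialLinearGroup.coe_mul, coe_mkS, coe_mkS, coe_mkS]
      ext i j
      fin_cases i <;> fin_cases j <;> simp [Matrix.mul_apply, Fin.sum_univ_three] <;> grind
  · intro e
    obtain ⟨z, hz, he⟩ := mk_eq_mk_iff.1 (e.trans (map_one mkP).symm)
    obtain ⟨c, hc⟩ := center_diag hz
    have h0 := congrFun (congrFun (congrArg Subtype.val he) 0) 0
    have h1 := congrFun (congrFun (congrArg Subtype.val he) 1) 1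
    simp [a, hc] at h0 h1
    exact hw1 (h1.trans h0.symm)
  · rw [← map_mul]
    exact hne _ 0 1 (by decide) (by simp [a, b, Matrix.mul_apply, Fin.sum_univ_three])
  · rw [← map_mul, ← map_mul]
    exact hne _ 0 2 (by decide) (by simp [a, b, Matrix.mul_apply, Fin.sum_univ_three])

theorem exists_two_core (G : Type u) [Group G] [Finite G] :
    ∃ N : Subgroup G, N.Normal ∧ IsPGroup 2 N ∧
      ∀ M : Subgroup G, M.Normal → IsPGroup 2 M → M ≤ N := by
  obtain ⟨N, hN, hmax⟩ := (Set.toFinite {N : Subgroup G | N.Normal ∧ IsPGroup 2 N}).exists_maximal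
    ⟨⊥, inferInstance, IsPGroup.of_bot⟩
  refine ⟨N, hN.1, hN.2, fun M hM hM2 => ?_⟩
  haveI := hN.1
  haveI := hM
  exact le_sup_right.trans
    (hmax ⟨Subgroup.sup_normal N M, hN.2.to_sup_of_normal_right hM2⟩ le_sup_left)

/-- The quotient by the 2-core. -/
theorem quotient_no_two {N : Subgroup G} [N.Normal] (hN : IsPGroup 2 N)
    (hmax : ∀ M : Subgroup G, M.Normal → IsPGroup 2 M → M ≤ N) :
    ∀ M : Subgroup (G ⧸ N), M.Normal → IsPGroup 2 M → M = ⊥ := by
  intro M hM hM2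
  have h := hmax (M.comap (QuotientGroup.mk' N)) (hM.comap _)
    (hM2.comap_of_ker_isPGroup _ (by rw [QuotientGroup.ker_mk']; exact hN))
  refine (Subgroup.eq_bot_iff_forall _).2 fun x hx => ?_
  obtain ⟨g, rfl⟩ := QuotientGroup.mk'_surjective N x
  exact (QuotientGroup.eq_one_iff g).2 (h hx)

/-- The structure of a non-solvable CN-group. -/
theorem structure_cn (hG : ¬ Group.IsSolvable G) (hCN : Cfsg.IsCNGroup G) :
    (IsSimpleGroup G ∧ ¬ IsMulCommutative G) ∨
    (∃ (N : Subgroup G), N.Normal ∧ N.index = 2 ∧ ∃ (F : Type) (_ : Field F) (_ : Fintype F),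
        Fintype.card F = 9 ∧ Nonempty (N ≃* PSL(2, F))) ∨
    (∃ (N : Subgroup G) (_ : N.Normal), N ≠ ⊥ ∧ IsPGroup 2 N ∧ IsMulCommutative N ∧
        (∀ x ∈ N, x * x = 1) ∧
        ((∃ (F : Type) (_ : Field F) (_ : Fintype F), CharP F 2 ∧ 4 ≤ Fintype.card F ∧
            Nonempty (G ⧸ N ≃* PSL(2, F))) ∨ Cfsg.IsSuzuki (G ⧸ N))) := by
  classical
  haveI : Fact (Nat.Prime 2) := ⟨Nat.prime_two⟩
  obtain ⟨N, hNn, hN, hmax⟩ := exists_two_core G
  haveI := hNn
  by_cases hne : N = ⊥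
  · rcases (shape_of_cn hCN hG fun M hM hM2 => le_bot_iff.1 ((hmax M hM hM2).trans hne.le)).2 with h | h
    · exact Or.inr (Or.inl h)
    · exact Or.inl h
  have hNs : Group.IsSolvable N := by
    haveI := hN.isNilpotent
    infer_instance
  have hQns : ¬ Group.IsSolvable (G ⧸ N) := fun h => hG (by
    haveI := h
    haveI := hNs
    exact Group.isSolvable_of_ker_le_range N.subtype (QuotientGroup.mk' N)
      (by rw [QuotientGroup.ker_mk', N.range_subtype]))
  have hQCN := Cfsg.Agent.S1473.result hCN N hNs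
  have hQ2 := quotient_no_two hN hmax
  have hfpf : ∀ x : G, Odd (orderOf x) → x ≠ 1 → ∀ q ∈ N, x * q * x⁻¹ = q → q = 1 :=
    fun x hx hx1 q hq h => fpf_of_odd hCN N hN (radical_trivial hQns hQCN hQ2) hx hx1 hq h
  have no9 : ∀ {M : Type} [Group M] (j : M →* G ⧸ N), Function.Injective j →
      (∃ a b : M, a ^ 3 = 1 ∧ b ^ 3 = 1 ∧ a * b = b * a ∧ a ≠ 1 ∧ b ≠ 1 ∧ a * b ≠ 1 ∧
        a * (b * b) ≠ 1) → False := by
    rintro M _ j hj ⟨a, b, h1, h2, h3, h4, h5, h6, h7⟩
    exact no_nine N hN hne hfpf (j a) (j b) (by rw [← map_pow, h1, map_one])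
      (by rw [← map_pow, h2, map_one]) (by rw [← map_mul, ← map_mul, h3])
      (fun e => h4 (hj (e.trans (map_one j).symm))) (fun e => h5 (hj (e.trans (map_one j).symm)))
      (fun e => h6 (hj (by rw [map_mul, e, map_one])))
      (fun e => h7 (hj (by rw [map_mul, map_mul, e, map_one])))
  refine Or.inr (Or.inr ⟨N, hNn, hne, hN, ?_⟩)
  rcases (shape_of_cn hQCN hQns hQ2).1 with ⟨L, F, i1, i2, -, -, h9, ⟨e⟩⟩ | ⟨F, i1, i2, h9, ⟨e⟩⟩ |
    ⟨F, i1, i2, i3, h4, ⟨e⟩⟩ | ⟨p, hp, h7, ⟨e⟩⟩ | ⟨F, i1, i2, h4, ⟨e⟩⟩ | ⟨F, i1, i2, i3, i4, m, i5, ⟨e⟩⟩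
  · exact (no9 (L.subtype.comp e.symm.toMonoidHom) (L.subtype_injective.comp e.symm.injective)
      (psl_nine_pair h9)).elim
  · exact (no9 e.symm.toMonoidHom e.symm.injective (psl_nine_pair h9)).elim
  · haveI := i3
    have hbot : Subgroup.center SL(2, F) = ⊥ := by
      rw [← Subgroup.card_eq_one, CfsgLib.SL2.card_center]
      obtain ⟨n, hp, hn⟩ := FiniteField.card F 2
      rw [Nat.card_eq_fintype_card, hn]
      refine (Nat.prime_two.coprime_iff_not_dvd).2 ?_
      have := Nat.one_le_two_pow (n := (n : ℕ) - 1)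
      obtain ⟨k, hk⟩ : ∃ k, (n : ℕ) = k + 1 := ⟨n - 1, (Nat.sub_add_cancel n.2).symm⟩
      rw [hk, pow_succ]
      have := Nat.one_le_two_pow (n := k)
      omega
    let e' : G ⧸ N ≃* SL(2, F) := e.trans
      ((QuotientGroup.quotientMulEquivOfEq hbot).trans QuotientGroup.quotientBot)
    obtain ⟨x, hx⟩ : ∃ x : G, orderOf x = 3 := by
      haveI : Fact (Nat.Prime 3) := ⟨Nat.prime_three⟩
      refine exists_prime_orderOf_dvd_card' 3 (dvd_trans ?_ (Subgroup.card_quotient_dvd_card N))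
      rw [Nat.card_congr e'.toEquiv, CfsgLib.SL2.card_SL_two']
      obtain ⟨r, hr⟩ : ∃ r, Nat.card F = r + 1 := ⟨Nat.card F - 1, (Nat.sub_add_cancel Nat.card_pos).symm⟩
      rw [hr, Nat.add_sub_cancel]
      apply Nat.dvd_of_mod_eq_zero
      rw [Nat.mul_mod, Nat.mul_mod r, Nat.add_mod r 1, Nat.add_mod (r + 1) 1, Nat.add_mod r 1]
      have : r % 3 < 3 := Nat.mod_lt _ (by norm_num)
      interval_cases r % 3 <;> norm_num
    have hxo : Odd (orderOf x) := by rw [hx]; decide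
    have hx1 : x ≠ 1 := fun e => by rw [e, orderOf_one] at hx; omega
    obtain ⟨c, hc0, hc1⟩ : ∃ c : F, c ≠ 0 ∧ c ≠ 1 := by
      by_contra h
      push Not at h
      have := (Finset.card_le_card (s := (Finset.univ : Finset F)) (t := {0, 1}) fun y _ => by
        rcases eq_or_ne y 0 with hy | hy <;> simp [hy, h y]).trans Finset.card_le_two
      rw [Finset.card_univ] at this
      omega
    obtain ⟨hab, hsq⟩ := CfsgLib.SL2Fpf.elementary_aux hc0 hc1 _ G rfl N hN e' x hx (hfpf x hxo hx1)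
    exact ⟨⟨⟨fun a b => Subtype.ext (hab a a.2 b b.2)⟩⟩, hsq,
      Or.inl ⟨F, i1, i2, i3, h4, ⟨e⟩⟩⟩
  · exact (no_psl N hN hne hfpf h7 e.symm.toMonoidHom e.symm.injective).elim
  · exact (no9 e.symm.toMonoidHom e.symm.injective (psl_three_four_pair h4)).elim
  · haveI := i3
    haveI := i4
    haveI := i5
    obtain ⟨hab, hsq⟩ := CfsgLib.SuzMod.elementary_aux F m _ G rfl N hN e hfpf
    refine ⟨⟨⟨fun a b => Subtype.ext (hab a a.2 b b.2)⟩⟩, hsq, Or.inr ⟨?_, m, i5.one_le, ?_⟩⟩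
    · haveI := isSimpleGroup_gp (F := F) (m := m)
      haveI : Nontrivial (G ⧸ N) := e.toEquiv.nontrivial
      exact IsSimpleGroup.isSimpleGroup_of_surjective e.symm.toMonoidHom e.symm.surjective
    · rw [Nat.card_congr e.toEquiv, natCard_group, i5.card]

end CfsgLib.CNStruct
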