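import Cfsg.Agent.Lib.Char.PiPart
import Cfsg.Agent.S0183
import Cfsg.Agent.S1473
import Cfsg.Agent.Lib.Suzuki.Cover

/-!
# Non-solvable CN-groups: the solvable radical

A non-solvable CN-group without normal 2-subgroup has no solvable normal subgroup; otherwise the
quotient by the 2-core is such a group, and the elements of odd order act without fixed points on it.
-/

set_option autoImplicit false
set_option linter.style.haveILetI false
set_option linter.unusedSectionVars false

namespace CfsgLib.CNStruct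

variable {G : Type*} [Group G]

/-- The centralizer of a single element, as a predicate. -/
theorem mem_cent {g x : G} : g ∈ Subgroup.centralizer ({x} : Set G) ↔ g * x = x * g := by
  rw [Subgroup.mem_centralizer_singleton_iff]

variable [Finite G]

theorem nilp_of_le {H K : Subgroup G} (h : H ≤ K) (hK : Group.IsNilpotent K) : Group.IsNilpotent H :=
  haveI := hK
  CfsgLib.Suzuki.isNilpotent_of_injective' (Subgroup.inclusion h) (Subgroup.inclusion_injective h)

/-- Elements of coprime orders in a nilpotent subgroup commute. -/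
theorem commute_of_mem {C : Subgroup G} (hC : Group.IsNilpotent C) {x y : G} (hx : x ∈ C) (hy : y ∈ C)
    (h : (orderOf x).Coprime (orderOf y)) : x * y = y * x := by
  haveI := hC
  have := CfsgLib.Char.PiPart.commute_of_coprime (G := C) (x := ⟨x, hx⟩) (y := ⟨y, hy⟩)
    (by rwa [← Subgroup.orderOf_coe, ← Subgroup.orderOf_coe])
  exact congrArg Subtype.val this

/-- A subgroup containing non-commuting elements of coprime orders is not nilpotent. -/
theorem not_nilpotent {C : Subgroup G} {x y : G} (hx : x ∈ C) (hy : y ∈ C)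
    (h : (orderOf x).Coprime (orderOf y)) (hne : x * y ≠ y * x) : ¬ Group.IsNilpotent C := fun hC =>
  hne (commute_of_mem hC hx hy h)

/-- A non-trivial solvable normal subgroup contains a non-trivial abelian normal `p`-subgroup. -/
theorem exists_abelian_normal (R : Subgroup G) [R.Normal] (hR : Group.IsSolvable R) (hne : R ≠ ⊥) :
    ∃ (p : ℕ) (_ : Fact p.Prime) (V : Subgroup G), V.Normal ∧ V ≠ ⊥ ∧ V ≤ R ∧ IsPGroup p V ∧
      ∀ a ∈ V, ∀ b ∈ V, a * b = b * a := by
  classical
  haveI := hR
  haveI : Nontrivial R := (Subgroup.nontrivial_iff_ne_bot R).2 hne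
  obtain ⟨n, hn⟩ := (Group.IsSolvable.solvable : ∃ n, derivedSeries R n = ⊥)
  have h0 : derivedSeries R 0 ≠ ⊥ := by
    rw [derivedSeries_zero]
    exact top_ne_bot
  obtain ⟨k, hk, hk1⟩ : ∃ k, derivedSeries R k ≠ ⊥ ∧ derivedSeries R (k + 1) = ⊥ := by
    induction n with
    | zero => exact absurd hn h0
    | succ n ih =>
      by_cases h : derivedSeries R n = ⊥
      · exact ih h
      · exact ⟨n, h, hn⟩
  set A := (derivedSeries R k).map R.subtype with hA
  haveI hAn : A.Normal := inferInstanceAs ((derivedSeries R k).map R.subtype).Normal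
  have hab : ∀ a ∈ A, ∀ b ∈ A, a * b = b * a := by
    rintro _ ⟨a, ha, rfl⟩ _ ⟨b, hb, rfl⟩
    have := Subgroup.commutator_mem_commutator ha hb
    rw [← derivedSeries_succ, hk1, Subgroup.mem_bot, commutatorElement_eq_one_iff_mul_comm] at this
    exact congrArg R.subtype this
  have hA1 : A ≠ ⊥ := fun e => hk
    ((Subgroup.map_eq_bot_iff_of_injective _ R.subtype_injective).1 e)
  obtain ⟨p, hp, hpd⟩ := Nat.exists_prime_and_dvd (n := Nat.card A)
    (fun e => hA1 (Subgroup.eq_bot_of_card_eq A e))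
  haveI := Fact.mk hp
  obtain ⟨P⟩ : Nonempty (Sylow p A) := inferInstance
  haveI hPn : (P : Subgroup A).Normal := ⟨fun x hx g => by
    rwa [show g * x = x * g from Subtype.ext (hab g g.2 x x.2), mul_inv_cancel_right]⟩
  haveI := Sylow.characteristic_of_normal P hPn
  refine ⟨p, inferInstance, (P : Subgroup A).map A.subtype,
    inferInstanceAs ((P : Subgroup A).map A.subtype).Normal, ?_,
    (Subgroup.map_subtype_le _).trans (Subgroup.map_subtype_le _), P.2.map _, ?_⟩
  · rw [Ne, Subgroup.map_eq_bot_iff_of_injective _ A.subtype_injective]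
    exact P.ne_bot_of_dvd_card hpd
  · rintro _ ⟨a, -, rfl⟩ _ ⟨b, -, rfl⟩
    exact hab a a.2 b b.2

/-- A CN-group with an abelian normal subgroup of odd prime power order and no normal 2-subgroup is
solvable. -/
theorem solvable_of_odd_normal (hCN : Cfsg.IsCNGroup G) {p : ℕ} [Fact p.Prime] (hp2 : p ≠ 2)
    (V : Subgroup G) [V.Normal] (hV1 : V ≠ ⊥) (hV : IsPGroup p V)
    (hab : ∀ a ∈ V, ∀ b ∈ V, a * b = b * a)
    (h2 : ∀ M : Subgroup G, M.Normal → IsPGroup 2 M → M = ⊥) : Group.IsSolvable G := by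
  classical
  haveI : Fact (Nat.Prime 2) := ⟨Nat.prime_two⟩
  set C := Subgroup.centralizer (V : Set G) with hC
  have hCnil : Group.IsNilpotent C := by
    obtain ⟨⟨v, hv⟩, hv1⟩ := Subgroup.ne_bot_iff_exists_ne_one.1 hV1
    exact nilp_of_le (fun g hg => mem_cent.2 (hg v hv).symm) (hCN v fun e => hv1 (Subtype.ext e))
  haveI hCn : C.Normal := inferInstanceAs (Subgroup.centralizer (V : Set G)).Normal
  have hCodd : ∀ t ∈ C, t * t = 1 → t = 1 := by
    intro t ht ht2
    haveI := hCnil
    obtain ⟨P⟩ : Nonempty (Sylow 2 C) := inferInstance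
    haveI hPn : (P : Subgroup C).Normal :=
      (Group.isNilpotent_of_finite_tfae.out 0 3 rfl rfl).1 hCnil 2 inferInstance P
    haveI := Sylow.characteristic_of_normal P hPn
    have hM : ((P : Subgroup C).map C.subtype).Normal :=
      inferInstanceAs ((P : Subgroup C).map C.subtype).Normal
    have hPb := h2 _ hM (P.2.map _)
    have hpg : IsPGroup 2 (Subgroup.zpowers (⟨t, ht⟩ : C)) := by
      intro x
      obtain ⟨j, hj⟩ := Subgroup.mem_zpowers_iff.1 x.2
      refine ⟨1, Subtype.ext ?_⟩
      show (x : C) ^ 2 ^ 1 = 1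
      rw [← hj, pow_one, ← zpow_natCast, ← zpow_mul, mul_comm, zpow_mul, zpow_natCast,
        show (⟨t, ht⟩ : C) ^ 2 = 1 from Subtype.ext (by rw [pow_two]; exact ht2), one_zpow]
    obtain ⟨Q, hQ⟩ := hpg.exists_le_sylow
    haveI := Sylow.unique_of_normal Q
      ((Group.isNilpotent_of_finite_tfae.out 0 3 rfl rfl).1 hCnil 2 inferInstance Q)
    have hQP : P = Q := Subsingleton.elim _ _
    have := (Subgroup.eq_bot_iff_forall _).1 hPb t
      ⟨⟨t, ht⟩, hQP ▸ hQ (Subgroup.mem_zpowers _), rfl⟩
    exact this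
  -- every involution inverts `V`
  have hinv : ∀ t : G, t * t = 1 → t ≠ 1 → ∀ v ∈ V, t * v * t⁻¹ = v⁻¹ := by
    intro t ht ht1 v hv
    have hti : t⁻¹ = t := inv_eq_of_mul_eq_one_right ht
    have hw : t * v * t⁻¹ ∈ V := ‹V.Normal›.conj_mem v hv t
    set w := v * (t * v * t⁻¹)
    have hwV : w ∈ V := V.mul_mem hv hw
    have hfix : t * w * t⁻¹ = w := by
      calc t * w * t⁻¹ = (t * v * t⁻¹) * ((t * t) * v * (t⁻¹ * t⁻¹)) := by simp only [w]; group
        _ = (t * v * t⁻¹) * v := by rw [ht, hti, ht, one_mul, mul_one]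
        _ = w := hab _ hw _ hv
    by_contra hne
    have hw1 : w ≠ 1 := fun e => hne (eq_inv_of_mul_eq_one_right e)
    refine ht1 (hCodd t ?_ ht)
    intro u hu
    refine commute_of_mem (hCN w hw1) (x := u) (y := t) (mem_cent.2 (hab u hu w hwV))
      (mem_cent.2 (mul_inv_eq_iff_eq_mul.1 hfix)) ?_
    obtain ⟨e, he⟩ := IsPGroup.iff_orderOf.1 hV ⟨u, hu⟩
    rw [Subgroup.orderOf_mk] at he
    rw [he, orderOf_eq_prime (p := 2) (by rw [pow_two, ht]) ht1]
    exact ((Nat.coprime_primes Fact.out Nat.prime_two).2 hp2).pow_left e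
  by_cases hodd : 2 ∣ Nat.card G
  swap
  · exact Cfsg.Agent.S0183.result (Nat.not_even_iff_odd.1 fun h => hodd h.two_dvd) hCN
  obtain ⟨t, ht⟩ := exists_prime_orderOf_dvd_card' (G := G) 2 hodd
  have ht1 : t ≠ 1 := fun e => by rw [e, orderOf_one] at ht; omega
  have ht2 : t * t = 1 := by rw [← pow_two, ← ht, pow_orderOf_eq_one]
  have hti : t⁻¹ = t := inv_eq_of_mul_eq_one_right ht2
  -- the centralizer of `t` covers the quotient
  have hcover : ∀ g : G, ∃ c ∈ C, c * g ∈ Subgroup.centralizer ({t} : Set G) := by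
    intro g
    set s := g * t * g⁻¹ with hs
    have hs2 : s * s = 1 := by
      rw [hs, show g * t * g⁻¹ * (g * t * g⁻¹) = g * (t * t) * g⁻¹ by group, ht2]; group
    have hs1 : s ≠ 1 := fun e => ht1 (conj_eq_one_iff.1 e)
    have hc : t * s ∈ C := by
      intro v hv
      have h1 := hinv s hs2 hs1 v hv
      have h2 := hinv t ht2 ht1 v⁻¹ (V.inv_mem hv)
      rw [inv_inv, ← h1] at h2
      refine (mul_inv_eq_iff_eq_mul.1 ?_).symm
      calc t * s * v * (t * s)⁻¹ = t * (s * v * s⁻¹) * t⁻¹ := by group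
        _ = v := h2
    set c := t * s with hcdef
    -- `t` inverts `c`
    have hct : t * c * t⁻¹ = c⁻¹ := by
      rw [hcdef, hti, mul_inv_rev, inv_eq_of_mul_eq_one_right hs2, hti,
        show t * (t * s) * t = (t * t) * s * t by group, ht2, one_mul]
    -- a square root of `c`
    have hc2 : Odd (orderOf c) := by
      rw [← Nat.not_even_iff_odd]
      intro he
      obtain ⟨m, hm⟩ := he.two_dvd
      have h := hCodd (c ^ m) (C.pow_mem hc m)
        (by rw [← pow_add, ← two_mul, ← hm, pow_orderOf_eq_one])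
      have hpos := orderOf_pos c
      have := Nat.le_of_dvd (by omega) (orderOf_dvd_of_pow_eq_one h)
      omega
    obtain ⟨m, hm⟩ := hc2
    set d := c ^ (m + 1) with hd
    have hdd : d * d = c := by
      rw [hd, ← pow_add, show m + 1 + (m + 1) = orderOf c + 1 by omega, pow_succ, pow_orderOf_eq_one, one_mul]
    have hdt : t * d * t⁻¹ = d⁻¹ := by
      rw [hd, ← conj_pow, hct, inv_pow]
    have hst : s = d⁻¹ * t * d := by
      have e : t * d = d⁻¹ * t := mul_inv_eq_iff_eq_mul.1 hdt
      calc s = t * c := by rw [hcdef, ← mul_assoc, ht2, one_mul]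
        _ = (t * d) * d := by rw [← hdd, mul_assoc]
        _ = _ := by rw [e]
    refine ⟨d, C.pow_mem hc _, mem_cent.2 ?_⟩
    calc d * g * t = d * (g * t * g⁻¹) * g := by group
      _ = d * s * g := rfl
      _ = t * (d * g) := by rw [hst]; group
  haveI := hCnil
  haveI hct : Group.IsNilpotent (Subgroup.centralizer ({t} : Set G)) := hCN t ht1
  haveI : Group.IsSolvable (Subgroup.centralizer ({t} : Set G)) := inferInstance
  haveI : Group.IsSolvable C := inferInstance
  haveI : Group.IsSolvable (G ⧸ C) := Group.isSolvable_of_surjective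
    (f := (QuotientGroup.mk' C).comp (Subgroup.centralizer ({t} : Set G)).subtype) fun x => by
      obtain ⟨g, rfl⟩ := QuotientGroup.mk'_surjective C x
      obtain ⟨c, hc, hcg⟩ := hcover g
      exact ⟨⟨c * g, hcg⟩, by simp [(QuotientGroup.eq_one_iff c).2 hc]⟩
  exact Group.isSolvable_of_ker_le_range C.subtype (QuotientGroup.mk' C)
    (by rw [QuotientGroup.ker_mk', C.range_subtype])

/-- The solvable radical of a non-solvable CN-group without normal 2-subgroup is trivial. -/
theorem radical_trivial (hG : ¬ Group.IsSolvable G) (hCN : Cfsg.IsCNGroup G)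
    (h2 : ∀ M : Subgroup G, M.Normal → IsPGroup 2 M → M = ⊥) :
    ∀ R : Subgroup G, R.Normal → Group.IsSolvable R → R = ⊥ := by
  intro R hRn hR
  by_contra hne
  haveI := hRn
  obtain ⟨p, hp, V, hVn, hV1, -, hVp, hab⟩ := exists_abelian_normal R hR hne
  by_cases hp2 : p = 2
  · subst hp2
    exact hV1 (h2 V hVn hVp)
  · haveI := hVn
    exact hG (solvable_of_odd_normal hCN hp2 V hV1 hVp hab h2)

/-- Elements of odd order fix no element of a normal 2-subgroup when the radical of the quotient is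
trivial. -/
theorem fpf_of_odd (hCN : Cfsg.IsCNGroup G) (N : Subgroup G) [N.Normal] (hN : IsPGroup 2 N)
    (hrad : ∀ R : Subgroup (G ⧸ N), R.Normal → Group.IsSolvable R → R = ⊥) {x : G}
    (hx : Odd (orderOf x)) (hx1 : x ≠ 1) {v : G} (hv : v ∈ N) (h : x * v * x⁻¹ = v) : v = 1 := by
  classical
  haveI : Fact (Nat.Prime 2) := ⟨Nat.prime_two⟩
  by_contra hv1
  haveI : Nontrivial N := ⟨⟨⟨v, hv⟩, 1, fun e => hv1 (congrArg Subtype.val e)⟩⟩
  set Z := (Subgroup.center N).map N.subtype
  haveI hZn : Z.Normal := inferInstanceAs ((Subgroup.center N).map N.subtype).Normal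
  have hZ1 : Z ≠ ⊥ := fun e => by
    haveI := hN.center_nontrivial
    exact (Subgroup.nontrivial_iff_ne_bot _).1 inferInstance
      ((Subgroup.map_eq_bot_iff_of_injective _ N.subtype_injective).1 e)
  have hcop : ∀ u ∈ N, (orderOf x).Coprime (orderOf u) := fun u hu => by
    obtain ⟨e, he⟩ := IsPGroup.iff_orderOf.1 hN ⟨u, hu⟩
    rw [Subgroup.orderOf_mk] at he
    rw [he]
    exact (Nat.coprime_two_right.2 hx).pow_right e
  set C := Subgroup.centralizer (Z : Set G)
  haveI hCn : C.Normal := inferInstanceAs (Subgroup.centralizer (Z : Set G)).Normal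
  have hxC : x ∈ C := by
    rintro _ ⟨z, hz, rfl⟩
    refine (commute_of_mem (hCN v hv1) (mem_cent.2 (mul_inv_eq_iff_eq_mul.1 h)) (mem_cent.2 ?_)
      (hcop _ z.2)).symm
    exact (congrArg Subtype.val (Subgroup.mem_center_iff.1 hz ⟨v, hv⟩)).symm
  have hCnil : Group.IsNilpotent C := by
    obtain ⟨⟨z, hz⟩, hz1⟩ := Subgroup.ne_bot_iff_exists_ne_one.1 hZ1
    exact nilp_of_le (fun g hg => mem_cent.2 (hg z hz).symm) (hCN z fun e => hz1 (Subtype.ext e))
  haveI : Group.IsSolvable C := inferInstance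
  have hbot := hrad (C.map (QuotientGroup.mk' N)) (hCn.map _ (QuotientGroup.mk'_surjective N))
    (Group.isSolvable_of_surjective ((QuotientGroup.mk' N).subgroupMap_surjective C))
  have hxN : x ∈ N := by
    rw [← QuotientGroup.eq_one_iff]
    exact (Subgroup.eq_bot_iff_forall _).1 hbot _ ⟨x, hxC, rfl⟩
  exact hx1 (orderOf_eq_one_iff.1 ((Nat.coprime_self _).1 (hcop x hxN)))

end CfsgLib.CNStruct
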