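import Cfsg.Agent.Lib.CNStruct.Radical
import Cfsg.Agent.Lib.CIT.Radical
import Cfsg.Agent.Lib.CNOdd.Partition

/-!
# A CN-group with trivial radical has a simple normal subgroup with trivial centralizer
-/

set_option autoImplicit false
set_option linter.unusedSectionVars false
set_option linter.style.haveILetI false

namespace CfsgLib.CNStruct

variable {G : Type*} [Group G] [Finite G]

/-- The simple normal subgroup. -/
theorem exists_simple_normal (hCN : Cfsg.IsCNGroup G) (hns : ¬ Group.IsSolvable G)
    (h2 : ∀ M : Subgroup G, M.Normal → IsPGroup 2 M → M = ⊥) :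
    ∃ L : Subgroup G, L.Normal ∧ IsSimpleGroup L ∧ (∃ a b : L, a * b ≠ b * a) ∧
      ∀ g : G, (∀ l ∈ L, g * l = l * g) → g = 1 := by
  classical
  have hradG := radical_trivial hns hCN h2
  haveI : Nontrivial G := by
    by_contra h
    rw [not_nontrivial_iff_subsingleton] at h
    exact hns (Group.isSolvable_of_comm fun a b => Subsingleton.elim _ _)
  obtain ⟨L, hLn, -, hL1, hmin⟩ := CfsgLib.CIT.exists_minimal_normal_le
    (inferInstance : (⊤ : Subgroup G).Normal) top_ne_bot
  haveI := hLn
  have hLns : ¬ Group.IsSolvable L := fun h => hL1 (hradG L hLn h)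
  have hC : ∀ g : G, (∀ l ∈ L, g * l = l * g) → g = 1 := by
    intro g hg
    by_contra hg1
    have hnil := nilp_of_le (H := L) (K := Subgroup.centralizer ({g} : Set G))
      (fun l hl => mem_cent.2 (hg l hl).symm) (hCN g hg1)
    haveI := hnil
    exact hLns inferInstance
  have hLCN : Cfsg.IsCNGroup L := Cfsg.Agent.CNOdd.cn_subgroup hCN L
  have hradL : ∀ R : Subgroup L, R.Normal → Group.IsSolvable R → R = ⊥ := by
    refine radical_trivial hLns hLCN fun M hM hM2 => ?_
    haveI := hM
    haveI := Fitting.pCore_normal (G := L) 2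
    haveI : Fact (Nat.Prime 2) := ⟨Nat.prime_two⟩
    haveI : (Cfsg.pCore 2 L).Characteristic := PSolvable.pCore_characteristic 2
    have h0 := h2 ((Cfsg.pCore 2 L).map L.subtype) (CfsgLib.CIT.normal_map_of_characteristic _)
      ((Fitting.pCore_isPGroup 2).map _)
    rw [Subgroup.map_eq_bot_iff_of_injective _ L.subtype_injective] at h0
    exact le_bot_iff.mp ((Fitting.le_pCore hM hM2).trans h0.le)
  have hsimple : ∀ K : Subgroup L, K.Normal → K ≠ ⊥ →
      (∀ M : Subgroup L, M.Normal → M ≤ K → M = ⊥ ∨ M = K) → K = ⊤ := by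
    intro K hK hK1 hKmin
    obtain ⟨⟨t, htK⟩, ht1⟩ := Subgroup.ne_bot_iff_exists_ne_one.1 hK1
    have hn : (K.map L.subtype).Normal := by
      refine ⟨?_⟩
      rintro _ ⟨x, hx, rfl⟩ g
      by_contra hne
      let f : MulAut L := MulAut.conjNormal g
      have hKf : (K.map f.toMonoidHom).Normal := hK.map _ f.surjective
      have hint : K ⊓ K.map f.toMonoidHom = ⊥ := by
        refine (hKmin _ (by haveI := hK; haveI := hKf; infer_instance) inf_le_left).resolve_right
          fun e => hne ?_
        have hle : K ≤ K.map f.toMonoidHom := inf_eq_left.mp e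
        have heq : K = K.map f.toMonoidHom := Subgroup.eq_of_le_of_card_ge hle
          (Subgroup.card_map_of_injective (f := f.toMonoidHom) f.injective).le
        exact ⟨f x, by rw [heq]; exact ⟨x, hx, rfl⟩, by simp [f]⟩
      have hcomm := Subgroup.commute_of_normal_of_disjoint K (K.map f.toMonoidHom) hK hKf
        (disjoint_iff.mpr hint)
      have hnil := nilp_of_le (H := K.map f.toMonoidHom)
        (K := Subgroup.centralizer ({t} : Set L))
        (fun y hy => mem_cent.2 (hcomm t y htK hy).eq.symm) (hLCN t fun e => ht1 (Subtype.ext e))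
      haveI := hnil
      exact hK1 (hradL K hK (Group.isSolvable_of_surjective
        (f := (Subgroup.equivMapOfInjective K f.toMonoidHom f.injective).symm.toMonoidHom)
        (Subgroup.equivMapOfInjective K f.toMonoidHom f.injective).symm.surjective))
    have hmap := (hmin _ hn (Subgroup.map_subtype_le K)).resolve_left (by
      rwa [Subgroup.map_eq_bot_iff_of_injective _ L.subtype_injective])
    rw [eq_top_iff]
    intro y _
    obtain ⟨z, hz, hzy⟩ : (y : G) ∈ K.map L.subtype := by rw [hmap]; exact y.2
    exact (Subtype.ext hzy : z = y) ▸ hz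
  haveI : Nontrivial L := (Subgroup.nontrivial_iff_ne_bot L).2 hL1
  refine ⟨L, hLn, ⟨fun K hK => ?_⟩, ?_, hC⟩
  · by_cases hK1 : K = ⊥
    · exact Or.inl hK1
    obtain ⟨M, hM, hMK, hM1, hMmin⟩ := CfsgLib.CIT.exists_minimal_normal_le hK hK1
    exact Or.inr (top_le_iff.mp ((hsimple M hM hM1 hMmin).ge.trans hMK))
  · by_contra! h
    exact hLns (Group.isSolvable_of_comm h)

end CfsgLib.CNStruct
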