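import Cfsg.Agent.Lib.Suzuki.Symp
import Cfsg.Agent.Lib.Suzuki.Group

/-!
# Representations of the Suzuki group: fixed points of a Sylow 2-subgroup

A representation is fixed-point-free here if the torus and one element of order five have no fixed
vectors, expressed through the vanishing of their sums.
-/

set_option autoImplicit false
set_option linter.unusedSectionVars false
set_option linter.style.haveILetI false

namespace CfsgLib.SuzMod

open CfsgLib.Suzuki Matrix

variable {F : Type*} [Field F] [Fintype F] [DecidableEq F] [CharP F 2] {m : ℕ} [hP : Param F m]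

/-- The matrix of an element. -/
def mx (g : Gp F m) : Matrix (Fin 4) (Fin 4) F := (g.1 : Matrix (Fin 4) (Fin 4) F)

theorem mx_one : mx (1 : Gp F m) = 1 := rfl

theorem mx_mul (g h : Gp F m) : mx (g * h) = mx g * mx h := rfl

theorem mx_gT (a b : F) : mx (gT (m := m) a b) = trMat m a b := rfl

theorem mx_gH (t : Fˣ) : mx (gH (m := m) t) = htMat m t := rfl

theorem mx_gW : mx (gW F m) = Cfsg.suzukiForm F := rfl

theorem form_eq (g : Gp F m) : (mx g)ᵀ * Cfsg.suzukiForm F * mx g = Cfsg.suzukiForm F :=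
  mem_isoms g.2

variable (F m) in
/-- An element of order five. -/
def el5 : Gp F m := gT 0 1 * gW F m

theorem el5_pow : el5 F m ^ 5 = 1 := by
  refine Subtype.ext (Subtype.ext ?_)
  show ((trMat m (0 : F) 1) * Cfsg.suzukiForm F) ^ 5 = 1
  ext i j
  fin_cases i <;> fin_cases j <;>
    simp [pow_succ, trMat, ov, Cfsg.suzukiForm, Matrix.mul_apply, Fin.sum_univ_four,
      CharTwo.add_self_eq_zero]

theorem el5_ne_one : el5 F m ≠ 1 := by
  intro h
  have h' := congrArg (fun g => mx g 0 1) h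
  simp [el5, mx_mul, mx_gT, mx_gW, mx_one, trMat, ov, Cfsg.suzukiForm, Matrix.mul_apply,
    Fin.sum_univ_four] at h'

theorem card_pos' : 2 ≤ Fintype.card F := Fintype.one_lt_card

theorem pred_card_cast : ((Fintype.card F - 1 : ℕ) : F) = 1 := by
  rw [Nat.cast_sub Fintype.card_pos, FiniteField.cast_card_eq_zero, zero_sub, CharTwo.neg_eq,
    Nat.cast_one]

section Rep

variable {R : Type*} [Semiring R] {X : Type*} [AddCommGroup X] [Module R X]

/-- The torus and an element of order five have no fixed vectors. -/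
structure Fpf (ρ : Gp F m →* Module.End R X) : Prop where
  torus : ∀ v, ∑ t : Fˣ, ρ (gH t) v = 0
  five : ∀ v, ∑ k ∈ Finset.range 5, ρ (el5 F m ^ k) v = 0

theorem rep_mul (ρ : Gp F m →* Module.End R X) (g h : Gp F m) (v : X) :
    ρ (g * h) v = ρ g (ρ h v) := by rw [map_mul]; rfl

theorem rep_one (ρ : Gp F m →* Module.End R X) (v : X) : ρ 1 v = v := by rw [map_one]; rfl

theorem rep_inv_apply (ρ : Gp F m →* Module.End R X) (g : Gp F m) (v : X) : ρ g⁻¹ (ρ g v) = v := by
  rw [← rep_mul, inv_mul_cancel, rep_one]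

theorem rep_apply_inv (ρ : Gp F m →* Module.End R X) (g : Gp F m) (v : X) : ρ g (ρ g⁻¹ v) = v := by
  rw [← rep_mul, mul_inv_cancel, rep_one]

theorem rep_injective (ρ : Gp F m →* Module.End R X) (g : Gp F m) : Function.Injective (ρ g) :=
  fun u v h => by rw [← rep_inv_apply ρ g u, h, rep_inv_apply]

/-- `v` is fixed by the translations. -/
def UFixed (ρ : Gp F m →* Module.End R X) (v : X) : Prop := ∀ a b : F, ρ (gT a b) v = v

end Rep

variable {X : Type*} [AddCommGroup X] [Module F X] [Finite X]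

/-- A non-zero invariant subspace contains a non-zero vector fixed by the translations. -/
theorem exists_ufixed (ρ : Gp F m →* Module.End F X) (W : Submodule F X)
    (hW : ∀ g, ∀ v ∈ W, ρ g v ∈ W) (hne : W ≠ ⊥) : ∃ v ∈ W, v ≠ 0 ∧ UFixed ρ v := by
  haveI : Fact (Nat.Prime 2) := ⟨Nat.prime_two⟩
  have hU : IsPGroup 2 (grpU F m) := IsPGroup.of_card (n := (2 * m + 1) * 2)
    (by rw [natCard_grpU, hP.card, ← pow_mul])
  letI : MulAction (grpU F m) W :=
    { smul := fun u v => ⟨ρ u v, hW u v v.2⟩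
      one_smul := fun v => Subtype.ext (rep_one ρ (v : X))
      mul_smul := fun u u' v => Subtype.ext (rep_mul ρ (u : Gp F m) u' (v : X)) }
  obtain ⟨w, hw, hw0⟩ := (Submodule.ne_bot_iff W).1 hne
  have h2 : 2 ∣ Nat.card W := by
    have h : addOrderOf (⟨w, hw⟩ : W) = 2 := addOrderOf_eq_prime (p := 2)
      (Subtype.ext (by
        show (2 : ℕ) • w = 0
        rw [← Nat.cast_smul_eq_nsmul F, Nat.cast_two, CharTwo.two_eq_zero, zero_smul]))
      (fun e => hw0 (congrArg Subtype.val e))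
    exact h ▸ addOrderOf_dvd_natCard _
  have h0 : (0 : W) ∈ MulAction.fixedPoints (grpU F m) W := fun u => Subtype.ext (map_zero _)
  obtain ⟨v, hv, hv0⟩ := hU.exists_fixed_point_of_prime_dvd_card_of_fixed_point W h2 h0
  exact ⟨v, v.2, fun e => hv0 (Subtype.ext e.symm), fun a b =>
    congrArg Subtype.val (hv ⟨gT a b, gT_mem a b⟩)⟩

/-- The projection to a weight space of the torus. -/
def wproj (ρ : Gp F m →* Module.End F X) (e : ℕ) (v : X) : X :=
  ∑ t : Fˣ, (((t⁻¹ : Fˣ) : F) ^ e) • ρ (gH t) v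

theorem wproj_weight (ρ : Gp F m →* Module.End F X) (e : ℕ) (v : X) (s : Fˣ) :
    ρ (gH s) (wproj ρ e v) = (s : F) ^ e • wproj ρ e v := by
  rw [wproj, map_sum, Finset.smul_sum]
  refine Fintype.sum_equiv (Equiv.mulLeft s) _ _ fun t => ?_
  show ρ (gH s) (_ • _) = (s : F) ^ e • (_ • ρ (gH (s * t)) v)
  rw [LinearMap.map_smul, map_mul gH, rep_mul, smul_smul]
  congr 1
  show _ = (s : F) ^ e * (((s * t)⁻¹ : Fˣ) : F) ^ e
  rw [← mul_pow, _root_.mul_inv_rev, Units.val_mul, mul_comm ((t⁻¹ : Fˣ) : F), ← mul_assoc,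
    Units.mul_inv, one_mul]

theorem sum_wproj (ρ : Gp F m →* Module.End F X) (v : X) :
    ∑ e ∈ Finset.range (Fintype.card F - 1), wproj ρ e v = v := by
  simp only [wproj]
  rw [Finset.sum_comm]
  simp_rw [← Finset.sum_smul]
  rw [Finset.sum_eq_single (1 : Fˣ)]
  · simp [pred_card_cast, rep_one]
  · intro t _ ht
    have h1 : ((t⁻¹ : Fˣ) : F) ≠ 1 := fun e => ht (inv_eq_one.1 (Units.ext e))
    have h2 : (∑ e ∈ Finset.range (Fintype.card F - 1), ((t⁻¹ : Fˣ) : F) ^ e) = 0 := by
      refine (mul_eq_zero.1 ?_).resolve_right (sub_ne_zero.2 h1)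
      rw [geom_sum_mul, FiniteField.pow_card_sub_one_eq_one _ (Units.ne_zero _), sub_self]
    rw [h2, zero_smul]
  · simp

theorem wproj_ufixed (ρ : Gp F m →* Module.End F X) (e : ℕ) {v : X} (hv : UFixed ρ v) :
    UFixed ρ (wproj ρ e v) := by
  intro a b
  rw [wproj, map_sum]
  refine Finset.sum_congr rfl fun t _ => ?_
  rw [LinearMap.map_smul, ← rep_mul]
  congr 1
  have h := gH_conj_gT (m := m) t⁻¹ a b
  rw [map_inv, inv_inv] at h
  rw [show gT (m := m) a b * gH t = gH t * ((gH t)⁻¹ * gT a b * gH t) by group, rep_mul, h, hv]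

/-- A non-zero invariant subspace contains a weight vector fixed by the translations. -/
theorem exists_weight (ρ : Gp F m →* Module.End F X) (W : Submodule F X)
    (hW : ∀ g, ∀ v ∈ W, ρ g v ∈ W) (hne : W ≠ ⊥) :
    ∃ e : ℕ, ∃ v ∈ W, v ≠ 0 ∧ UFixed ρ v ∧ ∀ t : Fˣ, ρ (gH t) v = (t : F) ^ e • v := by
  obtain ⟨v, hv, hv0, hvU⟩ := exists_ufixed ρ W hW hne
  obtain ⟨e, he⟩ : ∃ e, wproj ρ e v ≠ 0 := by
    by_contra h
    push Not at h
    exact hv0 (by rw [← sum_wproj ρ v, Finset.sum_eq_zero fun e _ => h e])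
  exact ⟨e, _, sum_mem fun t _ => W.smul_mem _ (hW _ _ hv), he, wproj_ufixed ρ e hvU,
    wproj_weight ρ e v⟩

end CfsgLib.SuzMod
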