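import Cfsg.Agent.Lib.CNStruct.SuzPairing

/-!
# No fixed-point-free module of exponent four for the Suzuki group

The scalars are the truncated Witt vectors of length two; the torus sum of a cocycle of the centre of
the translations gives a highest weight vector which has to vanish.
-/

set_option autoImplicit false
set_option linter.unusedSectionVars false
set_option linter.style.haveILetI false

namespace CfsgLib.SuzMod

/-- Witt vectors of length two in characteristic two. -/
@[ext] structure W2 (F : Type*) where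
  fst : F
  snd : F

namespace W2

variable {F : Type*} [Field F] [CharP F 2]

instance : Zero (W2 F) := ⟨⟨0, 0⟩⟩
instance : One (W2 F) := ⟨⟨1, 0⟩⟩
instance : Add (W2 F) := ⟨fun x y => ⟨x.fst + y.fst, x.snd + y.snd + x.fst * y.fst⟩⟩
instance : Neg (W2 F) := ⟨fun x => ⟨x.fst, x.snd + x.fst * x.fst⟩⟩
instance : Mul (W2 F) := ⟨fun x y => ⟨x.fst * y.fst, x.fst * x.fst * y.snd + y.fst * y.fst * x.snd⟩⟩

@[simp] theorem zero_fst : (0 : W2 F).fst = 0 := rfl
@[simp] theorem zero_snd : (0 : W2 F).snd = 0 := rfl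
@[simp] theorem one_fst : (1 : W2 F).fst = 1 := rfl
@[simp] theorem one_snd : (1 : W2 F).snd = 0 := rfl
@[simp] theorem add_fst (x y : W2 F) : (x + y).fst = x.fst + y.fst := rfl
@[simp] theorem add_snd (x y : W2 F) : (x + y).snd = x.snd + y.snd + x.fst * y.fst := rfl
@[simp] theorem neg_fst (x : W2 F) : (-x).fst = x.fst := rfl
@[simp] theorem neg_snd (x : W2 F) : (-x).snd = x.snd + x.fst * x.fst := rfl
@[simp] theorem mul_fst (x y : W2 F) : (x * y).fst = x.fst * y.fst := rfl
@[simp] theorem mul_snd (x y : W2 F) :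
    (x * y).snd = x.fst * x.fst * y.snd + y.fst * y.fst * x.snd := rfl

instance : CommRing (W2 F) where
  add_assoc x y z := by ext <;> simp <;> ring
  zero_add x := by ext <;> simp
  add_zero x := by ext <;> simp
  add_comm x y := by ext <;> simp <;> ring
  neg_add_cancel x := by
    ext
    · simp [CharTwo.add_self_eq_zero]
    · show x.snd + x.fst * x.fst + x.snd + x.fst * x.fst = 0
      linear_combination (x.snd + x.fst * x.fst) * CharTwo.two_eq_zero (R := F)
  nsmul := nsmulRec
  zsmul := zsmulRec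
  mul_assoc x y z := by ext <;> simp <;> ring
  one_mul x := by ext <;> simp
  mul_one x := by ext <;> simp
  mul_comm x y := by ext <;> simp <;> ring
  zero_mul x := by ext <;> simp
  mul_zero x := by ext <;> simp
  left_distrib x y z := by
    ext
    · simp [mul_add]
    · simp only [mul_snd, add_snd, add_fst, mul_fst]
      linear_combination (x.snd * y.fst * z.fst) * CharTwo.two_eq_zero (R := F)
  right_distrib x y z := by
    ext
    · simp [add_mul]
    · simp only [mul_snd, add_snd, add_fst, mul_fst]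
      linear_combination (z.snd * x.fst * y.fst) * CharTwo.two_eq_zero (R := F)

/-- The Teichmüller representative. -/
def tv : F →* W2 F where
  toFun a := ⟨a, 0⟩
  map_one' := rfl
  map_mul' a b := by ext <;> simp

theorem tv_zero : tv (0 : F) = 0 := rfl

theorem two_eq : (2 : W2 F) = ⟨0, 1⟩ := by
  rw [← one_add_one_eq_two]
  ext <;> simp [CharTwo.add_self_eq_zero]

theorem two_ne : (2 : W2 F) ≠ 0 := fun h => one_ne_zero (α := F) (congrArg W2.snd (two_eq.symm.trans h))

theorem four_eq : (4 : W2 F) = 0 := by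
  rw [show (4 : W2 F) = 2 * 2 by norm_num, two_eq]
  ext <;> simp

theorem tv_add {a b s : F} (h : s * s = a * b) : tv (a + b) = tv a + tv b + 2 * tv s := by
  rw [two_eq]
  ext
  · simp [tv]
  · simp only [tv, MonoidHom.coe_mk, OneHom.coe_mk, add_snd, mul_snd, mul_fst, add_fst]
    linear_combination -h - (a * b) * CharTwo.two_eq_zero (R := F)

end W2

open CfsgLib.Suzuki Matrix

variable {F : Type*} [Field F] [Fintype F] [DecidableEq F] [CharP F 2] {m : ℕ} [hP : Param F m]

theorem pred_card_w2 {n : ℕ} [hQ : Param F n] : ((Fintype.card F - 1 : ℕ) : W2 F) = -1 := by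
  rw [Nat.cast_sub Fintype.card_pos, hQ.card, pow_succ, pow_mul, Nat.cast_one]
  push_cast
  have := hQ.one_le
  rw [W2.four_eq, zero_pow (by omega), zero_mul, zero_sub]

/-- The scaling of the centre of the translations by a torus element. -/
def tau (m : ℕ) (t : Fˣ) : F := sg F m (t : F) * (t : F) ^ 2

/-- The weight of the highest vector. -/
def topw (m : ℕ) (t : Fˣ) : F := sg F m (t : F) * t

theorem topw_ne (t : Fˣ) : topw m t ≠ 0 :=
  mul_ne_zero ((map_ne_zero (sg F m)).2 t.ne_zero) t.ne_zero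

theorem topw_mul (s t : Fˣ) : topw m (s * t) = topw m s * topw m t := by
  simp only [topw, Units.val_mul, map_mul]; ring

theorem tau_mul (s t : Fˣ) : tau m (s * t) = tau m s * tau m t := by
  simp only [tau, Units.val_mul, map_mul]; ring

theorem sg_tau (t : Fˣ) : sg F m (tau m t) = topw m t * topw m t := by
  rw [tau, topw, map_mul, map_pow, sg_sg hP.card]; ring

theorem exists_tau {b : F} (hb : b ≠ 0) : ∃ t : Fˣ, tau m t = b := by
  have hne : ∀ t : Fˣ, tau m t ≠ 0 := fun t =>
    mul_ne_zero ((map_ne_zero (sg F m)).2 t.ne_zero) (pow_ne_zero _ t.ne_zero)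
  let f : Fˣ → Fˣ := fun t => Units.mk0 (tau m t) (hne t)
  have hf : Function.Injective f := fun s t h => by
    have h' : tau m s = tau m t := congrArg Units.val h
    have : tau m (s * t⁻¹) = 1 := by
      rw [tau_mul, h', ← tau_mul, mul_inv_cancel]
      simp [tau]
    exact mul_inv_eq_one.1 (eq_one_of_sgsq (m := m) this)
  obtain ⟨t, ht⟩ := Finite.surjective_of_injective hf (Units.mk0 b hb)
  exact ⟨t, congrArg Units.val ht⟩

section Core

variable {M : Type*} [AddCommGroup M] [Module (W2 F) M]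

/-- The main computation. -/
theorem top_zero (ρ : Gp F m →* Module.End (W2 F) M) (hρ : Fpf ρ) (k : ℕ) (ι : (Fin 4 → F) →+ M)
    (hsmul : ∀ (a : F) (x : Fin 4 → F), ι (a • x) = W2.tv a • ι x) (hrep : ∀ g x, ι (nRep k g x) = ρ g (ι x))
    {Φ₀ : M} (hΦ : (2 : W2 F) • Φ₀ = ι (Pi.single 3 1)) : ι (Pi.single 0 1) = 0 := by
  set T : F →* W2 F := W2.tv.comp (iterateFrobenius F 2 k).toMonoidHom with hT
  have hT0 : T 0 = 0 := by
    show W2.tv (iterateFrobenius F 2 k 0) = 0
    rw [map_zero, W2.tv_zero]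
  have hTadd : ∀ {a b s : F}, s * s = a * b → T (a + b) = T a + T b + 2 * T s := by
    intro a b s h
    show W2.tv (iterateFrobenius F 2 k (a + b)) = W2.tv (iterateFrobenius F 2 k a) +
      W2.tv (iterateFrobenius F 2 k b) + 2 * W2.tv (iterateFrobenius F 2 k s)
    rw [map_add]
    exact W2.tv_add (by rw [← map_mul, ← map_mul, h])
  have hcol : ∀ g (j : Fin 4) (c : F), (∀ i, mx g i j = if i = j then c else 0) →
      ρ g (ι (Pi.single j 1)) = T c • ι (Pi.single j 1) := by
    intro g j c hc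
    have e : nRep k g (Pi.single j 1) = (c ^ 2 ^ k) • Pi.single j 1 := by
      funext i
      rw [nRep_apply, Finset.sum_eq_single j (fun x _ hx => by rw [Pi.single_eq_of_ne hx, mul_zero])
        (by simp), Pi.single_eq_same, mul_one, hc]
      by_cases hij : i = j
      · subst hij; simp
      · simp [hij, zero_pow (pow_ne_zero k two_ne_zero)]
    rw [← hrep, e, hsmul]
    rfl
  have hdiag : ∀ (t : Fˣ) (j i : Fin 4), mx (gH (m := m) t) i j = if i = j then htMat m t j j else 0 :=
    fun t j i => by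
      rw [mx_gH, htMat]
      by_cases hij : i = j
      · subst hij; rw [if_pos rfl]
      · rw [if_neg hij, Matrix.diagonal_apply_ne _ hij]
  have h0 : ∀ t : Fˣ, ρ (gH t) (ι (Pi.single 0 1)) = T (topw m t) • ι (Pi.single 0 1) := fun t => by
    rw [hcol _ _ (topw m t) fun i => ?_]
    rw [hdiag t 0 i]
    simp [htMat, topw]
  have h1 : ∀ t : Fˣ, ρ (gH t) (ι (Pi.single 1 1)) = T (t : F) • ι (Pi.single 1 1) := fun t => by
    rw [hcol _ _ (t : F) fun i => ?_]
    rw [hdiag t 1 i]
    simp [htMat]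
  have h3 : ∀ t : Fˣ, ρ (gH t) (ι (Pi.single 3 1)) = T (topw m t)⁻¹ • ι (Pi.single 3 1) := fun t => by
    rw [hcol _ _ (topw m t)⁻¹ fun i => ?_]
    rw [hdiag t 3 i]
    simp [htMat, topw]
  set ε := ι (Pi.single (0 : Fin 4) 1)
  have hT1 : ∀ t : Fˣ, T (topw m t) * T (topw m t)⁻¹ = 1 := fun t => by
    rw [← map_mul, mul_inv_cancel₀ (topw_ne t), map_one]
  have hsum : ∀ x : M, ∑ _t : Fˣ, x = -x := fun x => by
    rw [Finset.sum_const, Finset.card_univ, Fintype.card_units, ← Nat.cast_smul_eq_nsmul (W2 F),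
      pred_card_w2 (n := m), neg_one_smul]
  -- the weight lift of the bottom vector
  set y : M := -∑ t : Fˣ, T (topw m t) • ρ (gH t) Φ₀ with hy
  have hy2 : (2 : W2 F) • y = ι (Pi.single 3 1) := by
    rw [hy, smul_neg, Finset.smul_sum]
    rw [Finset.sum_congr rfl fun t _ => show (2 : W2 F) • T (topw m t) • ρ (gH (m := m) t) Φ₀ =
        ι (Pi.single 3 1) by
      rw [smul_comm, ← LinearMap.map_smul, hΦ, h3, smul_smul, hT1, one_smul], hsum, neg_neg]
  have hyw : ∀ s : Fˣ, ρ (gH s) y = T (topw m s)⁻¹ • y := fun s => by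
    rw [hy, map_neg, map_sum, smul_neg, Finset.smul_sum]
    congr 1
    refine Fintype.sum_equiv (Equiv.mulLeft s) _ _ fun t => ?_
    rw [LinearMap.map_smul, ← rep_mul, ← map_mul, smul_smul, ← map_mul]
    show _ = T ((topw m s)⁻¹ * topw m (s * t)) • ρ (gH (s * t)) Φ₀
    rw [topw_mul, inv_mul_cancel_left₀ (topw_ne s)]
  -- the projection to the top weight
  let P : M →ₗ[W2 F] M := -∑ t : Fˣ, T (topw m t)⁻¹ • ρ (gH t)
  have hP_apply : ∀ x, P x = -∑ t : Fˣ, T (topw m t)⁻¹ • ρ (gH t) x := fun x => by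
    simp [P, LinearMap.sum_apply]
  have hPε : P ε = ε := by
    rw [hP_apply]
    simp_rw [h0, smul_smul, mul_comm (T (topw m _)⁻¹), hT1, one_smul]
    rw [hsum, neg_neg]
  have hPh : ∀ s x, P (ρ (gH s) x) = T (topw m s) • P x := fun s x => by
    rw [hP_apply, hP_apply, smul_neg, Finset.smul_sum]
    congr 1
    refine Fintype.sum_equiv (Equiv.mulRight s) _ _ fun t => ?_
    show _ = T (topw m s) • T (topw m (t * s))⁻¹ • ρ (gH (t * s)) x
    rw [smul_smul, ← map_mul T, map_mul gH, rep_mul, topw_mul, mul_inv, mul_left_comm,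
      mul_inv_cancel₀ (topw_ne s), mul_one]
  set δ : F → M := fun b => ρ (gT (m := m) 0 b) y - y with hδ
  have hconj : ∀ s b, gH s * gT (m := m) (0 : F) b = gT 0 (tau m s * b) * gH s := fun s b => by
    have h := gH_conj_gT (m := m) s 0 b
    rw [mul_zero, mul_inv_eq_iff_eq_mul] at h
    exact h
  have hδadd : ∀ b c, δ (b + c) = ρ (gT (m := m) 0 b) (δ c) + δ b := fun b c => by
    simp only [hδ, map_sub, ← rep_mul, gT_mul, map_zero, mul_zero, add_zero]
    abel
  have hδτ : ∀ s b, δ (tau m s * b) = T (topw m s) • ρ (gH s) (δ b) := fun s b => by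
    simp only [hδ, map_sub, ← rep_mul, hconj]
    rw [rep_mul, hyw, LinearMap.map_smul, smul_sub, smul_smul, smul_smul, hT1, one_smul, one_smul]
  set c := P (δ 1)
  have h2c : (2 : W2 F) • c = ε := by
    have hz : nRep k (gT (m := m) (0 : F) 1) (Pi.single (3 : Fin 4) 1) =
        Pi.single (0 : Fin 4) 1 + Pi.single (1 : Fin 4) 1 + Pi.single (3 : Fin 4) 1 := by
      funext i
      rw [nRep_apply]
      fin_cases i <;> simp [Fin.sum_univ_four, mx_gT, trMat, ov]
    have e1 : P (ι (Pi.single (1 : Fin 4) 1)) = 0 := by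
      rw [hP_apply]
      simp_rw [h1, smul_smul, ← map_mul T, ← Finset.sum_smul]
      rw [neg_eq_zero]
      have hS : ∑ t : Fˣ, T ((topw m t)⁻¹ * t) = 0 := by
        obtain ⟨u, hu⟩ : ∃ u : Fˣ, u ≠ 1 := by
          haveI : Nontrivial Fˣ := by
            rw [← Fintype.one_lt_card_iff_nontrivial, Fintype.card_units, hP.card]
            have := hP.one_le
            have : 2 ^ 3 ≤ 2 ^ (2 * m + 1) := Nat.pow_le_pow_right (by norm_num) (by omega)
            omega
          exact exists_ne 1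
        set r := T ((topw m u)⁻¹ * u)
        have hr : r * ∑ t : Fˣ, T ((topw m t)⁻¹ * t) = ∑ t : Fˣ, T ((topw m t)⁻¹ * t) := by
          rw [Finset.mul_sum]
          refine Fintype.sum_equiv (Equiv.mulLeft u) _ _ fun t => ?_
          show r * _ = T ((topw m (u * t))⁻¹ * ((u * t : Fˣ) : F))
          rw [← map_mul T, topw_mul, mul_inv, Units.val_mul]
          congr 1
          ring
        have hu1 : iterateFrobenius F 2 k ((topw m u)⁻¹ * u) ≠ 1 := fun e => by
          rw [← map_one (iterateFrobenius F 2 k)] at e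
          have e2 := (iterateFrobenius F 2 k).injective e
          rw [topw, mul_inv, mul_assoc, inv_mul_cancel₀ u.ne_zero, mul_one, inv_eq_one] at e2
          exact hu (Units.ext (sg_injective (m := m) (e2.trans (map_one (sg F m)).symm)))
        have hx : ∀ x : W2 F, r * x = x → x = 0 := by
          intro x hx
          have e1 := congrArg W2.fst hx
          have e2 := congrArg W2.snd hx
          simp only [r, hT, W2.tv, MonoidHom.coe_comp, Function.comp_apply, MonoidHom.coe_mk,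
            OneHom.coe_mk, RingHom.toMonoidHom_eq_coe, MonoidHom.coe_coe, W2.mul_fst, W2.mul_snd,
            mul_zero, add_zero] at e1 e2
          set κ := iterateFrobenius F 2 k ((topw m u)⁻¹ * u)
          have a1 : x.fst = 0 := by
            by_contra h
            exact hu1 ((mul_eq_right₀ h).1 e1)
          refine W2.ext a1 ?_
          by_contra h
          have a2 := (mul_eq_right₀ h).1 e2
          refine hu1 ?_
          have : (κ - 1) ^ 2 = 0 := by linear_combination a2 + (1 - κ) * two_eq_zero (F := F)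
          exact sub_eq_zero.1 (eq_zero_of_pow_eq_zero this)
        exact hx _ hr
      rw [hS, zero_smul]
    rw [← LinearMap.map_smul, hδ, smul_sub, ← LinearMap.map_smul, hy2, ← hrep, hz, map_add, map_add,
      add_sub_cancel_right, map_add, hPε, e1, add_zero]
  have hPδ : ∀ b, P (δ b) = T (sg F m b) • c := by
    intro b
    rcases eq_or_ne b 0 with rfl | hb
    · rw [map_zero, hT0, zero_smul]
      simp [hδ, gT_zero, rep_one]
    · obtain ⟨s, rfl⟩ := exists_tau (m := m) hb
      conv_lhs => rw [← mul_one (tau m s), hδτ, LinearMap.map_smul, hPh, smul_smul, ← map_mul T,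
        ← sg_tau]
  have hkey : ∀ s : Fˣ, P (ρ (gT (m := m) 0 1) (ρ (gH s)⁻¹ (δ 1)) - ρ (gH s)⁻¹ (δ 1)) = ε := by
    intro s
    have hL : P (ρ (gT (m := m) 0 (tau m s)) (δ 1) - δ 1) = T (topw m s) • ε := by
      rw [show ρ (gT (m := m) 0 (tau m s)) (δ 1) - δ 1 = δ (tau m s + 1) - δ (tau m s) - δ 1 by
        rw [hδadd]; abel, map_sub, map_sub, hPδ, hPδ, hPδ, map_add, map_one (sg F m),
        hTadd (a := sg F m (tau m s)) (b := 1) (s := topw m s) (by rw [mul_one, sg_tau]), map_one,
        ← h2c]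
      module
    have hR : ρ (gT (m := m) 0 (tau m s)) (δ 1) - δ 1 =
        ρ (gH s) (ρ (gT (m := m) 0 1) (ρ (gH s)⁻¹ (δ 1)) - ρ (gH s)⁻¹ (δ 1)) := by
      generalize δ 1 = z
      rw [map_sub, rep_apply_inv, ← rep_mul ρ (gH s), hconj, mul_one, rep_mul, rep_apply_inv]
    rw [hR, hPh] at hL
    have := congrArg (fun x => T (topw m s)⁻¹ • x) hL
    simpa only [smul_smul, mul_comm (T (topw m s)⁻¹), hT1, one_smul] using this
  have h := Finset.sum_congr (s₁ := (Finset.univ : Finset Fˣ)) rfl fun s _ => hkey s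
  rw [hsum, ← map_sum, Finset.sum_sub_distrib, ← map_sum] at h
  rw [show ∑ s : Fˣ, ρ (gH s)⁻¹ (δ 1) = 0 by
    refine Eq.trans ?_ (hρ.torus (δ 1))
    exact Fintype.sum_equiv (Equiv.inv Fˣ) _ _ fun s => by rw [Equiv.inv_apply, map_inv gH],
    map_zero, sub_zero, map_zero] at h
  exact neg_eq_zero.1 h.symm

end Core

variable {M : Type*} [AddCommGroup M] [Finite M]

/-- The dual module over the Witt vectors. -/
def dRep (ρ : Gp F m →* Module.End ℤ M) : Gp F m →* Module.End (W2 F) (M →+ W2 F) where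
  toFun g :=
    { toFun := fun Φ => Φ.comp (ρ g⁻¹).toAddMonoidHom
      map_add' := fun _ _ => rfl
      map_smul' := fun _ _ => rfl }
  map_one' := LinearMap.ext fun Φ => AddMonoidHom.ext fun v => congrArg Φ (by
    show ρ (1 : Gp F m)⁻¹ v = v
    rw [inv_one, rep_one])
  map_mul' g h := LinearMap.ext fun Φ => AddMonoidHom.ext fun v => congrArg Φ (by
    show ρ (g * h)⁻¹ v = ρ h⁻¹ (ρ g⁻¹ v)
    rw [_root_.mul_inv_rev, rep_mul])

theorem Fpf.dual {ρ : Gp F m →* Module.End ℤ M} (hρ : Fpf ρ) : Fpf (dRep ρ) := by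
  constructor <;> intro Φ <;> refine AddMonoidHom.ext fun v => ?_ <;>
    rw [AddMonoidHom.finsetSum_apply]
  · show ∑ t : Fˣ, Φ (ρ (gH t)⁻¹ v) = 0
    rw [← map_sum, show ∑ t : Fˣ, ρ (gH t)⁻¹ v = 0 from ?_, map_zero]
    refine Eq.trans ?_ (hρ.torus v)
    exact Fintype.sum_equiv (Equiv.inv Fˣ) _ _ fun t => by rw [Equiv.inv_apply, map_inv gH]
  · show ∑ k ∈ Finset.range 5, Φ (ρ (el5 F m ^ k)⁻¹ v) = 0
    rw [← map_sum, show ∑ k ∈ Finset.range 5, ρ (el5 F m ^ k)⁻¹ v = 0 from ?_, map_zero]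
    have h := hρ.five (ρ (el5 F m ^ 4)⁻¹ v)
    rw [← Finset.sum_range_reflect] at h
    refine Eq.trans (Finset.sum_congr rfl fun k hk => ?_) h
    rw [Finset.mem_range] at hk
    rw [← rep_mul]
    congr 2
    rw [← pow_sub_mul_pow (el5 F m) (show k ≤ 4 by omega), _root_.mul_inv_rev,
      show 5 - 1 - k = 4 - k by omega]
    group

omit [DecidableEq F] in
theorem exists_hom_two {u : M} (h4 : ∀ v : M, (4 : ℕ) • v = 0) (hu : u + u ≠ 0) :
    ∃ Φ : M →+ W2 F, Φ (u + u) ≠ 0 := by
  classical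
  obtain ⟨ι, _, p, hp, e, ⟨E⟩⟩ := AddCommGroup.equiv_directSum_zmod_of_finite M
  obtain ⟨i, hi⟩ : ∃ i, E (u + u) i ≠ 0 := by
    by_contra h
    push Not at h
    exact hu (E.injective (by rw [map_zero]; exact DFinsupp.ext h))
  set n := p i ^ e i
  have hn4 : n ∣ 4 := by
    rw [← ZMod.natCast_eq_zero_iff]
    have h := congrArg (fun x => E x i) (h4 (E.symm (DirectSum.of (fun i => ZMod (p i ^ e i)) i 1)))
    simp only [map_nsmul, map_zero, DirectSum.zero_apply] at h
    rw [AddEquiv.apply_symm_apply, ← map_nsmul, DirectSum.of_eq_same, nsmul_one] at h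
    exact h
  have hn2 : ¬ n ∣ 2 := fun h2 => hi (by
    rw [map_add, DirectSum.add_apply, ← two_nsmul, nsmul_eq_mul, (ZMod.natCast_eq_zero_iff 2 _).2 h2, zero_mul])
  have hn : n = 4 := by
    obtain ⟨j, hj, hj'⟩ := (Nat.dvd_prime_pow Nat.prime_two).1 (show n ∣ 2 ^ 2 from hn4)
    interval_cases j <;> simp_all
  have h40 : (Int.castAddHom (W2 F)) (n : ℤ) = 0 := by
    rw [hn]
    show (((4 : ℕ) : ℤ) : W2 F) = 0
    rw [Int.cast_natCast, Nat.cast_ofNat, W2.four_eq]
  let ψ : ZMod n →+ W2 F := ZMod.lift n ⟨Int.castAddHom (W2 F), h40⟩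
  refine ⟨ψ.comp ((DFinsupp.evalAddMonoidHom i).comp E.toAddMonoidHom), ?_⟩
  show ψ (E (u + u) i) ≠ 0
  rw [map_add, DirectSum.add_apply]
  obtain ⟨z, hz⟩ := ZMod.intCast_surjective (E u i)
  rw [← hz, ← Int.cast_add, ZMod.lift_coe]
  show ((z + z : ℤ) : W2 F) ≠ 0
  have hodd : z % 2 = 1 := by
    by_contra h
    obtain ⟨w, rfl⟩ : (2 : ℤ) ∣ z := by omega
    refine hi ?_
    rw [map_add, DirectSum.add_apply, ← hz, ← Int.cast_add, ZMod.intCast_zmod_eq_zero_iff_dvd, show p i ^ e i = 4 from hn]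
    push_cast
    omega
  obtain ⟨w, hw⟩ : ∃ w, z = 2 * w + 1 := ⟨z / 2, by omega⟩
  rw [hw, show 2 * w + 1 + (2 * w + 1) = 4 * w + 2 by ring]
  push_cast
  rw [W2.four_eq, zero_mul, zero_add]
  exact W2.two_ne

/-- There is no fixed-point-free module of exponent four. -/
theorem exponent_two (ρ : Gp F m →* Module.End ℤ M) (hρ : Fpf ρ) (h4 : ∀ v : M, (4 : ℕ) • v = 0) :
    ∀ v : M, v + v = 0 := by
  intro u
  by_contra hu
  obtain ⟨Φ₁, hΦ₁⟩ := exists_hom_two (F := F) h4 hu
  let D : (M →+ W2 F) →ₗ[W2 F] (M →+ W2 F) := (2 : W2 F) • LinearMap.id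
  set X := LinearMap.range D
  have hX2 : ∀ x : X, (2 : W2 F) • (x : M →+ W2 F) = 0 := by
    rintro ⟨_, Φ, rfl⟩
    show (2 : W2 F) • ((2 : W2 F) • Φ) = 0
    rw [smul_smul, show (2 : W2 F) * 2 = 4 by norm_num, W2.four_eq, zero_smul]
  letI : SMul F X := ⟨fun a x => W2.tv a • x⟩
  have hsm : ∀ (a : F) (x : X), a • x = W2.tv a • x := fun _ _ => rfl
  letI : Module F X :=
    { one_smul := fun x => by rw [hsm, map_one, one_smul]
      mul_smul := fun a b x => by rw [hsm, hsm, hsm, map_mul, mul_smul]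
      smul_zero := fun a => by rw [hsm, smul_zero]
      smul_add := fun a x y => by rw [hsm, hsm, hsm, smul_add]
      add_smul := fun a b x => by
        haveI : Fact (Nat.Prime 2) := ⟨Nat.prime_two⟩
        obtain ⟨s, hs⟩ := surjective_frobenius F 2 (a * b)
        rw [frobenius_def, pow_two] at hs
        rw [hsm, hsm, hsm, W2.tv_add hs, add_smul, add_smul, mul_comm, mul_smul]
        conv_rhs => rw [← add_zero (W2.tv a • x + W2.tv b • x)]
        congr 1
        have : (2 : W2 F) • x = 0 := Subtype.ext (hX2 x)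
        rw [this, smul_zero]
      zero_smul := fun x => by rw [hsm, W2.tv_zero, zero_smul] }
  haveI : Finite (W2 F) := Finite.of_injective (fun x : W2 F => (x.fst, x.snd))
    fun x y h => W2.ext (congrArg Prod.fst h) (congrArg Prod.snd h)
  haveI : Finite (M →+ W2 F) := Finite.of_injective _ DFunLike.coe_injective
  have hXinv : ∀ g, ∀ x ∈ X, dRep ρ g x ∈ X := by
    rintro g _ ⟨Φ, rfl⟩
    exact ⟨dRep ρ g Φ, by simp [D, LinearMap.map_smul]⟩
  let π : Gp F m →* Module.End F X :=
    { toFun := fun g =>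
        { toFun := fun x => ⟨dRep ρ g x, hXinv g x x.2⟩
          map_add' := fun x y => Subtype.ext (map_add _ _ _)
          map_smul' := fun a x => Subtype.ext (by
            show dRep ρ g (W2.tv a • (x : M →+ W2 F)) = W2.tv a • dRep ρ g (x : M →+ W2 F)
            rw [LinearMap.map_smul]) }
      map_one' := LinearMap.ext fun x => Subtype.ext (rep_one (dRep ρ) (x : M →+ W2 F))
      map_mul' := fun g h => LinearMap.ext fun x => Subtype.ext (rep_mul (dRep ρ) g h (x : M →+ W2 F)) }
  have hπ : Fpf (F := F) (m := m) (R := F) (X := ↥X) π :=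
    ⟨fun x => Subtype.ext (by
      rw [AddSubmonoidClass.coe_finsetSum, ZeroMemClass.coe_zero]; exact hρ.dual.torus x),
     fun x => Subtype.ext (by
      rw [AddSubmonoidClass.coe_finsetSum, ZeroMemClass.coe_zero]; exact hρ.dual.five x)⟩
  have hne : (⊤ : Submodule F X) ≠ ⊥ := by
    rw [Submodule.ne_bot_iff]
    refine ⟨⟨D Φ₁, ⟨Φ₁, rfl⟩⟩, Submodule.mem_top, fun h => hΦ₁ ?_⟩
    have := DFunLike.congr_fun (congrArg Subtype.val h) u
    rw [map_add, ← two_mul]
    exact this
  obtain ⟨Y, hY, hmin⟩ := (Set.toFinite {Y : Submodule F X |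
      (∀ g, ∀ x ∈ Y, π g x ∈ Y) ∧ Y ≠ ⊥}).exists_minimal
    ⟨⊤, fun _ _ _ => Submodule.mem_top, hne⟩
  have hirr : ∀ W : Submodule F Y,
      (∀ g : Gp F m, ∀ x ∈ W, resRep (X := ↥X) π Y hY.1 g x ∈ W) → W ≠ ⊥ → W = ⊤ := by
    intro W hW hW0
    have hle : W.map Y.subtype ≤ Y := Submodule.map_subtype_le Y W
    have h := hmin (show W.map Y.subtype ∈ {Y : Submodule F X | _} from
      ⟨by rintro g _ ⟨x, hx, rfl⟩; exact ⟨_, hW g x hx, rfl⟩,
       fun e => hW0 ((Submodule.eq_bot_iff _).2 fun x hx => Y.injective_subtype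
        ((Submodule.eq_bot_iff _).1 e _ ⟨x, hx, rfl⟩))⟩) hle
    refine Submodule.eq_top_iff'.2 fun x => ?_
    obtain ⟨x', hx', e⟩ := h x.2
    rwa [Subtype.ext e] at hx'
  haveI : Nontrivial Y := Submodule.nontrivial_iff_ne_bot.2 hY.2
  obtain ⟨k, e, he⟩ := exists_natural (resRep (X := ↥X) π Y hY.1) (Fpf.res (X := ↥X) hπ Y hY.1) hirr
  let ι : (Fin 4 → F) →+ (M →+ W2 F) :=
    X.subtype.toAddMonoidHom.comp (Y.subtype.toAddMonoidHom.comp e.toLinearMap.toAddMonoidHom)
  obtain ⟨Φ₀, hΦ₀⟩ := ((e (Pi.single 3 1) : Y) : X).2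
  have h := top_zero (dRep ρ) hρ.dual (k : ℕ) ι
    (fun a x => by
      show (((e (a • x) : Y) : X) : M →+ W2 F) = W2.tv a • _
      rw [LinearEquiv.map_smul]
      rfl)
    (fun g x => by
      show (((e (nRep (k : ℕ) g x) : Y) : X) : M →+ W2 F) = _
      rw [he]
      rfl)
    (Φ₀ := Φ₀) hΦ₀
  have : (Pi.single (0 : Fin 4) 1 : Fin 4 → F) = 0 := e.injective (by
    rw [map_zero]
    exact Subtype.ext (Subtype.ext h))
  simpa using congrFun this 0

end CfsgLib.SuzMod
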