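import Cfsg.Agent.Lib.CNStruct.SuzPairing
import Cfsg.Agent.Lib.CNStruct.SuzExponent

/-!
# A two-group extended by a Suzuki group acting without fixed points is elementary abelian
-/

set_option autoImplicit false
set_option linter.unusedSectionVars false
set_option linter.style.haveILetI false

namespace CfsgLib.SuzMod

open CfsgLib.Suzuki
open scoped IsMulCommutative

universe u v

/-- An element of odd order lifts to one of odd order along a map whose kernel is a 2-group. -/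
theorem odd_lift {G : Type*} [Group G] [Finite G] {H : Type*} [Group H] (f : G →* H)
    (hf : Function.Surjective f) (hk : IsPGroup 2 f.ker) {g : H} (hg : Odd (orderOf g)) (hg1 : g ≠ 1) :
    ∃ x : G, f x = g ∧ Odd (orderOf x) ∧ x ≠ 1 := by
  obtain ⟨y, rfl⟩ := hf g
  obtain ⟨a, ha⟩ := hk ⟨y ^ orderOf (f y), by rw [MonoidHom.mem_ker, map_pow, pow_orderOf_eq_one]⟩
  have ha' : (y ^ orderOf (f y)) ^ 2 ^ a = 1 := congrArg Subtype.val ha
  obtain ⟨s, hs⟩ := exists_pow_eq_self_of_coprime (x := f y) (n := 2 ^ a)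
    ((Nat.coprime_two_left.2 hg).pow_left a)
  refine ⟨(y ^ 2 ^ a) ^ s, by rw [map_pow, map_pow, hs], ?_, fun h => hg1 ?_⟩
  · refine Odd.of_dvd_nat hg (orderOf_dvd_of_pow_eq_one ?_)
    rw [pow_right_comm (y ^ 2 ^ a), pow_right_comm y, ha', one_pow]
  · rw [← hs, ← map_pow, ← map_pow, h, map_one]

section Action

variable {F : Type v} [Field F] [Fintype F] [DecidableEq F] [CharP F 2] {m : ℕ} [Param F m]
variable {G : Type u} [Group G] (Q : Subgroup G) [Q.Normal] (e : G ⧸ Q ≃* Gp F m) (L : Subgroup G)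
  [L.Normal] [IsMulCommutative L] (hc : ∀ q ∈ Q, ∀ l ∈ L, q * l * q⁻¹ = l)

/-- Conjugation on an abelian normal subgroup. -/
def conjLin : G →* Module.End ℤ (Additive L) where
  toFun g := (MonoidHom.toAdditive
    ({ toFun := fun l => ⟨g * l * g⁻¹, ‹L.Normal›.conj_mem l l.2 g⟩
       map_one' := by ext; simp
       map_mul' := fun a b => by ext; simp [mul_assoc] } : L →* L)).toIntLinearMap
  map_one' := by
    refine LinearMap.ext fun l => Additive.toMul.injective (Subtype.ext ?_)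
    show (1 : G) * ((Additive.toMul l : L) : G) * (1 : G)⁻¹ = ((Additive.toMul l : L) : G)
    group
  map_mul' g h := by
    refine LinearMap.ext fun l => Additive.toMul.injective (Subtype.ext ?_)
    show g * h * ((Additive.toMul l : L) : G) * (g * h)⁻¹ =
      g * (h * ((Additive.toMul l : L) : G) * h⁻¹) * g⁻¹
    group

/-- The action of the quotient. -/
def actHom : Gp F m →* Module.End ℤ (Additive L) :=
  (QuotientGroup.lift Q (conjLin L) fun q hq => by
    refine LinearMap.ext fun l => Additive.toMul.injective (Subtype.ext ?_)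
    show q * ((Additive.toMul l : L) : G) * q⁻¹ = ((Additive.toMul l : L) : G)
    exact hc q hq _ (Additive.toMul l).2).comp e.symm.toMonoidHom

theorem actHom_apply (g : G) (l : Additive L) :
    ((Additive.toMul (actHom Q e L hc (e (g : G ⧸ Q)) l) : L) : G) =
      g * ((Additive.toMul l : L) : G) * g⁻¹ := by
  simp only [actHom, MonoidHom.coe_comp, MulEquiv.coe_toMonoidHom, Function.comp_apply,
    MulEquiv.symm_apply_apply, QuotientGroup.lift_mk]
  rfl

theorem fpf_actHom [Finite G] (hQ : IsPGroup 2 Q)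
    (hfix : ∀ x : G, Odd (orderOf x) → x ≠ 1 → ∀ l ∈ L, x * l * x⁻¹ = l → l = 1) :
    Fpf (actHom Q e L hc) := by
  have key : ∀ (g : Gp F m), Odd (orderOf g) → g ≠ 1 → ∀ v, actHom Q e L hc g v = v → v = 0 := by
    intro g hg hg1 v hv
    obtain ⟨x, rfl, hxo, hx1⟩ := odd_lift (e.toMonoidHom.comp (QuotientGroup.mk' Q))
      (e.surjective.comp (QuotientGroup.mk'_surjective Q))
      (by
        rw [show (e.toMonoidHom.comp (QuotientGroup.mk' Q)).ker = Q by ext; simp]
        exact hQ) hg hg1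
    refine Additive.toMul.injective (Subtype.ext (hfix x hxo hx1 _ (Additive.toMul v).2 ?_))
    rw [← actHom_apply Q e L hc x v]
    exact congrArg (fun l : Additive L => ((Additive.toMul l : L) : G)) hv
  obtain ⟨t, ht⟩ : ∃ t : Fˣ, t ≠ 1 := by
    haveI : Nontrivial Fˣ := by
      rw [← Fintype.one_lt_card_iff_nontrivial, Fintype.card_units, Param.card (F := F) (m := m)]
      have := Param.one_le F (m := m)
      have : 2 ^ 3 ≤ 2 ^ (2 * m + 1) := Nat.pow_le_pow_right (by norm_num) (by omega)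
      omega
    exact exists_ne 1
  constructor <;> intro v
  · refine key (gH t) ?_ (fun h => ht (gH_injective (h.trans (map_one gH).symm))) _ ?_
    · have hodd : Odd (Fintype.card F - 1) := by
        rw [Param.card (F := F) (m := m), Nat.odd_iff]
        have := Nat.one_le_two_pow (n := 2 * m)
        rw [pow_succ]
        omega
      refine Odd.of_dvd_nat hodd (orderOf_dvd_of_pow_eq_one ?_)
      rw [← map_pow, ← Fintype.card_units, pow_card_eq_one, map_one]
    · rw [map_sum]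
      exact Fintype.sum_equiv (Equiv.mulLeft t) _ _ fun s => by
        rw [Equiv.coe_mulLeft, map_mul gH, rep_mul]
  · refine key (el5 F m) (Odd.of_dvd_nat (by decide) (orderOf_dvd_of_pow_eq_one el5_pow)) el5_ne_one _ ?_
    rw [map_sum, Finset.sum_congr rfl fun k _ =>
      show actHom Q e L hc (el5 F m) (actHom Q e L hc (el5 F m ^ k) v) =
        actHom Q e L hc (el5 F m ^ (k + 1)) v by rw [← rep_mul, ← pow_succ']]
    rw [← add_left_inj (actHom Q e L hc (el5 F m ^ 0) v), ← Finset.sum_range_succ' (fun k =>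
      actHom Q e L hc (el5 F m ^ k) v), Finset.sum_range_succ _ 5, el5_pow, pow_zero]

end Action

/-- The two-group is elementary abelian. -/
theorem elementary_aux (F : Type v) [Field F] [Fintype F] [DecidableEq F] [CharP F 2] (m : ℕ) [Param F m] : ∀ (n : ℕ) (G : Type u) [Group G]
    [Finite G], Nat.card G = n → ∀ (Q : Subgroup G) [Q.Normal], IsPGroup 2 Q →
    ∀ (_ : G ⧸ Q ≃* Gp F m),
    (∀ x : G, Odd (orderOf x) → x ≠ 1 → ∀ q ∈ Q, x * q * x⁻¹ = q → q = 1) →
    (∀ a ∈ Q, ∀ b ∈ Q, a * b = b * a) ∧ ∀ a ∈ Q, a * a = 1 := by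
  intro n
  induction n using Nat.strong_induction_on with
  | _ n IH =>
  intro G _ _ hn Q _ hQ e hfpf
  rcases eq_or_ne Q ⊥ with rfl | hQbot
  · exact ⟨fun a ha b hb => by simp_all [Subgroup.mem_bot], fun a ha => by simp_all [Subgroup.mem_bot]⟩
  let N : Subgroup G :=
    { carrier := {z | z ∈ Q ∧ (∀ q ∈ Q, q * z = z * q) ∧ z * z = 1}
      one_mem' := ⟨Q.one_mem, fun q _ => by simp, one_mul 1⟩
      mul_mem' := fun {a b} ha hb => ⟨Q.mul_mem ha.1 hb.1, fun q hq => by
          rw [← mul_assoc, ha.2.1 q hq, mul_assoc, hb.2.1 q hq, mul_assoc], by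
        rw [show a * b * (a * b) = a * (b * a) * b by group, ha.2.1 b hb.1,
          show a * (a * b) * b = (a * a) * (b * b) by group, ha.2.2, hb.2.2, one_mul]⟩
      inv_mem' := fun {a} ha => by
        rw [inv_eq_of_mul_eq_one_right ha.2.2]
        exact ha }
  haveI hNn : N.Normal := ⟨fun z hz g => by
    refine ⟨‹Q.Normal›.conj_mem z hz.1 g, fun q hq => ?_, ?_⟩
    · have := hz.2.1 (g⁻¹ * q * g) (by simpa using ‹Q.Normal›.conj_mem q hq g⁻¹)
      calc q * (g * z * g⁻¹) = g * ((g⁻¹ * q * g) * z) * g⁻¹ := by group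
        _ = g * (z * (g⁻¹ * q * g)) * g⁻¹ := by rw [this]
        _ = g * z * g⁻¹ * q := by group
    · calc g * z * g⁻¹ * (g * z * g⁻¹) = g * (z * z) * g⁻¹ := by group
        _ = 1 := by rw [hz.2.2]; group⟩
  have hNQ : N ≤ Q := fun z hz => hz.1
  have hNne : N ≠ ⊥ := by
    haveI : Nontrivial Q := (Subgroup.nontrivial_iff_ne_bot Q).mpr hQbot
    haveI := hQ.center_nontrivial
    haveI : Fact (Nat.Prime 2) := ⟨Nat.prime_two⟩
    have hd : 2 ∣ Nat.card (Subgroup.center Q) := by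
      obtain ⟨k, hk⟩ := IsPGroup.iff_card.mp (hQ.to_subgroup (Subgroup.center Q))
      have h1 : 1 < Nat.card (Subgroup.center Q) := Finite.one_lt_card
      rw [hk] at h1 ⊢
      exact dvd_pow_self 2 (by rintro rfl; simp at h1)
    obtain ⟨z, hz⟩ := exists_prime_orderOf_dvd_card' 2 hd
    intro hbot
    have hzN : ((z : Q) : G) ∈ N := ⟨(z : Q).2, fun q hq =>
      congrArg (fun t : Q => (t : G)) (Subgroup.mem_center_iff.mp z.2 ⟨q, hq⟩), by
        have := pow_orderOf_eq_one z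
        rw [hz, pow_two] at this
        exact congrArg (fun t : Subgroup.center Q => ((t : Q) : G)) this⟩
    rw [hbot, Subgroup.mem_bot] at hzN
    have hz1 : z = 1 := Subtype.ext (Subtype.ext hzN)
    rw [hz1, orderOf_one] at hz
    omega
  -- the quotient by `N`
  let π := QuotientGroup.mk' N
  have hπ : Function.Surjective π := QuotientGroup.mk'_surjective N
  haveI hQ'n : (Q.map π).Normal := ‹Q.Normal›.map π hπ
  let e' : (G ⧸ N) ⧸ Q.map π ≃* Gp F m := (QuotientGroup.quotientQuotientEquivQuotient N Q hNQ).trans e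
  have hN2 : ∀ a ∈ N, ∀ b ∈ N, a * b = b * a := fun a ha b hb => hb.2.1 a ha.1
  have hbij : ∀ x : G, Odd (orderOf x) → x ≠ 1 → ∀ z ∈ N, ∃ l ∈ N, x * l * x⁻¹ * l⁻¹ = z := by
    intro x hxo hx1
    let f : N → N := fun l => ⟨x * l * x⁻¹ * (l : G)⁻¹, N.mul_mem (hNn.conj_mem l l.2 x) (N.inv_mem l.2)⟩
    have hf : Function.Injective f := fun m m' h => by
      have h' : x * (m : G) * x⁻¹ * (m : G)⁻¹ = x * m' * x⁻¹ * (m' : G)⁻¹ := congrArg Subtype.val h
      have hfix : x * ((m' : G)⁻¹ * m) * x⁻¹ = (m' : G)⁻¹ * m := by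
        calc x * ((m' : G)⁻¹ * m) * x⁻¹ = (x * (m' : G) * x⁻¹)⁻¹ * (x * m * x⁻¹ * (m : G)⁻¹ * m) := by group
          _ = (x * (m' : G) * x⁻¹)⁻¹ * (x * m' * x⁻¹ * (m' : G)⁻¹ * m) := by rw [h']
          _ = _ := by group
      exact Subtype.ext (inv_mul_eq_one.mp
        (hfpf x hxo hx1 _ (hNQ (N.mul_mem (N.inv_mem m'.2) m.2)) hfix)).symm
    intro z hz
    obtain ⟨l, hl⟩ := Finite.injective_iff_surjective.mp hf ⟨z, hz⟩
    exact ⟨l, l.2, congrArg Subtype.val hl⟩
  have hfpf' : ∀ y : G ⧸ N, Odd (orderOf y) → y ≠ 1 → ∀ q ∈ Q.map π, y * q * y⁻¹ = q → q = 1 := by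
    rintro y hy hy1 _ ⟨q, hq, rfl⟩ h
    obtain ⟨x, rfl, hxo, hx1⟩ := odd_lift π hπ (by rw [QuotientGroup.ker_mk']; exact hQ.to_le hNQ) hy hy1
    rw [← map_inv, ← map_mul, ← map_mul] at h
    obtain ⟨k, hm, hmz⟩ := hbij x hxo hx1 (q⁻¹ * (x * q * x⁻¹)) ((QuotientGroup.eq_one_iff _).mp (by
      show π (q⁻¹ * (x * q * x⁻¹)) = 1
      rw [map_mul, h, map_inv, inv_mul_cancel]))
    have hfix : x * (q * k⁻¹) * x⁻¹ = q * k⁻¹ := by
      calc x * (q * k⁻¹) * x⁻¹ = q * (q⁻¹ * (x * q * x⁻¹)) * (x * k * x⁻¹)⁻¹ := by group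
        _ = q * ((x * k * x⁻¹) * k⁻¹) * (x * k * x⁻¹)⁻¹ := by rw [hmz]
        _ = q * (k⁻¹ * (x * k * x⁻¹)) * (x * k * x⁻¹)⁻¹ := by
          rw [hN2 _ (hNn.conj_mem k hm x) _ (N.inv_mem hm)]
        _ = _ := by group
    have hqm := hfpf x hxo hx1 _ (Q.mul_mem hq (Q.inv_mem (hNQ hm))) hfix
    exact (QuotientGroup.eq_one_iff q).mpr ((mul_inv_eq_one.mp hqm) ▸ hm)
  have hlt : Nat.card (G ⧸ N) < n := by
    rw [← hn, Subgroup.card_eq_card_quotient_mul_card_subgroup N]
    exact lt_mul_of_one_lt_right Nat.card_pos (N.one_lt_card_iff_ne_bot.mpr hNne)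
  obtain ⟨hA, hB⟩ := IH _ hlt (G ⧸ N) rfl (Q.map π) (hQ.map π) e' hfpf'
  -- the commutator pairing
  haveI hQ'c : IsMulCommutative (Q.map π) :=
    ⟨⟨fun a b => Subtype.ext (hA a a.2 b b.2)⟩⟩
  haveI hNc : IsMulCommutative N := ⟨⟨fun a b => Subtype.ext (hN2 a a.2 b b.2)⟩⟩
  have hρ : Fpf (actHom (Q.map π) e' (Q.map π) fun q hq l hl => by
      rw [hA q hq l hl, mul_inv_cancel_right]) :=
    fpf_actHom _ _ _ _ (hQ.map π) hfpf'
  have hσ : Fpf (actHom Q e N fun q hq l hl => by rw [hl.2.1 q hq, mul_inv_cancel_right]) :=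
    fpf_actHom _ _ _ _ hQ fun x hxo hx1 l hl => hfpf x hxo hx1 l hl.1
  have hmem : ∀ {a b}, a ∈ Q → b ∈ Q → a * b * a⁻¹ * b⁻¹ ∈ N := fun {a b} ha hb => by
    rw [← QuotientGroup.eq_one_iff]
    show π (a * b * a⁻¹ * b⁻¹) = 1
    rw [map_mul, map_mul, map_mul, map_inv, map_inv, hA _ ⟨a, ha, rfl⟩ _ ⟨b, hb, rfl⟩]
    group
  let rep : Additive (Q.map π) → G := fun u => Classical.choose (Subgroup.mem_map.mp (Additive.toMul u).2)
  have hrep : ∀ u : Additive (Q.map π), rep u ∈ Q ∧ π (rep u) = ((Additive.toMul u : Q.map π) : G ⧸ N) :=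
    fun u => Classical.choose_spec (Subgroup.mem_map.mp (Additive.toMul u).2)
  let pr : Additive (Q.map π) → Additive (Q.map π) → Additive N := fun u v =>
    Additive.ofMul ⟨rep u * rep v * (rep u)⁻¹ * (rep v)⁻¹, hmem (hrep u).1 (hrep v).1⟩
  have hpr : ∀ u v a b, a ∈ Q → b ∈ Q → π a = ((Additive.toMul u : Q.map π) : G ⧸ N) →
      π b = ((Additive.toMul v : Q.map π) : G ⧸ N) →
      ((Additive.toMul (pr u v) : N) : G) = a * b * a⁻¹ * b⁻¹ := by
    intro u v a b ha hb hau hbv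
    have h1 : (rep u)⁻¹ * a ∈ N := by
      rw [← QuotientGroup.eq_one_iff]
      show π ((rep u)⁻¹ * a) = 1
      rw [map_mul, map_inv, (hrep u).2, hau, inv_mul_cancel]
    have h2 : (rep v)⁻¹ * b ∈ N := by
      rw [← QuotientGroup.eq_one_iff]
      show π ((rep v)⁻¹ * b) = 1
      rw [map_mul, map_inv, (hrep v).2, hbv, inv_mul_cancel]
    show rep u * rep v * (rep u)⁻¹ * (rep v)⁻¹ = _
    obtain ⟨z, hz, rfl⟩ : ∃ z, z ∈ N ∧ a = rep u * z := ⟨_, h1, by group⟩
    obtain ⟨w, hw, rfl⟩ : ∃ w, w ∈ N ∧ b = rep v * w := ⟨_, h2, by group⟩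
    have hu := (hrep u).1
    have hv := (hrep v).1
    symm
    calc rep u * z * (rep v * w) * (rep u * z)⁻¹ * (rep v * w)⁻¹
        = rep u * (z * (rep v * w)) * z⁻¹ * (rep u)⁻¹ * w⁻¹ * (rep v)⁻¹ := by group
      _ = rep u * (rep v * w * z) * z⁻¹ * (rep u)⁻¹ * w⁻¹ * (rep v)⁻¹ := by
        rw [hz.2.1 _ (Q.mul_mem hv (hNQ hw))]
      _ = rep u * rep v * (w * (rep u)⁻¹) * w⁻¹ * (rep v)⁻¹ := by group
      _ = rep u * rep v * ((rep u)⁻¹ * w) * w⁻¹ * (rep v)⁻¹ := by rw [hw.2.1 _ (Q.inv_mem hu)]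
      _ = _ := by group
  have hprL : ∀ u u' v, pr (u + u') v = pr u v + pr u' v := fun u u' v => by
    apply Additive.toMul.injective
    apply Subtype.ext
    obtain ⟨hu, hu2⟩ := hrep u
    obtain ⟨hu', hu2'⟩ := hrep u'
    obtain ⟨hv, hv2⟩ := hrep v
    rw [hpr (u + u') v (rep u * rep u') (rep v) (Q.mul_mem hu hu') hv (by
      rw [map_mul, hu2, hu2']; rfl) hv2]
    show _ = rep u * rep v * (rep u)⁻¹ * (rep v)⁻¹ * (rep u' * rep v * (rep u')⁻¹ * (rep v)⁻¹)
    have hk := hmem hu' hv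
    calc rep u * rep u' * rep v * (rep u * rep u')⁻¹ * (rep v)⁻¹
        = rep u * (rep u' * rep v * (rep u')⁻¹ * (rep v)⁻¹) * rep v * (rep u)⁻¹ * (rep v)⁻¹ := by group
      _ = (rep u' * rep v * (rep u')⁻¹ * (rep v)⁻¹) * rep u * rep v * (rep u)⁻¹ * (rep v)⁻¹ := by
        rw [hk.2.1 _ hu]
      _ = (rep u' * rep v * (rep u')⁻¹ * (rep v)⁻¹) * (rep u * rep v * (rep u)⁻¹ * (rep v)⁻¹) := by group
      _ = _ := hN2 _ hk _ (hmem hu hv)
  have hflip : ∀ u v, pr v u = -pr u v := fun u v => by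
    apply Additive.toMul.injective
    apply Subtype.ext
    show rep v * rep u * (rep v)⁻¹ * (rep u)⁻¹ = (rep u * rep v * (rep u)⁻¹ * (rep v)⁻¹)⁻¹
    group
  have hprR : ∀ u v v', pr u (v + v') = pr u v + pr u v' := fun u v v' => by
    rw [hflip (v + v') u, hprL, neg_add, ← hflip, ← hflip]
  let C : Additive (Q.map π) →+ Additive (Q.map π) →+ Additive N :=
    AddMonoidHom.mk' (fun u => AddMonoidHom.mk' (pr u) (hprR u)) fun u u' => AddMonoidHom.ext (hprL u u')
  letI : Module (ZMod 2) (Additive (Q.map π)) := AddCommGroup.zmodModule fun l => by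
    rw [two_nsmul]
    exact Additive.toMul.injective (Subtype.ext (hB _ (Additive.toMul l).2))
  letI : Module (ZMod 2) (Additive N) := AddCommGroup.zmodModule fun l => by
    rw [two_nsmul]
    exact Additive.toMul.injective (Subtype.ext (Additive.toMul l).2.2.2)
  have hC : ∀ u v, C u v = 0 := by
    refine pairing_zero hρ hρ hσ C ?_
    · intro s u v
      obtain ⟨g, rfl⟩ : ∃ g : G, e (g : G ⧸ Q) = s := by
        obtain ⟨g, hg⟩ := QuotientGroup.mk_surjective (e.symm s)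
        exact ⟨g, by rw [hg, e.apply_symm_apply]⟩
      have he : e (g : G ⧸ Q) = e' ((π g : G ⧸ N) : (G ⧸ N) ⧸ Q.map π) := rfl
      apply Additive.toMul.injective
      apply Subtype.ext
      obtain ⟨hu, hu2⟩ := hrep u
      obtain ⟨hv, hv2⟩ := hrep v
      rw [actHom_apply]
      show ((Additive.toMul (pr _ _) : N) : G) = g * (rep u * rep v * (rep u)⁻¹ * (rep v)⁻¹) * g⁻¹
      rw [hpr _ _ (g * rep u * g⁻¹) (g * rep v * g⁻¹) (‹Q.Normal›.conj_mem _ hu g)
        (‹Q.Normal›.conj_mem _ hv g) (by rw [he, actHom_apply, map_mul, map_mul, map_inv, hu2])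
        (by rw [he, actHom_apply, map_mul, map_mul, map_inv, hv2])]
      group
  have hab : ∀ a ∈ Q, ∀ b ∈ Q, a * b = b * a := fun a ha b hb => by
    have h := congrArg (fun t : Additive N => ((Additive.toMul t : N) : G))
      (hC (Additive.ofMul ⟨π a, a, ha, rfl⟩) (Additive.ofMul ⟨π b, b, hb, rfl⟩))
    change ((Additive.toMul (pr _ _) : N) : G) = 1 at h
    rw [hpr _ _ a b ha hb rfl rfl] at h
    rw [← mul_inv_eq_one, mul_inv_rev, ← h]
    group
  refine ⟨hab, fun a ha => ?_⟩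
  haveI : IsMulCommutative Q := ⟨⟨fun a b => Subtype.ext (hab a a.2 b b.2)⟩⟩
  have key := exponent_two (actHom Q e Q fun q hq l hl => by rw [hab q hq l hl, mul_inv_cancel_right])
    (fpf_actHom _ _ _ _ hQ fun x hxo hx1 l hl => hfpf x hxo hx1 l hl) ?_ (Additive.ofMul ⟨a, ha⟩)
  · exact congrArg (fun t : Additive Q => ((Additive.toMul t : Q) : G)) key
  · intro v
    apply Additive.toMul.injective
    apply Subtype.ext
    have hm : ((Additive.toMul v : Q) : G) * (Additive.toMul v : Q) ∈ N := by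
      rw [← QuotientGroup.eq_one_iff]
      show π _ = 1
      rw [map_mul]
      exact hB _ ⟨_, (Additive.toMul v).2, rfl⟩
    show ((((Additive.toMul v : Q)) ^ 4 : Q) : G) = 1
    rw [Subgroup.coe_pow, show (4 : ℕ) = 2 * 2 from rfl, pow_mul, pow_two, pow_two]
    exact hm.2.2

end CfsgLib.SuzMod
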