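import Cfsg.Agent.Lib.CNStruct.SuzSimple

/-!
# Equivariant pairings of fixed-point-free modules of the Suzuki group vanish

Between twisted natural modules with two different twists the tensor product is irreducible of
dimension sixteen; for equal twists the weights of the torus and one translation kill every coefficient.
-/

set_option autoImplicit false
set_option linter.unusedSectionVars false
set_option linter.style.haveILetI false

namespace CfsgLib.SuzMod

open CfsgLib.Suzuki Matrix
open scoped TensorProduct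

variable {F : Type*} [Field F] [Fintype F] [DecidableEq F] [CharP F 2] {m : ℕ} [hP : Param F m]

/-- The form on a natural module. -/
def nform (u v : Fin 4 → F) : F := ∑ a, u a * v a.rev

theorem nform_single (a : Fin 4) (v : Fin 4 → F) : nform (Pi.single a 1) v = v a.rev := by
  rw [nform, Finset.sum_eq_single a (fun f _ hf => by rw [Pi.single_eq_of_ne hf, zero_mul]) (by simp),
    Pi.single_eq_same, one_mul]

theorem nform_invariant (k : ℕ) (g : Gp F m) (u v : Fin 4 → F) :
    nform (nRep k g u) (nRep k g v) = nform u v := by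
  have h : ∀ x y : Fin 4, ∑ a, mx g a x ^ 2 ^ k * mx g a.rev y ^ 2 ^ k =
      if y = x.rev then 1 else 0 := fun x y => by
    simp only [← mul_pow, ← sum_pow_two, form_entries]
    split_ifs <;> simp
  simp only [nform, nRep_apply, Finset.sum_mul_sum]
  rw [Finset.sum_comm]
  refine Finset.sum_congr rfl fun x _ => ?_
  rw [Finset.sum_comm]
  calc ∑ y, ∑ a, mx g a x ^ 2 ^ k * u x * (mx g a.rev y ^ 2 ^ k * v y)
      = ∑ y, (∑ a, mx g a x ^ 2 ^ k * mx g a.rev y ^ 2 ^ k) * (u x * v y) := by
        refine Finset.sum_congr rfl fun y _ => ?_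
        rw [Finset.sum_mul]
        exact Finset.sum_congr rfl fun a _ => by ring
    _ = _ := by
        rw [Finset.sum_eq_single x.rev (fun y _ hy => by rw [h, if_neg hy, zero_mul]) (by simp), h,
          if_pos rfl, one_mul]

theorem nform_inv (k : ℕ) (g : Gp F m) (u v : Fin 4 → F) :
    nform (nRep k g u) v = nform u (nRep k g⁻¹ v) := by
  conv_lhs => rw [← rep_apply_inv (nRep k) g v]
  exact nform_invariant k g u _

theorem nform_ext {u v : Fin 4 → F} (h : ∀ y, nform y u = nform y v) : u = v :=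
  funext fun a => by
    have := h (Pi.single a.rev 1)
    rwa [nform_single, nform_single, Fin.rev_rev] at this

/-- The coordinate functions of a natural module, by columns. -/
theorem nRep_single (k : ℕ) (g : Gp F m) (j : Fin 4) :
    nRep k g (Pi.single j 1) = fun i => mx g i j ^ 2 ^ k :=
  funext fun i => by simp [nRep_apply, Pi.single_apply]

/-- Natural modules with different twists. -/
theorem pairing_ne {i j : Fin (2 * m + 1)} (hij : i ≠ j) (k : ℕ)
    (β : (Fin 4 → F) →ₗ[F] (Fin 4 → F) →ₗ[F] (Fin 4 → F))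
    (heq : ∀ (g : Gp F m) x y, β (nRep (i : ℕ) g x) (nRep (j : ℕ) g y) = nRep k g (β x y)) : β = 0 := by
  set I : Finset (Fin (2 * m + 1)) := {i, j} with hI
  have hi : i ∈ I := by simp [hI]
  have hj : j ∈ I := by simp [hI]
  let u : Idx I ≃ Fin 4 × Fin 4 :=
    { toFun := fun f => (f ⟨i, hi⟩, f ⟨j, hj⟩)
      invFun := fun p x => if (x : Fin (2 * m + 1)) = i then p.1 else p.2
      left_inv := fun f => funext fun ⟨x, hx⟩ => by
        rcases Finset.mem_insert.1 hx with rfl | hx'
        · simp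
        · obtain rfl := Finset.mem_singleton.1 hx'
          simp [hij.symm]
      right_inv := fun p => by simp [hij.symm] }
  let L : Vec F I →ₗ[F] (Fin 4 → F) :=
    Fintype.linearCombination F fun f => β (Pi.single (u f).1 1) (Pi.single (u f).2 1)
  have hL : ∀ l, L l = ∑ f, l f • β (Pi.single (u f).1 1) (Pi.single (u f).2 1) := fun l => rfl
  have hsingle : ∀ f, L (Pi.single f 1) = β (Pi.single (u f).1 1) (Pi.single (u f).2 1) := fun f => by
    rw [hL, Finset.sum_eq_single f (fun x _ hx => by rw [Pi.single_eq_of_ne hx, zero_smul]) (by simp),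
      Pi.single_eq_same, one_smul]
  have hLeq : ∀ g l, L (tRep I g l) = nRep k g (L l) := by
    intro g l
    suffices h : L ∘ₗ tRep I g = nRep k g ∘ₗ L from LinearMap.congr_fun h l
    refine LinearMap.pi_ext' fun f => LinearMap.ext_ring ?_
    show L (tRep I g (Pi.single f 1)) = nRep k g (L (Pi.single f 1))
    rw [hsingle, ← heq, nRep_single, nRep_single, hL, tRep_apply, Matrix.mulVec_single_one,
      pi_eq_sum_univ' (fun a => mx g a (u f).1 ^ 2 ^ (i : ℕ)),
      pi_eq_sum_univ' (fun a => mx g a (u f).2 ^ 2 ^ (j : ℕ))]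
    simp only [map_sum, LinearMap.sum_apply, LinearMap.map_smul, LinearMap.smul_apply, Finset.smul_sum,
      smul_smul]
    rw [← Finset.sum_product', Finset.univ_product_univ]
    refine Fintype.sum_equiv (u.trans (Equiv.prodComm _ _)) _ _ fun f' => ?_
    show TM I g f' f • _ = _
    congr 1
    rw [TM_apply, Fintype.prod_eq_mul (⟨i, hi⟩ : I) ⟨j, hj⟩ (fun e => hij (congrArg Subtype.val e))
      (fun x hx => by
        rcases Finset.mem_insert.1 x.2 with h | h
        · exact absurd (Subtype.ext h) hx.1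
        · exact absurd (Subtype.ext (Finset.mem_singleton.1 h)) hx.2)]
    rfl
  have hker : LinearMap.ker L = ⊤ := by
    by_contra hne
    have hbot : LinearMap.ker L = ⊥ := by
      by_contra hb
      exact hne (tRep_irreducible I _ (fun g l hl => by
        rw [LinearMap.mem_ker] at hl ⊢; rw [hLeq, hl, map_zero]) hb)
    have h := LinearMap.finrank_le_finrank_of_injective (LinearMap.ker_eq_bot.1 hbot)
    rw [Module.finrank_fintype_fun_eq_card, Module.finrank_fintype_fun_eq_card, Fintype.card_congr u] at h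
    simp at h
  refine LinearMap.pi_ext' fun a => LinearMap.ext_ring (LinearMap.pi_ext' fun b => LinearMap.ext_ring ?_)
  have h0 : Pi.single (u.symm (a, b)) 1 ∈ LinearMap.ker L := by rw [hker]; exact Submodule.mem_top
  rw [LinearMap.mem_ker, hsingle, u.apply_symm_apply] at h0
  simpa using h0

/-- The exponents of the torus on a natural module. -/
def wexp (m : ℕ) : Fin 4 → ℤ := ![2 ^ (m + 1) + 1, 1, -1, -(2 ^ (m + 1) + 1)]

theorem htMat_exp (t : Fˣ) (a : Fin 4) : htMat m t a a = (((t ^ wexp m a : Fˣ)) : F) := by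
  rw [htMat, Matrix.diagonal_apply_eq]
  have h : ((2 : ℤ) ^ (m + 1) + 1) = ((2 ^ (m + 1) + 1 : ℕ) : ℤ) := by push_cast; rfl
  have h' : ((t ^ (2 ^ (m + 1) + 1) : Fˣ) : F) = sg F m (t : F) * t := by
    rw [Units.val_pow_eq_pow_val, sg_def, pow_succ]
  fin_cases a
  · show sg F m (t : F) * t = ((t ^ ((2 : ℤ) ^ (m + 1) + 1) : Fˣ) : F)
    rw [h, zpow_natCast, h']
  · show (t : F) = ((t ^ (1 : ℤ) : Fˣ) : F)
    rw [zpow_one]
  · show ((t⁻¹ : Fˣ) : F) = ((t ^ (-1 : ℤ) : Fˣ) : F)
    rw [_root_.zpow_neg_one]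
  · show (sg F m (t : F) * t)⁻¹ = ((t ^ (-((2 : ℤ) ^ (m + 1) + 1)) : Fˣ) : F)
    rw [_root_.zpow_neg, h, zpow_natCast, Units.val_inv_eq_inv_val, h']

theorem wexp_bad {a b d : Fin 4} (hm : 1 ≤ m)
    (h : (2 ^ (2 * m + 1) - 1 : ℤ) ∣ wexp m a + wexp m b + wexp m d) :
    (a, b, d) ∈ ([(0, 1, 1), (1, 0, 1), (1, 1, 0), (3, 2, 2), (2, 3, 2), (2, 2, 3)] :
      List (Fin 4 × Fin 4 × Fin 4)) := by
  rcases Nat.lt_or_ge m 2 with hm2 | hm2
  · obtain rfl : m = 1 := by omega
    revert h
    revert a b d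
    decide
  · exfalso
    obtain ⟨K, hK⟩ : ∃ K : ℤ, (2 : ℤ) ^ m = K := ⟨_, rfl⟩
    have hK4 : 4 ≤ K := by
      rw [← hK]
      calc (4 : ℤ) = 2 ^ 2 := by norm_num
        _ ≤ 2 ^ m := pow_le_pow_right₀ (by norm_num) hm2
    have hn : (2 : ℤ) ^ (2 * m + 1) = 2 * (K * K) := by rw [← hK]; ring
    have hA : (2 : ℤ) ^ (m + 1) = 2 * K := by rw [← hK]; ring
    have hb : ∀ x, -(2 * K + 1) ≤ wexp m x ∧ wexp m x ≤ 2 * K + 1 ∧ wexp m x % 2 = 1 := by
      intro x
      fin_cases x <;> simp [wexp, hA] <;> omega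
    obtain ⟨a1, a2, a3⟩ := hb a
    obtain ⟨b1, b2, b3⟩ := hb b
    obtain ⟨d1, d2, d3⟩ := hb d
    rw [hn] at h
    have := Int.eq_zero_of_abs_lt_dvd h (abs_lt.2 ⟨by nlinarith, by nlinarith⟩)
    omega

/-- The trilinear form of a pairing of natural modules with one twist. -/
theorem pairing_eq (k : ℕ) (β : (Fin 4 → F) →ₗ[F] (Fin 4 → F) →ₗ[F] (Fin 4 → F))
    (heq : ∀ (g : Gp F m) x y, β (nRep k g x) (nRep k g y) = nRep k g (β x y)) : β = 0 := by
  set C : Fin 4 → Fin 4 → Fin 4 → F := fun a b d =>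
    nform (β (Pi.single a 1) (Pi.single b 1)) (Pi.single d 1) with hC
  have hinv : ∀ (g : Gp F m) x y z,
      nform (β (nRep k g x) (nRep k g y)) (nRep k g z) = nform (β x y) z := fun g x y z => by
    rw [heq, nform_invariant]
  obtain ⟨u, hu⟩ := IsCyclic.exists_ofOrder_eq_natCard (α := Fˣ)
  rw [Nat.card_units, Nat.card_eq_fintype_card] at hu
  have hbad : ∀ a b d, C a b d ≠ 0 →
      (a, b, d) ∈ ([(0, 1, 1), (1, 0, 1), (1, 1, 0), (3, 2, 2), (2, 3, 2), (2, 2, 3)] :
        List (Fin 4 × Fin 4 × Fin 4)) := by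
    intro a b d hne
    refine wexp_bad (m := m) hP.one_le ?_
    have hcol : ∀ j, nRep k (gH (m := m) u) (Pi.single j 1) =
        ((((u ^ wexp m j : Fˣ)) : F) ^ 2 ^ k) • Pi.single j 1 := fun j => by
      rw [nRep_single]
      funext i
      rw [mx_gH]
      by_cases hij : i = j
      · subst hij
        simp [htMat_exp]
      · rw [htMat, Matrix.diagonal_apply_ne _ hij, zero_pow (pow_ne_zero _ two_ne_zero)]
        simp [hij]
    have h := hinv (gH (m := m) u) (Pi.single a 1) (Pi.single b 1) (Pi.single d 1)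
    rw [hcol, hcol, hcol] at h
    simp only [LinearMap.map_smul, LinearMap.smul_apply] at h
    have h' : (((u ^ wexp m a * u ^ wexp m b * u ^ wexp m d : Fˣ)) : F) ^ 2 ^ k * C a b d = C a b d := by
      refine Eq.trans ?_ h
      simp [hC, nform, Finset.mul_sum, mul_pow]
      exact Finset.sum_congr rfl fun _ _ => by ring
    have h1 := (mul_eq_right₀ hne).1 h'
    rw [← iterateFrobenius_def, ← map_one (iterateFrobenius F 2 k)] at h1
    have h2 := (iterateFrobenius F 2 k).injective h1
    rw [Units.val_eq_one, ← _root_.zpow_add, ← _root_.zpow_add, ← orderOf_dvd_iff_zpow_eq_one, hu, hP.card] at h2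
    rw [Nat.cast_sub Nat.one_le_two_pow] at h2
    simpa using h2
  have hzero : ∀ a b d, (a, b, d) ∉ ([(0, 1, 1), (1, 0, 1), (1, 1, 0), (3, 2, 2), (2, 3, 2), (2, 2, 3)] :
      List (Fin 4 × Fin 4 × Fin 4)) → C a b d = 0 := fun a b d h => by
    by_contra hne
    exact h (hbad a b d hne)
  have hz1 : nRep k (gT (m := m) (0 : F) 1) (Pi.single (1 : Fin 4) 1) = Pi.single (1 : Fin 4) 1 := by
    rw [nRep_single]
    funext i
    fin_cases i <;> simp [mx_gT, trMat, ov]
  have hz2 : nRep k (gT (m := m) (0 : F) 1) (Pi.single (2 : Fin 4) 1) =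
      Pi.single (0 : Fin 4) 1 + Pi.single (2 : Fin 4) 1 := by
    rw [nRep_single]
    funext i
    fin_cases i <;> simp [mx_gT, trMat, ov]
  have h011 : C 0 1 1 = 0 ∧ C 1 0 1 = 0 ∧ C 1 1 0 = 0 := by
    refine ⟨?_, ?_, ?_⟩
    · have h := hinv (gT (m := m) (0 : F) 1) (Pi.single 2 1) (Pi.single 1 1) (Pi.single 1 1)
      rw [hz1, hz2, map_add, LinearMap.add_apply] at h
      simp only [nform, Pi.add_apply, add_mul, Finset.sum_add_distrib, add_eq_right] at h
      exact h
    · have h := hinv (gT (m := m) (0 : F) 1) (Pi.single 1 1) (Pi.single 2 1) (Pi.single 1 1)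
      rw [hz1, hz2, map_add] at h
      simp only [nform, Pi.add_apply, add_mul, Finset.sum_add_distrib, add_eq_right] at h
      exact h
    · have h := hinv (gT (m := m) (0 : F) 1) (Pi.single 1 1) (Pi.single 1 1) (Pi.single 2 1)
      rw [hz1, hz2] at h
      simp only [nform, Pi.add_apply, mul_add, Finset.sum_add_distrib, add_eq_right] at h
      exact h
  have hrev : ∀ a b d, C a b d = C a.rev b.rev d.rev := by
    intro a b d
    have hcol : ∀ j, nRep k (gW F m) (Pi.single j 1) = Pi.single j.rev 1 := fun j => by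
      rw [nRep_single, mx_gW]
      funext i
      fin_cases i <;> fin_cases j <;> simp [Cfsg.suzukiForm, Fin.rev]
    have h := hinv (gW F m) (Pi.single a 1) (Pi.single b 1) (Pi.single d 1)
    rw [hcol, hcol, hcol] at h
    exact h.symm
  have hall : ∀ a b d, C a b d = 0 := by
    intro a b d
    by_cases h : (a, b, d) ∈ ([(0, 1, 1), (1, 0, 1), (1, 1, 0), (3, 2, 2), (2, 3, 2), (2, 2, 3)] :
        List (Fin 4 × Fin 4 × Fin 4))
    · simp only [List.mem_cons, Prod.mk.injEq, List.not_mem_nil, or_false] at h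
      obtain ⟨e1, e2, e3⟩ := h011
      rcases h with ⟨rfl, rfl, rfl⟩ | ⟨rfl, rfl, rfl⟩ | ⟨rfl, rfl, rfl⟩ | ⟨rfl, rfl, rfl⟩ |
        ⟨rfl, rfl, rfl⟩ | ⟨rfl, rfl, rfl⟩
      · exact e1
      · exact e2
      · exact e3
      · rw [hrev]; exact e1
      · rw [hrev]; exact e2
      · rw [hrev]; exact e3
    · exact hzero a b d h
  refine LinearMap.pi_ext' fun a => LinearMap.ext_ring (LinearMap.pi_ext' fun b => LinearMap.ext_ring ?_)
  funext d
  have := hall a b d.rev
  simp only [hC, nform] at this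
  rw [Finset.sum_eq_single d (fun f _ hf => by
    rw [Pi.single_eq_of_ne (fun e => hf (Fin.rev_injective e)), mul_zero]) (by simp),
    Pi.single_eq_same, mul_one] at this
  simpa using this

/-- Equivariant pairings of natural modules vanish. -/
theorem pairing_natural (i j k : Fin (2 * m + 1))
    (β : (Fin 4 → F) →ₗ[F] (Fin 4 → F) →ₗ[F] (Fin 4 → F))
    (heq : ∀ (g : Gp F m) x y, β (nRep (i : ℕ) g x) (nRep (j : ℕ) g y) = nRep (k : ℕ) g (β x y)) :
    β = 0 := by
  by_cases hij : i = j
  swap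
  · exact pairing_ne hij _ β heq
  subst hij
  by_cases hik : i = k
  · subst hik
    exact pairing_eq _ β heq
  let β' : (Fin 4 → F) →ₗ[F] (Fin 4 → F) →ₗ[F] (Fin 4 → F) :=
    LinearMap.mk₂ F (fun x z b => nform (β x (Pi.single b.rev 1)) z)
      (fun x x' z => funext fun b => by simp [nform, add_mul, Finset.sum_add_distrib])
      (fun r x z => funext fun b => by simp [nform, Finset.mul_sum, mul_assoc])
      (fun x z z' => funext fun b => by simp [nform, mul_add, Finset.sum_add_distrib])
      (fun r x z => funext fun b => by simp [nform, Finset.mul_sum, mul_left_comm])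
  have hkey : ∀ x y z, nform y (β' x z) = nform (β x y) z := fun x y z => by
    conv_rhs => rw [pi_eq_sum_univ' y, map_sum]
    simp only [LinearMap.map_smul, nform, Finset.sum_apply, Pi.smul_apply, smul_eq_mul, Finset.sum_mul]
    rw [Finset.sum_comm]
    refine Finset.sum_congr rfl fun b _ => ?_
    simp [β', nform, Finset.mul_sum, mul_assoc]
  have h0 := pairing_ne hik (i : ℕ) β' fun g x z => nform_ext fun y => by
    rw [hkey, ← rep_apply_inv (nRep (i : ℕ)) g y, heq, nform_invariant, nform_invariant, hkey]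
  refine LinearMap.ext fun x => LinearMap.ext fun y => funext fun a => ?_
  have h := hkey x y (Pi.single a.rev 1)
  simp only [h0, LinearMap.zero_apply, nform, Pi.zero_apply, mul_zero, Finset.sum_const_zero] at h
  rw [Finset.sum_eq_single a (fun f _ hf => by
    rw [Pi.single_eq_of_ne (fun e => hf (Fin.rev_injective e)), mul_zero]) (by simp),
    Pi.single_eq_same, mul_one] at h
  simpa using h.symm

section Linear

variable {X : Type*} [AddCommGroup X] [Module F X]

/-- Restriction to an invariant subspace. -/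
def resRep (ρ : Gp F m →* Module.End F X) (W : Submodule F X) (hW : ∀ g, ∀ v ∈ W, ρ g v ∈ W) :
    Gp F m →* Module.End F W where
  toFun g := (ρ g).restrict (hW g)
  map_one' := LinearMap.ext fun v => Subtype.ext (rep_one ρ (v : X))
  map_mul' g h := LinearMap.ext fun v => Subtype.ext (rep_mul ρ g h (v : X))

/-- The action on the quotient by an invariant subspace. -/
def quotRep (ρ : Gp F m →* Module.End F X) (W : Submodule F X) (hW : ∀ g, ∀ v ∈ W, ρ g v ∈ W) :
    Gp F m →* Module.End F (X ⧸ W) where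
  toFun g := W.mapQ W (ρ g) (hW g)
  map_one' := Submodule.linearMap_qext _ (LinearMap.ext fun v => congrArg W.mkQ (rep_one ρ v))
  map_mul' g h := Submodule.linearMap_qext _ (LinearMap.ext fun v => congrArg W.mkQ (rep_mul ρ g h v))

theorem Fpf.res {ρ : Gp F m →* Module.End F X} (hf : Fpf ρ) (W : Submodule F X)
    (hW : ∀ g, ∀ v ∈ W, ρ g v ∈ W) : Fpf (resRep ρ W hW) :=
  ⟨fun v => Subtype.ext (by simpa [resRep] using hf.torus (v : X)),
   fun v => Subtype.ext (by
    rw [AddSubmonoidClass.coe_finsetSum, ZeroMemClass.coe_zero]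
    exact hf.five (v : X))⟩

theorem Fpf.quot {ρ : Gp F m →* Module.End F X} (hf : Fpf ρ) (W : Submodule F X)
    (hW : ∀ g, ∀ v ∈ W, ρ g v ∈ W) : Fpf (quotRep ρ W hW) := by
  constructor <;> intro v <;> obtain ⟨x, rfl⟩ := W.mkQ_surjective v
  · show ∑ t : Fˣ, W.mkQ (ρ (gH t) x) = 0
    rw [← map_sum, hf.torus, map_zero]
  · show ∑ k ∈ Finset.range 5, W.mkQ (ρ (el5 F m ^ k) x) = 0
    rw [← map_sum, hf.five, map_zero]

end Linear

universe u v w

/-- Equivariant pairings of fixed-point-free modules vanish. -/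
theorem pairing_linear (n : ℕ) : ∀ (X : Type u) (Y : Type v) (Z : Type w) [AddCommGroup X] [Module F X]
    [Finite X] [AddCommGroup Y] [Module F Y] [Finite Y] [AddCommGroup Z] [Module F Z] [Finite Z],
    Module.finrank F X + Module.finrank F Y + Module.finrank F Z ≤ n →
    ∀ (ρ : Gp F m →* Module.End F X) (σ : Gp F m →* Module.End F Y) (τ : Gp F m →* Module.End F Z),
    Fpf ρ → Fpf σ → Fpf τ → ∀ β : X →ₗ[F] Y →ₗ[F] Z,
    (∀ g x y, β (ρ g x) (σ g y) = τ g (β x y)) → β = 0 := by
  induction n using Nat.strong_induction_on with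
  | _ n IH =>
  intro X Y Z _ _ _ _ _ _ _ _ _ hn ρ σ τ hρ hσ hτ β heq
  have hsplit : ∀ {V : Type u} [AddCommGroup V] [Module F V] [Finite V] (W : Submodule F V),
      W ≠ ⊥ → W ≠ ⊤ → Module.finrank F W < Module.finrank F V ∧
        Module.finrank F (V ⧸ W) < Module.finrank F V := by
    intro V _ _ _ W h1 h2
    have := W.finrank_quotient_add_finrank
    haveI := Submodule.nontrivial_iff_ne_bot.2 h1
    have := Module.finrank_pos (R := F) (M := W)
    have := Submodule.finrank_lt h2
    omega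
  haveI hfinX : ∀ W : Submodule F X, Finite (X ⧸ W) := fun W => Finite.of_surjective _ W.mkQ_surjective
  by_cases hX : ∃ W : Submodule F X, (∀ g, ∀ v ∈ W, ρ g v ∈ W) ∧ W ≠ ⊥ ∧ W ≠ ⊤
  · obtain ⟨W, hW, h1, h2⟩ := hX
    obtain ⟨l1, l2⟩ := hsplit W h1 h2
    have hz : β ∘ₗ W.subtype = 0 := IH _ (by omega) W Y Z le_rfl (resRep ρ W hW) σ τ (hρ.res W hW)
      hσ hτ (β ∘ₗ W.subtype) fun g x y => heq g x y
    have hle : W ≤ LinearMap.ker β := fun x hx => LinearMap.congr_fun hz ⟨x, hx⟩
    have h0 : W.liftQ β hle = 0 := IH _ (by omega) (X ⧸ W) Y Z le_rfl (quotRep ρ W hW) σ τ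
      (hρ.quot W hW) hσ hτ _ fun g x y => by
        obtain ⟨x, rfl⟩ := W.mkQ_surjective x
        exact heq g x y
    exact LinearMap.ext fun x => LinearMap.congr_fun h0 (W.mkQ x)
  haveI hfinY : ∀ W : Submodule F Y, Finite (Y ⧸ W) := fun W => Finite.of_surjective _ W.mkQ_surjective
  by_cases hY : ∃ W : Submodule F Y, (∀ g, ∀ v ∈ W, σ g v ∈ W) ∧ W ≠ ⊥ ∧ W ≠ ⊤
  · obtain ⟨W, hW, h1, h2⟩ := hY
    have e1 := W.finrank_quotient_add_finrank
    haveI := Submodule.nontrivial_iff_ne_bot.2 h1
    have e2 := Module.finrank_pos (R := F) (M := W)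
    have e3 := Submodule.finrank_lt h2
    have hz : β.compl₂ W.subtype = 0 := IH _ (by omega) X W Z le_rfl ρ (resRep σ W hW) τ hρ
      (hσ.res W hW) hτ (β.compl₂ W.subtype) fun g x y => heq g x y
    have hle : ∀ x, W ≤ LinearMap.ker (β x) := fun x y hy =>
      LinearMap.congr_fun (LinearMap.congr_fun hz x) ⟨y, hy⟩
    let β' : X →ₗ[F] (Y ⧸ W) →ₗ[F] Z :=
      { toFun := fun x => W.liftQ (β x) (hle x)
        map_add' := fun a b => Submodule.linearMap_qext _ (LinearMap.ext fun y => by simp)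
        map_smul' := fun r a => Submodule.linearMap_qext _ (LinearMap.ext fun y => by simp) }
    have h0 : β' = 0 := IH _ (by omega) X (Y ⧸ W) Z le_rfl ρ (quotRep σ W hW) τ hρ
      (hσ.quot W hW) hτ β' fun g x y => by
        obtain ⟨y, rfl⟩ := W.mkQ_surjective y
        exact heq g x y
    exact LinearMap.ext fun x => LinearMap.ext fun y =>
      LinearMap.congr_fun (LinearMap.congr_fun h0 x) (W.mkQ y)
  haveI hfinZ : ∀ W : Submodule F Z, Finite (Z ⧸ W) := fun W => Finite.of_surjective _ W.mkQ_surjective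
  by_cases hZ : ∃ W : Submodule F Z, (∀ g, ∀ v ∈ W, τ g v ∈ W) ∧ W ≠ ⊥ ∧ W ≠ ⊤
  · obtain ⟨W, hW, h1, h2⟩ := hZ
    have e1 := W.finrank_quotient_add_finrank
    haveI := Submodule.nontrivial_iff_ne_bot.2 h1
    have e2 := Module.finrank_pos (R := F) (M := W)
    have e3 := Submodule.finrank_lt h2
    have hq : β.compr₂ W.mkQ = 0 := IH _ (by omega) X Y (Z ⧸ W) le_rfl ρ σ (quotRep τ W hW) hρ hσ
      (hτ.quot W hW) (β.compr₂ W.mkQ) fun g x y => congrArg W.mkQ (heq g x y)
    have hmem : ∀ x y, β x y ∈ W := fun x y =>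
      (Submodule.Quotient.mk_eq_zero W).1 (LinearMap.congr_fun (LinearMap.congr_fun hq x) y)
    let β' : X →ₗ[F] Y →ₗ[F] W :=
      LinearMap.mk₂ F (fun x y => ⟨β x y, hmem x y⟩) (fun _ _ _ => Subtype.ext (by simp))
        (fun _ _ _ => Subtype.ext (by simp)) (fun _ _ _ => Subtype.ext (by simp))
        (fun _ _ _ => Subtype.ext (by simp))
    have h0 : β' = 0 := IH _ (by omega) X Y W le_rfl ρ σ (resRep τ W hW) hρ hσ (hτ.res W hW) β'
      fun g x y => Subtype.ext (heq g x y)
    exact LinearMap.ext fun x => LinearMap.ext fun y =>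
      congrArg Subtype.val (LinearMap.congr_fun (LinearMap.congr_fun h0 x) y)
  -- all three modules are irreducible
  push Not at hX hY hZ
  rcases subsingleton_or_nontrivial X with h | h
  · exact LinearMap.ext fun x => by rw [Subsingleton.elim x 0, map_zero, map_zero]
  rcases subsingleton_or_nontrivial Y with h | h
  · exact LinearMap.ext fun x => LinearMap.ext fun y => by
      rw [Subsingleton.elim y 0, map_zero, map_zero]
  rcases subsingleton_or_nontrivial Z with h | h
  · exact LinearMap.ext fun x => LinearMap.ext fun y => Subsingleton.elim _ _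
  obtain ⟨i, eX, hi⟩ := exists_natural ρ hρ hX
  obtain ⟨j, eY, hj⟩ := exists_natural σ hσ hY
  obtain ⟨k, eZ, hk⟩ := exists_natural τ hτ hZ
  have h0 := pairing_natural i j k ((β ∘ₗ eX.toLinearMap).compl₂ eY.toLinearMap |>.compr₂ eZ.symm.toLinearMap)
    fun g x y => eZ.injective (by
      simp only [LinearMap.compr₂_apply, LinearMap.compl₂_apply, LinearMap.comp_apply,
        LinearEquiv.coe_coe, LinearEquiv.apply_symm_apply, hi, hj, hk]
      exact heq g _ _)
  refine LinearMap.ext fun x => LinearMap.ext fun y => eZ.symm.injective ?_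
  have := LinearMap.congr_fun (LinearMap.congr_fun h0 (eX.symm x)) (eY.symm y)
  simpa using this

section Additive

variable {X : Type u} [AddCommGroup X] [Module (ZMod 2) X]

/-- Extension of scalars of an action on a module of exponent two. -/
noncomputable def extRep (ρ : Gp F m →* Module.End ℤ X) :
    letI := ZMod.algebra F 2
    Gp F m →* Module.End F (F ⊗[ZMod 2] X) :=
  letI := ZMod.algebra F 2
  { toFun := fun g => LinearMap.baseChange F ((ρ g).toAddMonoidHom.toZModLinearMap 2)
    map_one' := by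
      ext v
      simp [rep_one ρ v]
    map_mul' := fun g h => by
      ext v
      simp [rep_mul ρ g h v] }

theorem Fpf.ext {V : Type u} [AddCommGroup V] [Module (ZMod 2) V] {π : Gp F m →* Module.End ℤ V}
    (hπ : Fpf π) : letI := ZMod.algebra F 2; Fpf (extRep π) := by
  letI := ZMod.algebra F 2
  constructor <;> intro v <;> induction v using TensorProduct.induction_on with
    | zero => simp
    | tmul r v => ?_
    | add a b ha hb => simp only [map_add, Finset.sum_add_distrib, ha, hb, add_zero]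
  · show ∑ t : Fˣ, r ⊗ₜ[ZMod 2] (π (gH t) v) = 0
    rw [← TensorProduct.tmul_sum, hπ.torus, TensorProduct.tmul_zero]
  · show ∑ k ∈ Finset.range 5, r ⊗ₜ[ZMod 2] (π (el5 F m ^ k) v) = 0
    rw [← TensorProduct.tmul_sum, hπ.five, TensorProduct.tmul_zero]

/-- Equivariant biadditive pairings of fixed-point-free modules of exponent two vanish. -/
theorem pairing_zero [Finite X] {Y : Type v} [AddCommGroup Y] [Module (ZMod 2) Y] [Finite Y] {Z : Type w}
    [AddCommGroup Z] [Module (ZMod 2) Z] [Finite Z] {ρ : Gp F m →* Module.End ℤ X}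
    {σ : Gp F m →* Module.End ℤ Y} {τ : Gp F m →* Module.End ℤ Z} (hρ : Fpf ρ) (hσ : Fpf σ)
    (hτ : Fpf τ) (β : X →+ Y →+ Z) (heq : ∀ g x y, β (ρ g x) (σ g y) = τ g (β x y)) :
    ∀ x y, β x y = 0 := by
  letI := ZMod.algebra F 2
  haveI : Finite (F ⊗[ZMod 2] X) := Module.finite_of_finite F
  haveI : Finite (F ⊗[ZMod 2] Y) := Module.finite_of_finite F
  haveI : Finite (F ⊗[ZMod 2] Z) := Module.finite_of_finite F
  let βl : X →ₗ[ZMod 2] Y →ₗ[ZMod 2] Z :=
    (AddMonoidHom.mk' (fun x => (β x).toZModLinearMap 2) fun a b =>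
      LinearMap.ext fun y => by simp).toZModLinearMap 2
  let βF : F ⊗[ZMod 2] X →ₗ[F] F ⊗[ZMod 2] Y →ₗ[F] F ⊗[ZMod 2] Z :=
    LinearMap.liftBaseChange F ((LinearMap.baseChangeHom (ZMod 2) F Y Z).comp βl)
  have hβF : ∀ a b x y, βF (a ⊗ₜ x) (b ⊗ₜ y) = (a * b) ⊗ₜ β x y := fun a b x y => by
    simp [βF, βl, LinearMap.baseChangeHom, TensorProduct.smul_tmul']
  have h0 : βF = 0 := pairing_linear _ _ _ _ le_rfl (extRep ρ) (extRep σ) (extRep τ) hρ.ext hσ.ext
    hτ.ext βF fun g x y => by
    induction x using TensorProduct.induction_on with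
    | zero => simp
    | add a b ha hb => simp only [map_add, LinearMap.add_apply, ha, hb]
    | tmul a x =>
      induction y using TensorProduct.induction_on with
      | zero => simp
      | add a b ha hb => simp only [map_add, ha, hb]
      | tmul b y => simp [extRep, hβF, heq]
  intro x y
  have h := hβF 1 1 x y
  rw [h0] at h
  refine (Module.forall_dual_apply_eq_zero_iff (ZMod 2) _).1 fun f => ?_
  have h' := congrArg (LinearMap.baseChange F f) h
  simp only [LinearMap.zero_apply, map_zero, LinearMap.baseChange_tmul, mul_one] at h'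
  have h'' := congrArg (TensorProduct.AlgebraTensorModule.rid (ZMod 2) F F) h'
  rw [map_zero, TensorProduct.AlgebraTensorModule.rid_tmul, Algebra.smul_def, mul_one] at h''
  exact (map_eq_zero _).1 h''.symm

end Additive

end CfsgLib.SuzMod
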