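import Cfsg.Agent.Lib.CNStruct.SuzTensor

/-!
# Irreducible fixed-point-free modules of the Suzuki group are twisted natural modules
-/

set_option autoImplicit false
set_option linter.unusedSectionVars false
set_option linter.style.haveILetI false

namespace CfsgLib.SuzMod

open CfsgLib.Suzuki Matrix

variable {F : Type*} [Field F] [Fintype F] [DecidableEq F] [CharP F 2] {m : ℕ} [hP : Param F m]

/-- The natural module twisted by a power of the Frobenius automorphism. -/
def nRep (k : ℕ) : Gp F m →* Module.End F (Fin 4 → F) where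
  toFun g := Matrix.mulVecLin ((mx g).map (iterateFrobenius F 2 k))
  map_one' := by
    rw [mx_one, Matrix.map_one _ (map_zero _) (map_one _), Matrix.mulVecLin_one]; rfl
  map_mul' g h := by rw [mx_mul, Matrix.map_mul, Matrix.mulVecLin_mul]; rfl

theorem nRep_apply (k : ℕ) (g : Gp F m) (v : Fin 4 → F) (i : Fin 4) :
    nRep k g v i = ∑ j, mx g i j ^ 2 ^ k * v j := by
  simp [nRep, Matrix.mulVec, dotProduct, iterateFrobenius_def]

/-- Left translation of functions. -/
def lRep : Gp F m →* Module.End F (Gp F m → F) where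
  toFun g := LinearMap.funLeft F F fun x => g⁻¹ * x
  map_one' := by ext f x; simp [LinearMap.funLeft]
  map_mul' g h := by ext f x; simp [LinearMap.funLeft, mul_assoc]

theorem lRep_apply (g : Gp F m) (f : Gp F m → F) (x : Gp F m) : lRep g f x = f (g⁻¹ * x) := rfl

/-- Every element is in the Borel subgroup or in the big cell. -/
theorem bruhat (g : Gp F m) :
    (∃ a b t, g = gT a b * gH t) ∨ ∃ p a b t, g = cell p * (gT a b * gH t) := by
  by_cases h : g • pinf F m = pinf F m
  · exact Or.inl (exists_eq_gT_mul_gH h)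
  · right
    obtain ⟨x, y, hxy⟩ := exists_gT_smul _ h
    obtain ⟨a, b, t, ht⟩ := exists_eq_gT_mul_gH (g := (cell (x, y))⁻¹ * g) (by
      rw [mul_smul, inv_smul_eq_iff, cell, mul_smul, gW_smul_pinf, hxy])
    exact ⟨(x, y), a, b, t, by rw [← ht, mul_inv_cancel_left]⟩

theorem cell_smul_pinf (p : F × F) : cell (m := m) p • pinf F m = paff p.1 p.2 := by
  rw [cell, mul_smul, gW_smul_pinf, gT_smul_paff]
  simp

/-- The torus character of a set of factors. -/
def chi (m : ℕ) (I : Finset (Fin (2 * m + 1))) (t : Fˣ) : F :=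
  (sg F m (t : F) * t) ^ (∑ i ∈ I, 2 ^ (i : ℕ))

theorem sq_pred (t : Fˣ) : (sg F m (t : F) * t) ^ (2 ^ (m + 1) - 1) = t := by
  rw [sg_def, ← pow_succ, ← pow_mul]
  obtain ⟨r, hr⟩ : ∃ r, 2 ^ (m + 1) = r + 1 :=
    ⟨2 ^ (m + 1) - 1, (Nat.sub_add_cancel Nat.one_le_two_pow).symm⟩
  have hq : 2 * Fintype.card F = (r + 1) * (r + 1) := by
    rw [← hr, hP.card, ← pow_add, ← pow_succ']
    congr 1
    omega
  have h1 := FiniteField.pow_card_sub_one_eq_one (t : F) t.ne_zero
  rw [hr, Nat.add_sub_cancel,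
    show (r + 1 + 1) * r = (Fintype.card F - 1) * 2 + 1 by
      have : (r + 1) * (r + 1) = (r + 1 + 1) * r + 1 := by ring
      have := card_pos' (F := F)
      omega,
    pow_succ, pow_mul, h1, one_pow, one_mul]

/-- Every character of the torus comes from a set of factors. -/
theorem exists_chi (e : ℕ) : ∃ I : Finset (Fin (2 * m + 1)), ∀ t : Fˣ, chi m I t = (t : F) ^ e := by
  classical
  set n := Fintype.card F - 1
  set N := (2 ^ (m + 1) - 1) * e % n
  have hn : 0 < n := by have := card_pos' (F := F); omega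
  have hN : N < 2 ^ (2 * m + 1) := by
    have := Nat.mod_lt ((2 ^ (m + 1) - 1) * e) hn
    rw [← hP.card]
    omega
  refine ⟨Finset.univ.filter fun i : Fin (2 * m + 1) => (i : ℕ) ∈ N.bitIndices, fun t => ?_⟩
  have hsum : ∑ i ∈ Finset.univ.filter (fun i : Fin (2 * m + 1) => (i : ℕ) ∈ N.bitIndices),
      2 ^ (i : ℕ) = N := by
    refine Eq.trans ?_ (Finset.twoPowSum_toFinset_bitIndices N)
    refine Finset.sum_nbij (fun i => (i : ℕ)) (fun i hi => by simpa using hi)
      (fun _ _ _ _ h => Fin.ext h) (fun j hj => ?_) fun _ _ => rfl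
    have hj' : j ∈ N.bitIndices := by simpa using hj
    have : 2 ^ j ≤ N := Nat.two_pow_le_of_mem_bitIndices hj'
    exact ⟨⟨j, (Nat.pow_lt_pow_iff_right one_lt_two).1 (this.trans_lt hN)⟩, by simpa using hj', rfl⟩
  have ha : (sg F m (t : F) * t) ^ n = 1 := FiniteField.pow_card_sub_one_eq_one _
    (mul_ne_zero ((map_ne_zero (sg F m)).2 t.ne_zero) t.ne_zero)
  rw [chi, hsum, ← pow_eq_pow_mod _ ha, pow_mul, sq_pred]

theorem prod_pow_finset (I : Finset (Fin (2 * m + 1))) (x : F) :
    ∏ i : I, x ^ 2 ^ ((i : Fin (2 * m + 1)) : ℕ) = x ^ (∑ i ∈ I, 2 ^ (i : ℕ)) := by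
  rw [Finset.prod_coe_sort I fun i => x ^ 2 ^ (i : ℕ), ← Finset.prod_pow_eq_pow_sum]

theorem tRep_gH_vtop (I : Finset (Fin (2 * m + 1))) (t : Fˣ) :
    tRep I (gH (m := m) t) (vtop I) = chi m I t • vtop I := by
  funext f
  rw [tRep_apply, vtop, Matrix.mulVec_single_one]
  show TM I (gH (m := m) t) f (top4 I) = _
  rw [TM_apply, Pi.smul_apply, mx_gH, htMat]
  by_cases h : f = top4 I
  · subst h
    simp only [Pi.single_eq_same, smul_eq_mul, mul_one, top4, Matrix.diagonal_apply_eq]
    exact prod_pow_finset I _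
  · obtain ⟨i, hi⟩ := Function.ne_iff.1 h
    rw [Pi.single_eq_of_ne h, smul_zero]
    exact Finset.prod_eq_zero (Finset.mem_univ i)
      (by rw [Matrix.diagonal_apply_ne _ hi, zero_pow (pow_ne_zero _ two_ne_zero)])

theorem phi_right (I : Finset (Fin (2 * m + 1))) (v : Vec F I) (g : Gp F m) (a b : F) (t : Fˣ) :
    phi I v (g * (gT a b * gH t)) = chi m I t * phi I v g := by
  rw [phi, phi, rep_mul, rep_mul, tRep_gH_vtop, LinearMap.map_smul, vtop_ufixed, LinearMap.map_smul]
  simp [bform, Finset.mul_sum, mul_assoc]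

variable {X : Type*} [AddCommGroup X] [Module F X] [Finite X]

/-- An irreducible fixed-point-free module is a tensor product. -/
theorem exists_tensor (ρ : Gp F m →* Module.End F X) (hf : Fpf ρ)
    (hirr : ∀ W : Submodule F X, (∀ g, ∀ v ∈ W, ρ g v ∈ W) → W ≠ ⊥ → W = ⊤) [Nontrivial X] :
    ∃ I : Finset (Fin (2 * m + 1)), I.Nonempty ∧
      ∃ e : Vec F I ≃ₗ[F] X, ∀ g v, e (tRep I g v) = ρ g (e v) := by
  obtain ⟨e, v, -, hv0, hvU, hvH⟩ := exists_weight ρ ⊤ (fun _ _ _ => Submodule.mem_top) top_ne_bot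
  obtain ⟨I, hI⟩ := exists_chi (F := F) (m := m) e
  have hne : ∃ t : Fˣ, (t : F) ^ e ≠ 1 := by
    by_contra h
    push Not at h
    have h0 := hf.torus v
    simp only [hvH, h, one_smul, Finset.sum_const, Finset.card_univ, Fintype.card_units] at h0
    rw [← Nat.cast_smul_eq_nsmul F, pred_card_cast, one_smul] at h0
    exact hv0 h0
  have hIne : I.Nonempty := by
    by_contra h
    obtain ⟨t, ht⟩ := hne
    rw [Finset.not_nonempty_iff_eq_empty] at h
    exact ht (by rw [← hI, h, chi, Finset.sum_empty, pow_zero])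
  refine ⟨I, hIne, ?_⟩
  -- matrix coefficients of `v`
  let Ψ : (X →ₗ[F] F) →ₗ[F] (Gp F m → F) :=
    { toFun := fun ξ g => ξ (ρ g v)
      map_add' := fun _ _ => rfl
      map_smul' := fun _ _ => rfl }
  have hΨ : Function.Injective Ψ := by
    rw [injective_iff_map_eq_zero]
    intro ξ hξ
    have h := hirr (Submodule.span F (Set.range fun g => ρ g v)) (fun g w hw => by
      induction hw using Submodule.span_induction with
      | mem x hx =>
        obtain ⟨g', rfl⟩ := hx
        exact Submodule.subset_span ⟨g * g', rep_mul ρ g g' v⟩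
      | zero => rw [map_zero]; exact Submodule.zero_mem _
      | add x y _ _ hx hy => rw [map_add]; exact Submodule.add_mem _ hx hy
      | smul r x _ hx => rw [LinearMap.map_smul]; exact Submodule.smul_mem _ r hx)
      ((Submodule.ne_bot_iff _).2 ⟨v, Submodule.subset_span ⟨1, rep_one ρ v⟩, hv0⟩)
    exact LinearMap.ext_on_range h fun g => congrFun hξ g
  have hright : ∀ f ∈ LinearMap.range Ψ, ∀ g a b t,
      f (g * (gT a b * gH t)) = (t : F) ^ e * f g := by
    rintro _ ⟨ξ, rfl⟩ g a b t
    show ξ (ρ (g * (gT a b * gH t)) v) = _ * ξ (ρ g v)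
    rw [rep_mul, rep_mul, hvH, LinearMap.map_smul, hvU, LinearMap.map_smul, LinearMap.map_smul,
      smul_eq_mul]
  have hinv : ∀ g, ∀ f ∈ LinearMap.range Ψ, lRep g f ∈ LinearMap.range Ψ := by
    rintro g _ ⟨ξ, rfl⟩
    refine ⟨ξ ∘ₗ ρ g⁻¹, funext fun x => ?_⟩
    show ξ (ρ g⁻¹ (ρ x v)) = ξ (ρ (g⁻¹ * x) v)
    rw [rep_mul]
  have hWne : LinearMap.range Ψ ≠ ⊥ := by
    rw [Ne, LinearMap.range_eq_bot]
    intro h
    obtain ⟨ξ, hξ⟩ := Module.Projective.exists_dual_ne_zero F hv0
    refine hξ ?_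
    have := congrFun (LinearMap.congr_fun h ξ) 1
    show ξ v = 0
    rw [← rep_one ρ v]
    exact this
  -- the characteristic function of the big cell
  have hbord : ∀ p : F × F, cell (m := m) p • pinf F m ≠ pinf F m := fun p => by
    rw [cell_smul_pinf]; exact paff_ne_pinf _ _
  have hΦ1 : phi I (vtop I) (1 : Gp F m) = 0 := by
    rw [phi, rep_one]
    show bform I (Pi.single (top4 I) 1) (vtop I) = (0 : F)
    rw [bform_single, vtop, Pi.single_eq_of_ne]
    intro h
    obtain ⟨i, hi⟩ := hIne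
    have := congrFun h ⟨i, hi⟩
    simp [revI, top4, Fin.rev] at this
  have hΦc : ∀ p : F × F, phi I (vtop I) (cell (m := m) p) = (1 : F) := fun p => by
    rw [phi_cell, Finset.sum_eq_single (revI I (top4 I))]
    · rw [revI_revI, vtop, Pi.single_eq_same, one_mul, pfun_eq]
      simp [revI, top4, Suzuki.vec, Fin.rev]
    · intro f _ hf'
      rw [vtop, Pi.single_eq_of_ne, zero_mul]
      exact fun h => hf' (by rw [← h, revI_revI])
    · simp
  have hext : ∀ f : Gp F m → F, (∀ g a b t, f (g * (gT a b * gH t)) = (t : F) ^ e * f g) →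
      f 1 = 0 → ∀ c, (∀ p, f (cell p) = c) → f = c • phi I (vtop I) := by
    intro f hf' h1 c hc
    funext g
    rcases bruhat g with ⟨a, b, t, rfl⟩ | ⟨p, a, b, t, rfl⟩
    · rw [Pi.smul_apply, ← one_mul (gT a b * gH t), hf', phi_right, h1, hΦ1]
      simp
    · rw [Pi.smul_apply, hf', phi_right, hc, hΦc, hI, smul_eq_mul, mul_one, mul_comm]
  have hmemΦ : phi I (vtop I) ∈ LinearMap.range Ψ := by
    obtain ⟨d, f, hf, hf0, hfU, hfH⟩ := exists_weight (lRep (F := F) (m := m)) _ hinv hWne
    have hr := hright f hf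
    have hcell : ∀ p, f (cell p) = f (gW F m) := fun p => by
      have h := congrFun (hfU p.1 p.2) (cell p)
      rw [lRep_apply, cell, inv_mul_cancel_left] at h
      exact h.symm
    have h1d : ∀ t : Fˣ, ((t⁻¹ : Fˣ) : F) ^ e * f 1 = (t : F) ^ d * f 1 := fun t => by
      have h := congrFun (hfH t) 1
      rw [lRep_apply, mul_one, Pi.smul_apply, smul_eq_mul] at h
      rw [← h, ← hr 1 0 0 t⁻¹, one_mul, gT_zero, one_mul, map_inv]
    have hwd : ∀ t : Fˣ, (t : F) ^ e * f (gW F m) = (t : F) ^ d * f (gW F m) := fun t => by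
      have h := congrFun (hfH t) (gW F m)
      rw [lRep_apply, Pi.smul_apply, smul_eq_mul] at h
      rw [← h, show (gH t)⁻¹ * gW F m = gW F m * (gT 0 0 * gH t) by
        rw [gT_zero, one_mul, ← gW_conj_gH]; group, hr]
    by_cases h1 : f 1 = 0
    · have e' := hext f hr h1 _ hcell
      have hc : f (gW F m) ≠ 0 := fun h => hf0 (by rw [e', h, zero_smul])
      rw [e'] at hf
      exact ((LinearMap.range Ψ).smul_mem_iff hc).1 hf
    · have hw0 : f (gW F m) = 0 := by
        by_contra hw
        obtain ⟨t, ht⟩ := hne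
        refine ht ?_
        have a1 := mul_right_cancel₀ h1 (h1d t)
        have a2 := mul_right_cancel₀ hw (hwd t)
        rw [← a2, Units.val_inv_eq_inv_val, inv_pow] at a1
        have a3 : ((t : F) ^ e - 1) ^ 2 = 0 := by
          have := inv_mul_cancel₀ (pow_ne_zero e t.ne_zero)
          rw [a1] at this
          linear_combination this + (1 - (t : F) ^ e) * two_eq_zero (F := F)
        exact sub_eq_zero.1 (eq_zero_of_pow_eq_zero a3)
      have hs : ∑ p, lRep (cell p) f ∈ LinearMap.range Ψ := sum_mem fun p _ => hinv _ _ hf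
      have e' : ∑ p, lRep (cell p) f = f 1 • phi I (vtop I) := by
        refine hext _ (fun g a b t => ?_) ?_ _ fun q => ?_
        · rw [Finset.sum_apply, Finset.sum_apply, Finset.mul_sum]
          exact Finset.sum_congr rfl fun p _ => by rw [lRep_apply, lRep_apply, ← hr, mul_assoc]
        · rw [Finset.sum_apply]
          refine Finset.sum_eq_zero fun p _ => ?_
          rw [lRep_apply, mul_one]
          rcases bruhat (cell (m := m) p)⁻¹ with ⟨a, b, t, h⟩ | ⟨p', a, b, t, h⟩
          · refine absurd ?_ (hbord p)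
            rw [eq_comm, ← inv_smul_eq_iff, h, mul_smul, gH_smul_pinf, gT_smul_pinf]
          · rw [h, hr, hcell, hw0, mul_zero]
        · rw [Finset.sum_apply, Finset.sum_eq_single q]
          · rw [lRep_apply, inv_mul_cancel]
          · intro p _ hpq
            rw [lRep_apply]
            rcases bruhat ((cell (m := m) p)⁻¹ * cell q) with ⟨a, b, t, h⟩ | ⟨p', a, b, t, h⟩
            · refine absurd ?_ hpq
              have : cell (m := m) q • pinf F m = cell (m := m) p • pinf F m := by
                rw [← mul_inv_cancel_left (cell (m := m) p) (cell q), h, mul_smul, mul_smul, gH_smul_pinf (m := m),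
                  gT_smul_pinf]
              rw [cell_smul_pinf, cell_smul_pinf] at this
              exact Prod.ext (paff_inj this).1.symm (paff_inj this).2.symm
            · rw [h, hr, hcell, hw0, mul_zero]
          · simp
      rw [e'] at hs
      exact ((LinearMap.range Ψ).smul_mem_iff h1).1 hs
  -- the tensor product maps into the coefficients
  let Φ : Vec F I →ₗ[F] (Gp F m → F) :=
    { toFun := fun l => phi I l
      map_add' := fun a b => funext fun g => by
        simp [phi, bform, mul_add, Finset.sum_add_distrib]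
      map_smul' := fun r a => funext fun g => by
        simp [phi, bform, Finset.mul_sum, mul_left_comm] }
  have hΦrep : ∀ g l, Φ (tRep I g l) = lRep g (Φ l) := fun g l => funext fun x => phi_rep I g l x
  have hle : ∀ l, Φ l ∈ LinearMap.range Ψ := by
    intro l
    have h := tRep_irreducible I ((LinearMap.range Ψ).comap Φ)
      (fun g x hx => by
        rw [Submodule.mem_comap] at hx ⊢
        rw [hΦrep]; exact hinv g _ hx)
      ((Submodule.ne_bot_iff _).2 ⟨vtop I, hmemΦ, vtop_ne_zero I⟩)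
    have hl : l ∈ (LinearMap.range Ψ).comap Φ := h ▸ Submodule.mem_top
    exact hl
  let ψ : Vec F I →ₗ[F] (X →ₗ[F] F) :=
    (LinearEquiv.ofInjective Ψ hΨ).symm.toLinearMap ∘ₗ LinearMap.codRestrict _ Φ hle
  have hψ : ∀ l g, ψ l (ρ g v) = phi I l g := fun l g => by
    have := congrArg Subtype.val ((LinearEquiv.ofInjective Ψ hΨ).apply_symm_apply ⟨Φ l, hle l⟩)
    exact congrFun this g
  have hψeq : ∀ l g x, ψ (tRep I g l) x = ψ l (ρ g⁻¹ x) := by
    intro l g x
    have h : Ψ (ψ (tRep I g l)) = Ψ (ψ l ∘ₗ ρ g⁻¹) := funext fun y => by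
      show ψ (tRep I g l) (ρ y v) = ψ l (ρ g⁻¹ (ρ y v))
      rw [hψ, ← rep_mul, hψ, phi_rep]
    exact LinearMap.congr_fun (hΨ h) x
  let χ : X →ₗ[F] Vec F I :=
    { toFun := fun x f => ψ (Pi.single (revI I f) 1) x
      map_add' := fun a b => funext fun f => map_add _ a b
      map_smul' := fun r a => funext fun f => LinearMap.map_smul _ r a }
  have hχ : ∀ l x, bform I l (χ x) = ψ l x := fun l x => by
    rw [bform, LinearMap.pi_apply_eq_sum_univ ψ l, LinearMap.sum_apply]
    refine Finset.sum_congr rfl fun f _ => ?_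
    show l f * ψ (Pi.single (revI I (revI I f)) 1) x = _
    rw [revI_revI, LinearMap.smul_apply, smul_eq_mul]
    congr 3
    funext j
    simp [Pi.single_apply, eq_comm]
  have hχeq : ∀ g x, χ (ρ g x) = tRep I g (χ x) := fun g x => funext fun f => by
    rw [← revI_revI I f, ← bform_single I _ (χ (ρ g x)), ← bform_single I _ (tRep I g (χ x)), hχ,
      ← inv_inv g, ← bform_inv_apply, hχ, hψeq, inv_inv]
  have hinj : Function.Injective χ := by
    rw [← LinearMap.ker_eq_bot]
    by_contra hk
    have h := hirr _ (fun g x hx => by rw [LinearMap.mem_ker] at hx ⊢; rw [hχeq, hx, map_zero]) hk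
    have hv' : v ∈ LinearMap.ker χ := h ▸ Submodule.mem_top
    rw [LinearMap.mem_ker] at hv'
    have hsw : phi I (Pi.single (top4 I) 1) (1 : Gp F m) = 0 := by
      rw [← hψ, rep_one, ← hχ, hv']; simp [bform]
    have hone : phi I (vtop I) (cell (m := m) (0, 0)) = (1 : F) := hΦc _
    rw [← hψ, ← hχ] at hone
    have h0 : χ (ρ (cell (m := m) (0, 0)) v) = 0 := by rw [hχeq, hv', map_zero]
    rw [h0] at hone
    simp [bform] at hone
  have hsur : LinearMap.range χ = ⊤ := tRep_irreducible I _
    (by rintro g _ ⟨x, rfl⟩; exact ⟨ρ g x, hχeq g x⟩)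
    ((Submodule.ne_bot_iff _).2 ⟨χ v, ⟨v, rfl⟩, fun h => hv0 (hinj (h.trans (map_zero χ).symm))⟩)
  let E := LinearEquiv.ofBijective χ ⟨hinj, LinearMap.range_eq_top.1 hsur⟩
  refine ⟨E.symm, fun g l => E.injective ?_⟩
  rw [E.apply_symm_apply]
  show _ = χ (ρ g (E.symm l))
  rw [hχeq]
  exact congrArg (tRep I g) (E.apply_symm_apply l).symm

/-- An irreducible fixed-point-free module is a twisted natural module. -/
theorem exists_natural (ρ : Gp F m →* Module.End F X) (hf : Fpf ρ)
    (hirr : ∀ W : Submodule F X, (∀ g, ∀ v ∈ W, ρ g v ∈ W) → W ≠ ⊥ → W = ⊤) [Nontrivial X] :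
    ∃ (k : Fin (2 * m + 1)) (e : (Fin 4 → F) ≃ₗ[F] X),
      ∀ g v, e (nRep (k : ℕ) g v) = ρ g (e v) := by
  obtain ⟨I, hI, e, he⟩ := exists_tensor ρ hf hirr
  have h1 : ¬ 2 ≤ I.card := fun h2 => not_fpf (F := F) I h2
    ⟨fun v => e.injective (by simp [map_sum, he, hf.torus]),
     fun v => e.injective (by simp only [map_sum, he, map_zero, hf.five])⟩
  obtain ⟨k, rfl⟩ := Finset.card_eq_one.1 (show I.card = 1 by
    have := hI.card_pos; omega)
  let u : Idx ({k} : Finset (Fin (2 * m + 1))) ≃ Fin 4 :=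
    { toFun := fun f => f ⟨k, Finset.mem_singleton_self k⟩
      invFun := fun j _ => j
      left_inv := fun f => funext fun ⟨i, hi⟩ => by
        obtain rfl := Finset.mem_singleton.1 hi
        rfl
      right_inv := fun _ => rfl }
  refine ⟨k, (LinearEquiv.funCongrLeft F F u).trans e, fun g v => ?_⟩
  rw [LinearEquiv.trans_apply, LinearEquiv.trans_apply, ← he]
  congr 1
  funext f
  rw [tRep_apply]
  show nRep (k : ℕ) g v (u f) = ∑ f', TM {k} g f f' * v (u f')
  rw [nRep_apply]
  refine (Fintype.sum_equiv u _ _ fun f' => ?_).symm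
  rw [TM_apply]
  congr 1
  rw [Fintype.prod_eq_single ⟨k, Finset.mem_singleton_self k⟩
    fun i hi => absurd (Subtype.ext (Finset.mem_singleton.1 i.2)) hi]
  rfl

end CfsgLib.SuzMod
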