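import Cfsg.Agent.Lib.CNStruct.SuzBasic

/-!
# Tensor products of twisted natural modules of the Suzuki group

They are irreducible, embed into the functions on the big cell, and fail to be fixed-point-free once
there are two factors.
-/

set_option autoImplicit false
set_option linter.unusedSectionVars false
set_option linter.style.haveILetI false

namespace CfsgLib.SuzMod

open CfsgLib.Suzuki Matrix

variable {F : Type*} [Field F] [Fintype F] [DecidableEq F] [CharP F 2] {m : ℕ} [hP : Param F m]

/-- The indices of a tensor product with factors `I`. -/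
abbrev Idx (I : Finset (Fin (2 * m + 1))) : Type := I → Fin 4

/-- The vectors of a tensor product with factors `I`. -/
abbrev Vec (F : Type*) {m : ℕ} (I : Finset (Fin (2 * m + 1))) : Type _ := Idx I → F

variable (I : Finset (Fin (2 * m + 1)))

/-- The matrix of an element in a tensor product of twisted natural modules. -/
def TM (g : Gp F m) : Matrix (Idx I) (Idx I) F :=
  Matrix.of fun f f' => ∏ i : I, mx g (f i) (f' i) ^ 2 ^ ((i : Fin (2 * m + 1)) : ℕ)

theorem TM_apply (g : Gp F m) (f f' : Idx I) :
    TM I g f f' = ∏ i : I, mx g (f i) (f' i) ^ 2 ^ ((i : Fin (2 * m + 1)) : ℕ) := rfl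

theorem sum_pow_two (k : ℕ) {ι : Type*} (s : Finset ι) (f : ι → F) :
    (∑ i ∈ s, f i) ^ 2 ^ k = ∑ i ∈ s, f i ^ 2 ^ k :=
  map_sum (iterateFrobenius F 2 k) f s

theorem TM_mul (g h : Gp F m) : TM I (g * h) = TM I g * TM I h := by
  ext f f'
  rw [Matrix.mul_apply, TM_apply]
  simp only [TM_apply, mx_mul, Matrix.mul_apply, sum_pow_two, mul_pow, ← Finset.prod_mul_distrib]
  exact Fintype.prod_sum fun (i : I) j =>
    mx g (f i) j ^ 2 ^ ((i : Fin (2 * m + 1)) : ℕ) * mx h j (f' i) ^ 2 ^ ((i : Fin (2 * m + 1)) : ℕ)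

theorem TM_one : TM I (1 : Gp F m) = 1 := by
  ext f f'
  rw [TM_apply, mx_one]
  by_cases h : f = f'
  · subst h
    simp
  · obtain ⟨i, hi⟩ := Function.ne_iff.1 h
    rw [Matrix.one_apply_ne h]
    exact Finset.prod_eq_zero (Finset.mem_univ i)
      (by rw [Matrix.one_apply_ne hi, zero_pow (pow_ne_zero _ two_ne_zero)])

/-- The tensor product of the twisted natural modules with factors `I`. -/
def tRep : Gp F m →* Module.End F (Vec F I) where
  toFun g := Matrix.mulVecLin (TM I g)
  map_one' := by rw [TM_one, Matrix.mulVecLin_one]; rfl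
  map_mul' g h := by rw [TM_mul, Matrix.mulVecLin_mul]; rfl

theorem tRep_apply (g : Gp F m) (v : Vec F I) : tRep I g v = TM I g *ᵥ v := rfl

/-- The top index. -/
def top4 : Idx I := fun _ => 0

/-- Reversal of indices. -/
def revI (f : Idx I) : Idx I := fun i => (f i).rev

theorem revI_revI (f : Idx I) : revI I (revI I f) = f := funext fun i => Fin.rev_rev (f i)

/-- Reversal as a permutation. -/
def revE : Equiv.Perm (Idx I) := ⟨revI I, revI I, revI_revI I, revI_revI I⟩

/-- The invariant form. -/
def bform (u v : Vec F I) : F := ∑ f, u f * v (revI I f)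

theorem form_entries (g : Gp F m) (a b : Fin 4) :
    ∑ k : Fin 4, mx g k a * mx g k.rev b = if b = a.rev then 1 else 0 := by
  have h := congrFun (congrFun (form_eq g) a) b
  rw [show (if b = a.rev then (1 : F) else 0) = Cfsg.suzukiForm F a b by
    fin_cases a <;> fin_cases b <;> simp [Cfsg.suzukiForm, Fin.rev], ← h]
  simp [Matrix.mul_apply, Fin.sum_univ_four, Cfsg.suzukiForm, Fin.rev]
  ring

theorem TM_invariant (g : Gp F m) (x y : Idx I) :
    ∑ f, TM I g f x * TM I g (revI I f) y = if y = revI I x then 1 else 0 := by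
  simp only [TM_apply, ← Finset.prod_mul_distrib, revI]
  rw [← Fintype.prod_sum fun (i : I) j => mx g j (x i) ^ 2 ^ ((i : Fin (2 * m + 1)) : ℕ) *
    mx g j.rev (y i) ^ 2 ^ ((i : Fin (2 * m + 1)) : ℕ)]
  simp only [← mul_pow, ← sum_pow_two, form_entries]
  by_cases h : y = revI I x
  · rw [if_pos h]
    exact Finset.prod_eq_one fun i _ => by rw [if_pos (show y i = (x i).rev from congrFun h i), one_pow]
  · rw [if_neg h]
    obtain ⟨i, hi⟩ := Function.ne_iff.1 h
    exact Finset.prod_eq_zero (Finset.mem_univ i)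
      (by rw [if_neg (show ¬ y i = (x i).rev from hi), zero_pow (pow_ne_zero _ two_ne_zero)])

theorem bform_invariant (g : Gp F m) (u v : Vec F I) :
    bform I (tRep I g u) (tRep I g v) = bform I u v := by
  simp only [bform, tRep_apply, Matrix.mulVec, dotProduct, Finset.sum_mul_sum]
  rw [Finset.sum_comm]
  refine Finset.sum_congr rfl fun x _ => ?_
  rw [Finset.sum_comm]
  calc ∑ y, ∑ f, TM I g f x * u x * (TM I g (revI I f) y * v y)
      = ∑ y, (∑ f, TM I g f x * TM I g (revI I f) y) * (u x * v y) := by
        refine Finset.sum_congr rfl fun y _ => ?_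
        rw [Finset.sum_mul]
        exact Finset.sum_congr rfl fun f _ => by ring
    _ = _ := by
        rw [Finset.sum_eq_single (revI I x) (fun y _ hy => by rw [TM_invariant, if_neg hy, zero_mul])
          (by simp), TM_invariant, if_pos rfl, one_mul]

theorem bform_inv_apply (g : Gp F m) (u v : Vec F I) :
    bform I (tRep I g u) v = bform I u (tRep I g⁻¹ v) := by
  conv_lhs => rw [← rep_apply_inv (tRep I) g v]
  exact bform_invariant I g u _

theorem bform_single (x : Idx I) (v : Vec F I) : bform I (Pi.single x 1) v = v (revI I x) := by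
  rw [bform, Finset.sum_eq_single x (fun f _ hf => by rw [Pi.single_eq_of_ne hf, zero_mul]) (by simp),
    Pi.single_eq_same, one_mul]

/-- The highest weight vector. -/
def vtop : Vec F I := Pi.single (top4 I) 1

theorem vtop_ne_zero : (vtop I : Vec F I) ≠ 0 := fun h => by
  have := congrFun h (top4 I)
  simp [vtop] at this

/-- The matrix coefficient against the highest weight vector. -/
def phi (v : Vec F I) (g : Gp F m) : F := bform I (tRep I g (vtop I)) v

theorem phi_rep (h : Gp F m) (v : Vec F I) (g : Gp F m) :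
    phi I (tRep I h v) g = phi I v (h⁻¹ * g) := by
  rw [phi, phi, rep_mul, bform_inv_apply I h⁻¹, inv_inv]

theorem phi_eq (v : Vec F I) (g : Gp F m) :
    phi I v g = ∑ f, TM I g f (top4 I) * v (revI I f) := by
  rw [phi, bform, vtop]
  simp [tRep_apply, Matrix.mulVec, dotProduct, Pi.single_apply]

/-- A point of the big cell. -/
def cell (p : F × F) : Gp F m := gT p.1 p.2 * gW F m

theorem mx_cell_zero (p : F × F) (j : Fin 4) : mx (cell (m := m) p) j 0 = Suzuki.vec m p.1 p.2 j := by
  rw [cell, mx_mul, mx_gT, mx_gW]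
  fin_cases j <;> simp [trMat, Suzuki.vec, Cfsg.suzukiForm, Matrix.mul_apply, Fin.sum_univ_four]

/-- The coordinates of the big cell. -/
def pfun (f : Idx I) (p : F × F) : F := TM I (cell (m := m) p) f (top4 I)

theorem pfun_eq (f : Idx I) (p : F × F) :
    pfun I f p = ∏ i : I, Suzuki.vec m p.1 p.2 (f i) ^ 2 ^ ((i : Fin (2 * m + 1)) : ℕ) := by
  simp only [pfun, TM_apply, top4, mx_cell_zero]

theorem prod_pow_two_range (x : F) (n : ℕ) : ∏ i ∈ Finset.range n, x ^ 2 ^ i = x ^ (2 ^ n - 1) := by
  induction n with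
  | zero => simp
  | succ n ih =>
    rw [Finset.prod_range_succ, ih, ← pow_add]
    congr 1
    have := Nat.one_le_two_pow (n := n)
    rw [pow_succ]
    omega

/-- The products of all factors span all functions on the big cell. -/
theorem span_pfun :
    ⊤ ≤ Submodule.span F (Set.range fun f : Idx (Finset.univ : Finset (Fin (2 * m + 1))) =>
      pfun (F := F) Finset.univ f) := by
  set S := Submodule.span F (Set.range fun f : Idx (Finset.univ : Finset (Fin (2 * m + 1))) =>
      pfun (F := F) Finset.univ f)
  -- translations preserve the span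
  have htrans : ∀ (c : F × F) (h : F × F → F), h ∈ S →
      (fun p : F × F => h (c.1 + p.1, c.2 + p.2 + sg F m c.1 * p.1)) ∈ S := by
    intro c h hh
    induction hh using Submodule.span_induction with
    | mem x hx =>
      obtain ⟨f, rfl⟩ := hx
      have he : (fun p : F × F => pfun (F := F) (m := m) Finset.univ f (c.1 + p.1, c.2 + p.2 + sg F m c.1 * p.1)) =
          ∑ f', TM Finset.univ (gT (m := m) c.1 c.2) f f' • pfun Finset.univ f' := by
        funext p
        rw [Finset.sum_apply, pfun, cell, ← gT_mul (m := m), mul_assoc, TM_mul, Matrix.mul_apply]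
        rfl
      show _ ∈ S
      rw [he]
      exact sum_mem fun f' _ => S.smul_mem _ (Submodule.subset_span ⟨f', rfl⟩)
    | zero => exact S.zero_mem
    | add x y _ _ hx hy => exact S.add_mem hx hy
    | smul r x _ hx => exact S.smul_mem r hx
  -- the function supported at the origin
  have hdelta : (fun p : F × F => if p = (0, 0) then (1 : F) else 0) ∈ S := by
    have h3 : pfun (F := F) (m := m) Finset.univ (fun _ => (3 : Fin 4)) =
        fun _ : F × F => (1 : F) := by
      funext p
      rw [pfun_eq]
      simp [Suzuki.vec]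
    have h0 : pfun (F := F) (m := m) Finset.univ (fun _ => (0 : Fin 4)) =
        fun p : F × F => ov m p.1 p.2 ^ (Fintype.card F - 1) := by
      funext p
      rw [pfun_eq, Finset.prod_coe_sort Finset.univ fun i : Fin (2 * m + 1) => Suzuki.vec m p.1 p.2 0 ^ 2 ^ (i : ℕ),
        Fin.prod_univ_eq_prod_range (fun i => Suzuki.vec m p.1 p.2 0 ^ 2 ^ i), prod_pow_two_range, hP.card]
      rfl
    have e : (fun p : F × F => if p = (0, 0) then (1 : F) else 0) =
        pfun (F := F) (m := m) Finset.univ (fun _ => (3 : Fin 4)) + pfun (m := m) Finset.univ (fun _ => (0 : Fin 4)) := by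
      funext p
      rw [Pi.add_apply, h3, h0]
      by_cases hp : p = (0, 0)
      · subst hp
        rw [if_pos rfl]
        have hn : Fintype.card F - 1 ≠ 0 := by have := card_pos' (F := F); omega
        simp [ov, zero_pow hn]
      · rw [if_neg hp]
        have hne := ov_ne_zero hP.card (m := m) (x := p.1) (y := p.2) fun h => hp (Prod.ext h.1 h.2)
        simp only
        rw [FiniteField.pow_card_sub_one_eq_one _ hne, CharTwo.add_self_eq_zero]
    rw [e]
    exact S.add_mem (Submodule.subset_span ⟨_, rfl⟩) (Submodule.subset_span ⟨_, rfl⟩)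
  intro h _
  have hh : h = ∑ q : F × F, h q •
      fun p : F × F => if p = q then (1 : F) else 0 := by
    funext p
    simp [Finset.sum_apply]
  rw [hh]
  refine sum_mem fun q _ => S.smul_mem _ ?_
  convert htrans (q.1, q.2 + sg F m q.1 * q.1) _ hdelta using 1
  funext p
  refine if_congr ⟨?_, ?_⟩ rfl rfl
  · rintro rfl
    exact Prod.ext (CharTwo.add_self_eq_zero _) (by
      show p.2 + sg F m p.1 * p.1 + p.2 + sg F m p.1 * p.1 = 0
      linear_combination (p.2 + sg F m p.1 * p.1) * two_eq_zero (F := F))
  · intro e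
    obtain ⟨e1, e2⟩ := Prod.ext_iff.1 e
    have e1' : p.1 = q.1 := (CharTwo.add_eq_zero.1 e1).symm
    refine Prod.ext e1' (CharTwo.add_eq_zero.1 ?_)
    simp only at e2
    rw [e1'] at e2
    linear_combination e2 - (sg F m q.1 * q.1) * two_eq_zero (F := F)

/-- Extension of an index by `3`. -/
def extI (f : Idx I) : Idx (Finset.univ : Finset (Fin (2 * m + 1))) :=
  fun i => if h : (i : Fin (2 * m + 1)) ∈ I then f ⟨i, h⟩ else 3

theorem extI_injective : Function.Injective (extI I) := fun f f' h => funext fun i => by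
  have := congrFun h ⟨i, Finset.mem_univ _⟩
  simpa [extI] using this

theorem pfun_extI (f : Idx I) : pfun (F := F) Finset.univ (extI I f) = pfun I f := by
  funext p
  set φ : Fin (2 * m + 1) → F := fun i =>
    if h : i ∈ I then Suzuki.vec m p.1 p.2 (f ⟨i, h⟩) ^ 2 ^ (i : ℕ) else 1 with hφ
  rw [pfun_eq, pfun_eq]
  calc _ = ∏ i : {i // i ∈ (Finset.univ : Finset (Fin (2 * m + 1)))}, φ i :=
        Finset.prod_congr rfl fun i _ => by
          by_cases h : (i : Fin (2 * m + 1)) ∈ I <;> simp [hφ, extI, h, Suzuki.vec]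
    _ = ∏ i, φ i := Finset.prod_coe_sort Finset.univ φ
    _ = ∏ i ∈ I, φ i := (Finset.prod_subset (Finset.subset_univ I) fun i _ h => by simp [hφ, h]).symm
    _ = ∏ i : I, φ i := (Finset.prod_coe_sort I φ).symm
    _ = _ := Finset.prod_congr rfl fun i _ => by simp [hφ]

theorem pfun_independent : LinearIndependent F fun f : Idx I => pfun (F := F) I f := by
  have h : LinearIndependent F fun f : Idx (Finset.univ : Finset (Fin (2 * m + 1))) =>
      pfun (F := F) Finset.univ f := by
    refine linearIndependent_of_top_le_span_of_card_eq_finrank span_pfun ?_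
    rw [Module.finrank_fintype_fun_eq_card, Fintype.card_fun, Fintype.card_prod, Fintype.card_fin,
      Fintype.card_coe, Finset.card_univ, Fintype.card_fin, hP.card, ← mul_pow]; norm_num
  have h' := h.comp _ (extI_injective I)
  convert h' using 1
  funext f
  exact (pfun_extI I f).symm

theorem phi_cell (v : Vec F I) (p : F × F) :
    phi I v (cell p) = ∑ f, v (revI I f) * pfun I f p := by
  rw [phi_eq]
  exact Finset.sum_congr rfl fun f _ => mul_comm _ _

/-- The fixed vectors of the translations form the highest weight line. -/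
theorem ufixed_top {v : Vec F I} (hv : UFixed (tRep I) v) : v = v (top4 I) • vtop I := by
  have hconst : ∀ p : F × F, phi I v (cell p) = phi I v (gW F m) := fun p => by
    have h := phi_rep I (gT p.1 p.2) v (cell p)
    rwa [hv, cell, inv_mul_cancel_left] at h
  set f3 : Idx I := fun _ => 3
  set c : Idx I → F := fun f => v (revI I f) - if f = f3 then phi I v (gW F m) else 0 with hc
  have h3 : ∀ p : F × F, pfun I f3 p = 1 := fun p => by rw [pfun_eq]; simp [f3, Suzuki.vec]
  have h0 : ∑ f, c f • pfun (F := F) I f = 0 := by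
    funext p
    simp [hc, Finset.sum_apply, sub_mul, Finset.sum_sub_distrib, h3, ← phi_cell, hconst p]
  have hall := Fintype.linearIndependent_iff.1 (pfun_independent (F := F) I) c h0
  funext x
  rw [Pi.smul_apply, vtop, smul_eq_mul]
  by_cases hx : x = top4 I
  · subst hx; rw [Pi.single_eq_same, mul_one]
  · rw [Pi.single_eq_of_ne hx, mul_zero]
    have hne : revI I x ≠ f3 := fun e => hx (funext fun i => by
      have := congrFun e i
      simp only [revI, f3] at this
      rw [← Fin.rev_rev (x i), this]
      rfl)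
    have := hall (revI I x)
    simp only [hc] at this
    rwa [if_neg hne, sub_zero, revI_revI] at this

theorem vtop_ufixed : UFixed (tRep (F := F) I) (vtop I) := by
  intro a b
  funext f
  rw [tRep_apply, vtop, Matrix.mulVec_single_one]
  show TM I (gT (m := m) a b) f (top4 I) = _
  rw [TM_apply]
  by_cases h : f = top4 I
  · subst h; simp [top4, mx_gT, trMat]
  · obtain ⟨i, hi⟩ := Function.ne_iff.1 h
    rw [Pi.single_eq_of_ne h]
    refine Finset.prod_eq_zero (Finset.mem_univ i) ?_
    rw [mx_gT, show trMat m a b (f i) (top4 I i) = 0 by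
      simp only [top4] at hi ⊢
      generalize f i = j at hi
      fin_cases j <;> first | exact absurd rfl hi | simp [trMat]]
    exact zero_pow (pow_ne_zero _ two_ne_zero)

/-- The bottom vector is a translate of the top one. -/
theorem rep_gW_vtop : tRep (F := F) I (gW F m) (vtop I) = Pi.single (revI I (top4 I)) 1 := by
  funext f
  rw [tRep_apply, vtop, Matrix.mulVec_single_one]
  show TM I (gW F m) f (top4 I) = _
  rw [TM_apply, mx_gW]
  by_cases h : f = revI I (top4 I)
  · subst h; simp [revI, top4, Cfsg.suzukiForm, Fin.rev]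
  · obtain ⟨i, hi⟩ := Function.ne_iff.1 h
    rw [Pi.single_eq_of_ne h]
    refine Finset.prod_eq_zero (Finset.mem_univ i) ?_
    rw [show Cfsg.suzukiForm F (f i) (top4 I i) = 0 by
      simp only [revI, top4] at hi ⊢
      generalize f i = j at hi
      fin_cases j <;> first | exact absurd rfl hi | simp [Cfsg.suzukiForm]]
    exact zero_pow (pow_ne_zero _ two_ne_zero)

/-- The tensor products are irreducible. -/
theorem tRep_irreducible (W : Submodule F (Vec F I)) (hW : ∀ g, ∀ v ∈ W, tRep I g v ∈ W)
    (hne : W ≠ ⊥) : W = ⊤ := by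
  have htop : ∀ W' : Submodule F (Vec F I), (∀ g, ∀ v ∈ W', tRep I g v ∈ W') → W' ≠ ⊥ → vtop I ∈ W' := by
    intro W' hW' hne'
    obtain ⟨v, hv, hv0, hU⟩ := exists_ufixed (tRep I) W' hW' hne'
    have e := ufixed_top I hU
    have hc : v (top4 I) ≠ 0 := fun h => hv0 (by rw [e, h, zero_smul])
    rw [e] at hv
    exact (W'.smul_mem_iff hc).1 hv
  let W' : Submodule F (Vec F I) :=
    { carrier := {v | ∀ u ∈ W, bform I u v = 0}
      zero_mem' := fun u _ => by simp [bform]
      add_mem' := fun {a b} ha hb u hu => by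
        simp only [bform, Pi.add_apply, mul_add, Finset.sum_add_distrib]
        exact (congrArg₂ (· + ·) (ha u hu) (hb u hu)).trans (add_zero 0)
      smul_mem' := fun r a ha u hu => by
        have := ha u hu
        simp only [bform, Pi.smul_apply, smul_eq_mul] at this ⊢
        rw [show ∑ f, u f * (r * a (revI I f)) = r * ∑ f, u f * a (revI I f) by
          rw [Finset.mul_sum]; exact Finset.sum_congr rfl fun f _ => by ring, this, mul_zero] }
  by_cases hb : W' = ⊥
  · by_contra hWtop
    obtain ⟨ξ, hξ0, hξ⟩ := W.exists_le_ker_of_lt_top (lt_top_iff_ne_top.2 hWtop)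
    refine hξ0 ?_
    have hv : (fun x => ξ (Pi.single (revI I x) 1)) ∈ W' := by
      intro u hu
      have h := hξ hu
      rw [LinearMap.mem_ker, LinearMap.pi_apply_eq_sum_univ ξ u] at h
      simp only [bform, revI_revI]
      rw [← h]
      refine Finset.sum_congr rfl fun f _ => ?_
      rw [smul_eq_mul]
      congr 2
      funext j
      simp [Pi.single_apply, eq_comm]
    rw [hb, Submodule.mem_bot] at hv
    refine LinearMap.pi_ext' fun x => LinearMap.ext_ring ?_
    have := congrFun hv (revI I x)
    simpa [revI_revI] using this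
  · exfalso
    have h1 : vtop I ∈ W' := htop W' (fun g v hv u hu => by
      have := hv _ (hW g⁻¹ u hu)
      rwa [bform_inv_apply, inv_inv] at this) hb
    have h2 := h1 _ (hW (gW F m) _ (htop W hW hne))
    rw [rep_gW_vtop, bform_single, revI_revI] at h2
    simp [vtop] at h2

/-- With two or more factors there are fixed points. -/
theorem not_fpf (h2 : 2 ≤ I.card) : ¬ Fpf (tRep (F := F) I) := by
  intro hf
  haveI : Nonempty I := (Finset.card_pos.1 (by omega)).coe_sort
  let i0 : I := Classical.arbitrary _
  let U : I → Finset (Fin 4) := fun i => if i = i0 then {0} else Finset.univ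
  let M : ℕ → Matrix (Fin 4) (Fin 4) F := fun k => mx (el5 F m ^ k)
  have hP' : ∀ k, ∑ f ∈ Fintype.piFinset U, TM I (el5 F m ^ k) f f =
      M k 0 0 ^ 2 ^ ((i0 : Fin (2 * m + 1)) : ℕ) *
        ∏ i ∈ Finset.univ.erase i0, (M k).trace ^ 2 ^ ((i : Fin (2 * m + 1)) : ℕ) := by
    intro k
    simp only [TM_apply]
    rw [← Finset.prod_univ_sum U fun i j => mx (el5 F m ^ k) j j ^ 2 ^ ((i : Fin (2 * m + 1)) : ℕ),
      ← Finset.mul_prod_erase _ _ (Finset.mem_univ i0)]
    congr 1
    · simp [U, M]
    · refine Finset.prod_congr rfl fun i hi => ?_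
      simp only [U, if_neg (Finset.ne_of_mem_erase hi)]
      exact (sum_pow_two _ _ _).symm
  have hsum : ∑ k ∈ Finset.range 5, (M k 0 0 ^ 2 ^ ((i0 : Fin (2 * m + 1)) : ℕ) *
      ∏ i ∈ Finset.univ.erase i0, (M k).trace ^ 2 ^ ((i : Fin (2 * m + 1)) : ℕ)) = 0 := by
    simp only [← hP']
    rw [Finset.sum_comm]
    refine Finset.sum_eq_zero fun f _ => ?_
    have h := congrFun (hf.five (Pi.single f 1)) f
    simp only [Finset.sum_apply, tRep_apply, Matrix.mulVec_single_one, Pi.zero_apply] at h
    exact h
  have he : (Finset.univ.erase i0).Nonempty := by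
    rw [← Finset.card_pos, Finset.card_erase_of_mem (Finset.mem_univ _), Finset.card_univ, Fintype.card_coe]
    omega
  have hm1 : M 1 = !![1, 1, 0, 1; 1, 0, 1, 0; 0, 1, 0, 0; 1, 0, 0, 0] := by
    ext i j
    fin_cases i <;> fin_cases j <;>
      simp [M, el5, mx_mul, mx_gT, mx_gW, trMat, ov, Cfsg.suzukiForm, Matrix.mul_apply, Fin.sum_univ_four]
  have hM : ∀ k l, M (k + l) = M k * M l := fun k l => by
    show mx (el5 F m ^ (k + l)) = _
    rw [pow_add, mx_mul]
  have t0 : (M 0).trace = 0 := by
    show (mx (el5 F m ^ 0)).trace = 0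
    rw [pow_zero, mx_one, Matrix.trace_one, Fintype.card_fin]
    exact (CharP.cast_eq_zero_iff F 2 4).2 (by norm_num)
  have d1 : M 1 0 0 = 1 ∧ (M 1).trace = 1 := by
    rw [hm1]; constructor <;> simp [Matrix.trace, Fin.sum_univ_four]
  have d2 : M 2 0 0 = 1 ∧ (M 2).trace = 1 := by
    rw [hM 1 1, hm1]
    constructor <;> simp [Matrix.trace, Matrix.mul_apply, Fin.sum_univ_four, CharTwo.add_self_eq_zero]
  have d3 : M 3 0 0 = 1 ∧ (M 3).trace = 1 := by
    rw [hM 2 1, hM 1 1, hm1]
    constructor <;> simp [Matrix.trace, Matrix.mul_apply, Fin.sum_univ_four, CharTwo.add_self_eq_zero]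
  have d4 : M 4 0 0 = 0 ∧ (M 4).trace = 1 := by
    rw [hM 3 1, hM 2 1, hM 1 1, hm1]
    constructor <;> simp [Matrix.trace, Matrix.mul_apply, Fin.sum_univ_four, CharTwo.add_self_eq_zero]
  obtain ⟨i1, hi1⟩ := he
  simp only [Finset.sum_range_succ, Finset.sum_range_zero, zero_add, t0, d1.1, d1.2, d2.1, d2.2,
    d3.1, d3.2, d4.1, d4.2] at hsum
  rw [show ∏ i ∈ Finset.univ.erase i0, (0 : F) ^ 2 ^ ((i : Fin (2 * m + 1)) : ℕ) = 0 from
    Finset.prod_eq_zero hi1 (zero_pow (pow_ne_zero _ two_ne_zero))] at hsum
  simp [CharTwo.add_self_eq_zero] at hsum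

end CfsgLib.SuzMod
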